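import Cfsg.Agent.H525.L2.Frame

/-!
# Subgroups of `PSL(2,q)` containing a Sylow `p`-subgroup (helper658, S4920)

`lemA` : `J` proper, `p ∤ |S : J|`: `q + 1 ∣ |S : J|`, and if the prime `r ≠ p` divides `|J|`, then `J` has a non-abelian normal
`{p, r}`-subgroup.
-/

set_option autoImplicit false
set_option linter.unusedSectionVars false

namespace Cfsg.Agent.H658.Reg

open Matrix Cfsg.Agent.H670.RankOne Cfsg.Agent.H670.SL2 Cfsg.Agent.H525.L2

universe u

variable {S : Type u} [Group S] {F : Type} [Field F] (D : H525.L2.Fr S F)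

theorem T_mul (a b : Fˣ) : D.T (a * b) = D.T a * D.T b := by
  show D.f (tor (a * b)) = D.f (tor a) * D.f (tor b)
  rw [map_mul, map_mul]

theorem T_one : D.T 1 = 1 := by
  show D.f (tor 1) = 1
  rw [map_one, map_one]

theorem T_inv (a : Fˣ) : D.T a⁻¹ = (D.T a)⁻¹ := by
  rw [eq_inv_iff_mul_eq_one, ← T_mul, inv_mul_cancel, T_one]

/-- product in the Borel subgroup -/
theorem XT_mul (s t : F) (a b : Fˣ) : D.X s * D.T a * (D.X t * D.T b) = D.X (s + (a : F) ^ 2 * t) * D.T (a * b) := by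
  have h := D.T_X a t
  rw [mul_inv_eq_iff_eq_mul] at h
  rw [D.X_add, T_mul]
  calc D.X s * D.T a * (D.X t * D.T b) = D.X s * (D.T a * D.X t) * D.T b := by group
    _ = D.X s * (D.X ((a : F) ^ 2 * t) * D.T a) * D.T b := by rw [h]
    _ = _ := by group

theorem XT_inv (s : F) (a : Fˣ) : (D.X s * D.T a)⁻¹ = D.X (-(((a⁻¹ : Fˣ) : F) ^ 2 * s)) * D.T a⁻¹ := by
  rw [inv_eq_iff_mul_eq_one, XT_mul, mul_inv_cancel, T_one, mul_one]
  have h : (a : F) * ((a⁻¹ : Fˣ) : F) = 1 := by rw [← Units.val_mul, mul_inv_cancel, Units.val_one]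
  have h1 : s + (a : F) ^ 2 * -(((a⁻¹ : Fˣ) : F) ^ 2 * s) = 0 := by
    linear_combination (-(s * ((a : F) * ((a⁻¹ : Fˣ) : F) + 1))) * h
  rw [h1, D.X_zero]

theorem XT_eq_one {s : F} {a : Fˣ} (h : D.X s * D.T a = 1) : s = 0 ∧ D.T a = 1 := by
  have h1 : D.f (x s * tor a) = 1 := by
    rw [map_mul]
    exact h
  have key : s = 0 := by
    rcases (D.ker _).1 h1 with h2 | h2
    · have h3 := congrArg e01 h2
      have h4 : e01 (1 : SpecialLinearGroup (Fin 2) F) = 0 := by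
        show ((1 : SpecialLinearGroup (Fin 2) F) : Matrix (Fin 2) (Fin 2) F) 0 1 = 0
        simp
      rw [mul01, x00, x01, tor01, tor11, h4, mul_zero, zero_add] at h3
      exact (mul_eq_zero.1 h3).resolve_right (Units.ne_zero _)
    · have h3 := congrArg e01 h2
      have h4 : e01 (-1 : SpecialLinearGroup (Fin 2) F) = 0 := by
        show ((-1 : SpecialLinearGroup (Fin 2) F) : Matrix (Fin 2) (Fin 2) F) 0 1 = 0
        simp
      rw [mul01, x00, x01, tor01, tor11, h4, mul_zero, zero_add] at h3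
      exact (mul_eq_zero.1 h3).resolve_right (Units.ne_zero _)
  refine ⟨key, ?_⟩
  rw [key, D.X_zero, one_mul] at h
  exact h

theorem XT_pow (s : F) (a : Fˣ) (n : ℕ) : ∃ t : F, (D.X s * D.T a) ^ n = D.X t * D.T (a ^ n) := by
  induction n with
  | zero => exact ⟨0, by rw [pow_zero, pow_zero, D.X_zero, T_one, one_mul]⟩
  | succ n ih =>
    obtain ⟨t, ht⟩ := ih
    refine ⟨t + ((a ^ n : Fˣ) : F) ^ 2 * s, ?_⟩
    rw [pow_succ, ht, XT_mul, pow_succ a]

theorem X_pow (s : F) (n : ℕ) : D.X s ^ n = D.X (n * s) := by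
  induction n with
  | zero => rw [pow_zero, Nat.cast_zero, zero_mul, D.X_zero]
  | succ n ih =>
    rw [pow_succ, ih, ← D.X_add]
    congr 1
    push_cast
    ring

theorem T_eq_one {a : Fˣ} (h : a ^ 2 = 1) : D.T a = 1 := by
  have h1 : (a : F) = 1 ∨ (a : F) = -1 := by
    have h2 : ((a : F)) ^ 2 = 1 := by rw [← Units.val_pow_eq_pow_val, h, Units.val_one]
    have h3 : ((a : F) - 1) * ((a : F) + 1) = 0 := by linear_combination h2
    rcases mul_eq_zero.1 h3 with h4 | h4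
    · exact Or.inl (sub_eq_zero.1 h4)
    · exact Or.inr (eq_neg_of_add_eq_zero_left h4)
  show D.f (tor a) = 1
  rw [D.ker]
  rcases h1 with h1 | h1
  · left
    have h2 : a = 1 := Units.ext h1
    rw [h2, map_one]
  · right
    have h3 : ((a⁻¹ : Fˣ) : F) = -1 := by
      rw [Units.val_inv_eq_inv_val, h1, inv_neg, inv_one]
    apply ext4
    · rw [tor00, h1]
      show -1 = ((-1 : SpecialLinearGroup (Fin 2) F) : Matrix (Fin 2) (Fin 2) F) 0 0
      simp
    · rw [tor01]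
      show 0 = ((-1 : SpecialLinearGroup (Fin 2) F) : Matrix (Fin 2) (Fin 2) F) 0 1
      simp
    · rw [tor10]
      show 0 = ((-1 : SpecialLinearGroup (Fin 2) F) : Matrix (Fin 2) (Fin 2) F) 1 0
      simp
    · rw [tor11, h3]
      show -1 = ((-1 : SpecialLinearGroup (Fin 2) F) : Matrix (Fin 2) (Fin 2) F) 1 1
      simp

/-- `X s` as a homomorphism. -/
def xS : Multiplicative F →* S where
  toFun s := D.X s.toAdd
  map_one' := D.X_zero
  map_mul' s t := D.X_add s.toAdd t.toAdd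

section Fin

variable [Finite S] [Fintype F]

/-- A conjugate of the root group is contained in a subgroup of index prime to the characteristic. -/
theorem exists_conj_X {p n : ℕ} [Fact p.Prime] (hq : Fintype.card F = p ^ n) (J : Subgroup S) (hJ : ¬ p ∣ J.index) :
    ∃ g : S, ∀ s, D.X s ∈ J.map (MulAut.conj g).toMonoidHom := by
  let _ : MulAction (Multiplicative F) (S ⧸ J) := MulAction.compHom _ (xS D)
  obtain ⟨gH, hg⟩ := (xh_pgroup hq).nonempty_fixed_point_of_prime_not_dvd_card (S ⧸ J) (by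
    rwa [← Subgroup.index_eq_card])
  obtain ⟨g, rfl⟩ := QuotientGroup.mk_surjective gH
  refine ⟨g, fun s => ?_⟩
  have h1 := hg (Multiplicative.ofAdd s)
  have h2 : ((D.X s * g : S) : S ⧸ J) = g := h1
  have h3 := QuotientGroup.eq.1 h2.symm
  refine ⟨g⁻¹ * (D.X s * g), h3, ?_⟩
  show g * (g⁻¹ * (D.X s * g)) * g⁻¹ = D.X s
  group

/-- A proper subgroup containing the root group is contained in the Borel subgroup. -/
theorem le_borel {J : Subgroup S} (hJ : J ≠ ⊤) (hX : ∀ s, D.X s ∈ J) :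
    Fintype.card F + 1 ∣ J.index ∧ ∀ z ∈ J, ∃ (s : F) (a : Fˣ), z = D.X s * D.T a := by
  have hne : J.comap D.f ≠ ⊤ := by
    intro h
    apply hJ
    rw [eq_top_iff]
    intro z _
    obtain ⟨y, rfl⟩ := D.surj z
    have : y ∈ J.comap D.f := by rw [h]; trivial
    exact this
  have hle := le_B_of_x (J.comap D.f) hX hne
  constructor
  · rw [← Subgroup.index_comap_of_surjective J D.surj, ← (data F).index_B]
    exact Subgroup.index_dvd_of_le hle
  · intro z hz
    obtain ⟨y, rfl⟩ := D.surj z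
    obtain ⟨s, t, ⟨a, rfl⟩, hy⟩ := hle (show y ∈ J.comap D.f from hz)
    refine ⟨s, a, ?_⟩
    rw [hy, map_mul]
    rfl

/-- the normal `{p, r}`-subgroup -/
def subA {J : Subgroup S} (r : ℕ) : Subgroup J where
  carrier := {z | ∃ (s : F) (a : Fˣ) (k : ℕ), (z : S) = D.X s * D.T a ∧ D.T (a ^ r ^ k) = 1}
  one_mem' := ⟨0, 1, 0, by rw [D.X_zero, T_one, one_mul]; rfl, by rw [one_pow, T_one]⟩
  mul_mem' := by
    rintro x y ⟨s, a, k, hx, ha⟩ ⟨t, b, l, hy, hb⟩
    refine ⟨s + (a : F) ^ 2 * t, a * b, k + l, ?_, ?_⟩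
    · rw [Subgroup.coe_mul, hx, hy, XT_mul]
    · rw [mul_pow, T_mul, pow_add, pow_mul, ← D.T_pow, ha, one_pow, one_mul, mul_comm (r ^ k), pow_mul, ← D.T_pow, hb,
        one_pow]
  inv_mem' := by
    rintro x ⟨s, a, k, hx, ha⟩
    refine ⟨-(((a⁻¹ : Fˣ) : F) ^ 2 * s), a⁻¹, k, ?_, ?_⟩
    · rw [Subgroup.coe_inv, hx, XT_inv]
    · rw [inv_pow, T_inv, ha, inv_one]

theorem lemA' {p r : ℕ} [hp : Fact p.Prime] [CharP F p] (hr : r.Prime) (hrp : r ≠ p) {J : Subgroup S} (hJ : J ≠ ⊤)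
    (hX : ∀ s, D.X s ∈ J) (hrJ : r ∣ Nat.card J) :
    ∃ A : Subgroup J, A.Normal ∧ (∀ t : ℕ, t.Prime → t ∣ Nat.card A → t = p ∨ t = r) ∧
      ∃ a ∈ A, ∃ b ∈ A, a * b ≠ b * a := by
  have hXp : ∀ s : F, D.X s ^ p = 1 := by
    intro s
    rw [X_pow, CharP.cast_eq_zero, zero_mul, D.X_zero]
  have hform := (le_borel D hJ hX).2
  refine ⟨subA D r, ?_, ?_, ?_⟩
  · constructor
    rintro z ⟨s, a, k, hz, ha⟩ g
    obtain ⟨u, b, hg⟩ := hform g g.2
    refine ⟨(u + (b : F) ^ 2 * s) + ((b * a : Fˣ) : F) ^ 2 * -(((b⁻¹ : Fˣ) : F) ^ 2 * u), a, k, ?_, ha⟩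
    rw [Subgroup.coe_mul, Subgroup.coe_mul, Subgroup.coe_inv, hz, hg, XT_inv, XT_mul, XT_mul]
    congr 2
    rw [mul_comm b a, mul_inv_cancel_right]
  · intro t ht htA
    have htf : Fact t.Prime := ⟨ht⟩
    obtain ⟨z, hz⟩ := exists_prime_orderOf_dvd_card' t htA
    obtain ⟨s, a, k, hz1, ha⟩ := z.2
    obtain ⟨v, hv⟩ := XT_pow D s a (r ^ k)
    have h1 : ((z : J) : S) ^ (r ^ k * p) = 1 := by
      rw [hz1, pow_mul, hv, ha, mul_one, hXp]
    have h2 : z ^ (r ^ k * p) = 1 := by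
      apply Subtype.ext
      apply Subtype.ext
      exact h1
    have h3 := orderOf_dvd_of_pow_eq_one h2
    rw [hz, ht.dvd_mul] at h3
    rcases h3 with h3 | h3
    · exact Or.inr ((Nat.prime_dvd_prime_iff_eq ht hr).1 (ht.dvd_of_dvd_pow h3))
    · exact Or.inl ((Nat.prime_dvd_prime_iff_eq ht hp.out).1 h3)
  · have hrf : Fact r.Prime := ⟨hr⟩
    obtain ⟨z, hz⟩ := exists_prime_orderOf_dvd_card' r hrJ
    obtain ⟨s, a, hza⟩ := hform z z.2
    obtain ⟨v, hv⟩ := XT_pow D s a r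
    have hzr : (z : S) ^ r = 1 := by
      have := pow_orderOf_eq_one z
      rw [hz] at this
      exact congrArg Subtype.val this
    rw [hza, hv] at hzr
    have h1 := (XT_eq_one D hzr).2
    refine ⟨z, ⟨s, a, 1, hza, by rwa [pow_one]⟩, ⟨D.X 1, hX 1⟩, ⟨1, 1, 0, by rw [T_one, mul_one], by
      rw [one_pow, T_one]⟩, ?_⟩
    intro hcomm
    have h2 : (z : S) * D.X 1 = D.X 1 * z := congrArg Subtype.val hcomm
    have h3 : D.X s * D.T a * (D.X 1 * D.T 1) = D.X 1 * D.T 1 * (D.X s * D.T a) := by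
      rw [T_one, mul_one, ← hza, h2]
    rw [XT_mul, XT_mul, one_mul, mul_one, mul_one, mul_left_inj] at h3
    have h4 : s + (a : F) ^ 2 = 1 + s := by
      have h5 : D.X (s + (a : F) ^ 2 - (1 + ((1 : Fˣ) : F) ^ 2 * s)) = 1 := by
        rw [sub_eq_add_neg, D.X_add, D.X_neg, h3, mul_inv_cancel]
      have h6 := D.X_eq_one h5
      rw [Units.val_one] at h6
      linear_combination h6
    have h5 : a ^ 2 = 1 := by
      apply Units.ext
      rw [Units.val_pow_eq_pow_val, Units.val_one]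
      linear_combination h4
    have h6 := T_eq_one D h5
    have h7 : (z : S) ^ p = 1 := by rw [hza, h6, mul_one, hXp]
    have h8 : z ^ p = 1 := Subtype.ext h7
    have h9 := orderOf_dvd_of_pow_eq_one h8
    rw [hz] at h9
    exact hrp ((Nat.prime_dvd_prime_iff_eq hr hp.out).1 h9)

include D in
/-- **Subgroups of index prime to `p`.** -/
theorem lemA {p n : ℕ} [hp : Fact p.Prime] [CharP F p] (hq : Fintype.card F = p ^ n) {J : Subgroup S} (hJ : J ≠ ⊤)
    (hpJ : ¬ p ∣ J.index) :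
    Fintype.card F + 1 ∣ J.index ∧ ∀ r : ℕ, r.Prime → r ≠ p → r ∣ Nat.card J →
    ∃ A : Subgroup J, A.Normal ∧ (∀ t : ℕ, t.Prime → t ∣ Nat.card A → t = p ∨ t = r) ∧
      ∃ a ∈ A, ∃ b ∈ A, a * b ≠ b * a := by
  obtain ⟨g, hg⟩ := exists_conj_X D hq J hpJ
  have hJ' : J.map (MulAut.conj g).toMonoidHom ≠ ⊤ := by
    intro h
    apply hJ
    rw [eq_top_iff]
    intro z _
    have h1 : g * z * g⁻¹ ∈ J.map (MulAut.conj g).toMonoidHom := by rw [h]; trivial
    obtain ⟨y, hy, hyz⟩ := h1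
    have h2 : g * y * g⁻¹ = g * z * g⁻¹ := hyz
    have h3 : y = z := mul_left_cancel (mul_right_cancel h2)
    rwa [← h3]
  have hidx : (J.map (MulAut.conj g).toMonoidHom).index = J.index :=
    Subgroup.index_map_equiv J (MulAut.conj g)
  constructor
  · rw [← hidx]
    exact (le_borel D hJ' hg).1
  · intro r hr hrp hrJ
    let e : J ≃* J.map (MulAut.conj g).toMonoidHom := (MulAut.conj g).subgroupMap J
    obtain ⟨A, hA, hA1, a, ha, b, hb, hab⟩ := lemA' D (p := p) hr hrp hJ' hg (by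
      rwa [← Nat.card_congr e.toEquiv])
    refine ⟨A.comap e.toMonoidHom, inferInstance, ?_, e.symm a, ?_, e.symm b, ?_, ?_⟩
    · intro t ht htd
      refine hA1 t ht ?_
      have h1 : Nat.card (A.comap e.toMonoidHom) = Nat.card A := by
        have h2 : Nat.card ((A.comap e.toMonoidHom).map e.toMonoidHom) = Nat.card (A.comap e.toMonoidHom) :=
          Subgroup.card_map_of_injective e.injective
        have h3 : (A.comap e.toMonoidHom).map e.toMonoidHom = A :=
          Subgroup.map_comap_eq_self_of_surjective (show Function.Surjective e.toMonoidHom from e.surjective) A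
        rw [← h2, h3]
      rwa [← h1]
    · show e (e.symm a) ∈ A
      rwa [e.apply_symm_apply]
    · show e (e.symm b) ∈ A
      rwa [e.apply_symm_apply]
    · intro h
      apply hab
      rw [← map_mul, ← map_mul] at h
      exact e.symm.injective h

end Fin

end Cfsg.Agent.H658.Reg
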