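import Cfsg.Agent.H658.Reg.LemL
import Cfsg.Agent.H33.IM
import Cfsg.Agent.S0188

/-!
# Characters of a product of two commuting subgroups (helper658, S4920)

* `exists_defl` : deflation along a surjective homomorphism;
* `even_of_central` : an irreducible character of a perfect group, not constant on a central subgroup of order two, has
  even degree;
* `prod_end` : the end of the odd case.
-/

set_option autoImplicit false
set_option linter.unusedSectionVars false

namespace Cfsg.Agent.H658.Reg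

open Cfsg Subgroup
open Cfsg.Agent.Characters.Core Cfsg.Agent.H33

universe u v w

/-- deflation along a surjective homomorphism -/
theorem exists_defl {A : Type u} {B : Type v} [Group A] [Finite A] [Group B] (f : A →* B)
    (hf : Function.Surjective f) {χ : A → ℂ} (hχ : IsIrrCharacter A χ) (h : ∀ k, f k = 1 → χ k = χ 1) :
    ∃ χ' : B → ℂ, IsIrrCharacter B χ' ∧ ∀ a, χ a = χ' (f a) := by
  classical
  have := Fintype.ofFinite f.ker
  obtain ⟨χ', h'⟩ := Cfsg.Agent.Blocks.Deflate.exists_deflation f.ker χ hχ (by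
    have h1 : ∀ n : f.ker, χ n = χ 1 := fun n => h n (MonoidHom.mem_ker.1 n.2)
    rw [Finset.sum_congr rfl fun n _ => h1 n, Finset.sum_const, nsmul_eq_mul]
    have h4 : 0 < (Finset.univ : Finset f.ker).card := Finset.card_pos.2 ⟨1, Finset.mem_univ _⟩
    exact mul_ne_zero (Nat.cast_ne_zero.2 h4.ne') (isIrr_apply_one_ne_zero hχ))
  let e := QuotientGroup.quotientKerEquivOfSurjective f hf
  refine ⟨(χ' : A ⧸ f.ker → ℂ) ∘ e.symm, isIrr_comp e.symm.toMonoidHom e.symm.surjective χ'.2, fun a => ?_⟩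
  have h2 : e.symm (f a) = (a : A ⧸ f.ker) := by
    rw [MulEquiv.symm_apply_eq]
    rfl
  show χ a = (χ' : A ⧸ f.ker → ℂ) (e.symm (f a))
  rw [h2, h']
  rfl

/-- A representation of a perfect group has determinant one. -/
theorem det_one_of_perfect {X : Type u} [Group X] (hX : commutator X = ⊤) {V : Type*}
    [AddCommGroup V] [Module ℂ V] (ρ : Representation ℂ X V) (g : X) :
    LinearMap.det (ρ g) = 1 := by
  let f : X →* ℂ := (LinearMap.det : (V →ₗ[ℂ] V) →* ℂ).comp ρ
  have h1 : g ∈ commutator X := by rw [hX]; trivial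
  have h2 : commutator X ≤ f.toHomUnits.ker := Abelianization.commutator_subset_ker _
  have h3 := congrArg Units.val ((MonoidHom.mem_ker).mp (h2 h1))
  simpa [f] using h3

theorem even_of_central {X : Type u} [Group X] [Finite X] (hX : commutator X = ⊤) {z : X} (hz : z ∈ center X)
    (hz2 : z * z = 1) {χ : X → ℂ} (hχ : IsIrrCharacter X χ) (h : χ z ≠ χ 1) {n : ℕ} (hn : χ 1 = n) : 2 ∣ n := by
  obtain ⟨m, ρ, hρ, rfl⟩ := hχ
  obtain ⟨w, hw⟩ := Characters.Central.exists_smul_of_comm ρ hρ (ρ z) (by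
    intro g
    rw [← map_mul, ← map_mul, Subgroup.mem_center_iff.1 hz g])
  have hpos := Characters.Central.finrank_pos_of_irr ρ hρ
  have : Nontrivial (Fin m → ℂ) := Module.nontrivial_of_finrank_pos hpos
  have hmn : m = n := by
    have h1 : ρ.character 1 = (m : ℂ) := by
      rw [Representation.char_one]
      simp
    rw [h1] at hn
    exact_mod_cast hn
  have hw2 : w * w = 1 := by
    have h1 : ρ z * ρ z = 1 := by rw [← map_mul, hz2, map_one]
    rw [hw, smul_mul_smul_comm, mul_one] at h1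
    obtain ⟨v, hv⟩ := exists_ne (0 : Fin m → ℂ)
    have h2 : (w * w) • v = v := by
      have := congrArg (fun f : Module.End ℂ (Fin m → ℂ) => f v) h1
      simpa using this
    have h4 : (w * w - 1) • v = 0 := by rw [sub_smul, one_smul, h2, sub_self]
    rcases smul_eq_zero.1 h4 with h | h
    · exact sub_eq_zero.1 h
    · exact absurd h hv
  have hw1 : w ≠ 1 := by
    rintro rfl
    apply h
    change LinearMap.trace ℂ _ (ρ z) = LinearMap.trace ℂ _ (ρ 1)
    rw [hw, one_smul, show ρ 1 = 1 from map_one ρ]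
  have hwm : w = -1 := by
    have h3 : (w - 1) * (w + 1) = 0 := by linear_combination hw2
    rcases mul_eq_zero.1 h3 with h4 | h4
    · exact absurd (sub_eq_zero.1 h4) hw1
    · linear_combination h4
  have hdet := det_one_of_perfect hX ρ z
  rw [hw, LinearMap.det_smul, hwm, map_one, mul_one, Module.finrank_fin_fun] at hdet
  rw [← hmn]
  by_contra hcon
  have hodd : Odd m := Nat.not_even_iff_odd.1 fun h => hcon (even_iff_two_dvd.1 h)
  rw [hodd.neg_one_pow] at hdet
  norm_num at hdet

section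

variable {X : Type u} {Y : Type v} {K : Type w} [Group X] [Finite X] [Group Y] [Finite Y] [Group K] [Finite K]

/-- **The end of the odd case.** `f : X × Y → K` surjective, `π : X → L` surjective, the kernel of `f` consists of the
pairs `(z, z⁻¹)` with `z` in the kernel of `π` (which is central of exponent two). -/
theorem prod_end (hX : commutator X = ⊤) (f : X × Y →* K) (hf : Function.Surjective f) {L : Type} [Group L]
    (π : X →* L) (hπ : Function.Surjective π) (j : π.ker →* Y)
    (hker : ∀ x y, f (x, y) = 1 → ∃ z : π.ker, x = z ∧ y = (j z)⁻¹)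
    (hker' : ∀ z : π.ker, f ((z : X), (j z)⁻¹) = 1)
    (hcen : π.ker ≤ center X) (hexp : ∀ z : π.ker, z * z = 1)
    {p r s : ℕ} (hp : p.Prime) (hr : r.Prime) (hp2 : p ≠ 2)
    (h2L : IM 2 L) (hsL : IM s L) (hprL : ¬ IM (p * r) L) (hprK : IM (p * r) K) (h2pK : ¬ IM (2 * p) K)
    (hrsK : ¬ IM (r * s) K) : False := by
  obtain ⟨⟨ψ, hψ⟩, hψd⟩ := hprK
  obtain ⟨β, θ, hβ, hθ, he⟩ := (S0188.result (ψ ∘ f)).1 (isIrr_comp f hf hψ)
  have he' : ∀ x y, ψ (f (x, y)) = β x * θ y := fun x y => congrFun he (x, y)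
  obtain ⟨b, -, hb⟩ := isIrr_apply_one hβ
  obtain ⟨t, -, ht⟩ := isIrr_apply_one hθ
  have hψ1 : ψ 1 = ((b * t : ℕ) : ℂ) := by
    have h1 := he' 1 1
    rw [hb, ht] at h1
    have h2 : f ((1 : X), (1 : Y)) = 1 := map_one f
    rw [h2] at h1
    rw [h1, Nat.cast_mul]
  have hd : p * r ∣ b * t := by
    change p * r ∣ charDegree ψ at hψd
    rwa [H670.PSing.charDegree_eq_of hψ1] at hψd
  have hβ0 := isIrr_apply_one_ne_zero hβ
  have hθ0 := isIrr_apply_one_ne_zero hθ
  -- values on the kernel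
  have hval : ∀ z : π.ker, β z * θ (j z)⁻¹ = β 1 * θ 1 := by
    intro z
    have h1 := he' z (j z)⁻¹
    rw [hker'] at h1
    have h2 := he' 1 1
    have h3 : f ((1 : X), (1 : Y)) = 1 := map_one f
    rw [h3] at h2
    rw [← h1, h2]
  have hinv : ∀ z : π.ker, (j z)⁻¹ = j z := by
    intro z
    rw [inv_eq_iff_mul_eq_one, ← map_mul, hexp, map_one]
  by_cases hν : ∀ z : π.ker, θ (j z) = θ 1
  · -- products with characters of `L`
    have hup : ∀ {m : ℕ}, IM m L → IM (m * t) K := by
      rintro m ⟨⟨α, hα⟩, hm⟩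
      obtain ⟨a, -, ha⟩ := isIrr_apply_one hα
      have hα' : IsIrrCharacter X (α ∘ π) := isIrr_comp π hπ hα
      have hp : IsIrrCharacter (X × Y) (fun z : X × Y => (α ∘ π) z.1 * θ z.2) :=
        (S0188.result _).2 ⟨α ∘ π, θ, hα', hθ, rfl⟩
      obtain ⟨χ', hχ', hval'⟩ := exists_defl f hf hp (by
        rintro ⟨x, y⟩ hxy
        obtain ⟨z, rfl, rfl⟩ := hker x y hxy
        show α (π z) * θ (j z)⁻¹ = α (π 1) * θ 1
        rw [MonoidHom.mem_ker.1 z.2, map_one, hinv, hν])
      have h1 : χ' 1 = ((a * t : ℕ) : ℂ) := by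
        have h2 := hval' 1
        rw [map_one] at h2
        rw [← h2]
        show α (π 1) * θ 1 = _
        rw [map_one, ha, ht, Nat.cast_mul]
      refine IM.of_apply_one hχ' h1 (Nat.mul_dvd_mul_right ?_ t)
      change m ∣ charDegree α at hm
      rwa [H670.PSing.charDegree_eq_of ha] at hm
    have hpt : ¬ p ∣ t := by
      intro h
      apply h2pK
      obtain ⟨χ, hχ⟩ := hup h2L
      exact ⟨χ, (Nat.mul_dvd_mul_left 2 h).trans hχ⟩
    have hrt : ¬ r ∣ t := by
      intro h
      apply hrsK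
      obtain ⟨χ, hχ⟩ := hup hsL
      refine ⟨χ, ?_⟩
      rw [mul_comm r s]
      exact (Nat.mul_dvd_mul_left s h).trans hχ
    -- `β` is a character of `L`
    obtain ⟨β', hβ', hval'⟩ := exists_defl π hπ hβ (by
      intro k hk
      have h1 := hval ⟨k, hk⟩
      rw [hinv, hν] at h1
      exact mul_right_cancel₀ hθ0 h1)
    apply hprL
    have h1 : β' 1 = (b : ℂ) := by
      have h2 := hval' 1
      rw [map_one] at h2
      rw [← h2, hb]
    refine IM.of_apply_one hβ' h1 ?_
    refine Nat.Coprime.dvd_of_dvd_mul_right ?_ hd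
    exact Nat.Coprime.mul_left ((Nat.Prime.coprime_iff_not_dvd hp).2 hpt) ((Nat.Prime.coprime_iff_not_dvd hr).2 hrt)
  · push Not at hν
    obtain ⟨z, hz⟩ := hν
    have h1 : β z ≠ β 1 := by
      intro h
      have h2 := hval z
      rw [h, hinv] at h2
      exact hz (mul_left_cancel₀ hβ0 h2)
    have h2 : 2 ∣ b := even_of_central hX (hcen z.2) (congrArg Subtype.val (hexp z)) hβ h1 hb
    apply h2pK
    refine IM.of_apply_one hψ hψ1 ?_
    refine Nat.Coprime.mul_dvd_of_dvd_of_dvd ((Nat.coprime_primes Nat.prime_two hp).2 hp2.symm) ?_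
      ((Dvd.intro _ rfl : p ∣ p * r).trans hd)
    exact Dvd.dvd.mul_right h2 t

end

end Cfsg.Agent.H658.Reg
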