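import Cfsg.Agent.H658.Reg.Frame
import Cfsg.Agent.H988.DG.Out
import Cfsg.Agent.S4774
import Cfsg.Agent.S4812

/-!
# 2-regular degree graphs of non-solvable groups: combinatorics (helper658, S4920)

`T : Fr G`, `L = PSL(2,F)`, the graph of `G` is 2-regular and has not three vertices.
* `outside_tri` : a vertex prime to `|L|` lies in a triangle with two primes of `|L|`;
* `four` : `|L|` has at least four prime divisors;
* `no_tri` : no triangle contains all primes of `|L|` but one;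
* `odd_case` : the structure for odd `|F|`.
-/

set_option autoImplicit false

namespace Cfsg.Agent.H658.Reg

open Cfsg Subgroup Cfsg.Agent.H33 Cfsg.Agent.H988.DG Cfsg.Agent.Characters.Core Cfsg.Agent.H681.DegBasic

universe u

section

variable {G : Type u} [Group G] [Finite G] (T : Fr G)

theorem im_L {t : ℕ} (ht : t.Prime) (hd : t ∣ Nat.card T.L) : H33.IM t T.L :=
  H664.R1.PSLTwo.im_psl T.hF ht hd

theorem vert {t : ℕ} (ht : t.Prime) (hd : t ∣ Nat.card T.L) : t ∈ degreePrimes G :=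
  mem_dp_iff.2 ⟨ht, T.im_of_L (im_L T ht hd)⟩

/-- A vertex prime to `|L|` divides `|G : R|` or a degree of `R`; in both cases it is in a triangle. -/
theorem outside_tri (h : Reg2 G) {t : ℕ} (ht : t ∈ degreePrimes G) (hn : ¬ t ∣ Nat.card T.L) :
    ∃ r s : ℕ, r.Prime ∧ s.Prime ∧ r ≠ s ∧ r ∣ Nat.card T.L ∧ s ∣ Nat.card T.L ∧ (degreeGraph G).Adj t r ∧
      (degreeGraph G).Adj r s ∧ (degreeGraph G).Adj t s := by
  classical
  have := Fintype.ofFinite G
  have := Fintype.ofFinite T.R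
  obtain ⟨htp, χ, hχ⟩ := mem_dp_iff.1 ht
  have key : ∀ r s : ℕ, r.Prime → s.Prime → r ≠ s → r ∣ Nat.card T.L → s ∣ Nat.card T.L → H33.IM (t * (r * s)) G →
      ∃ r s : ℕ, r.Prime ∧ s.Prime ∧ r ≠ s ∧ r ∣ Nat.card T.L ∧ s ∣ Nat.card T.L ∧ (degreeGraph G).Adj t r ∧
      (degreeGraph G).Adj r s ∧ (degreeGraph G).Adj t s := by
    intro r s hr hs hrs hrd hsd him
    refine ⟨r, s, hr, hs, hrs, hrd, hsd, ?_, ?_, ?_⟩
    · exact adj_of_dvd htp hr (fun h => hn (h ▸ hrd)) him (Dvd.intro _ rfl) ⟨t * s, by ring⟩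
    · exact adj_of_dvd hr hs hrs him ⟨t * s, by ring⟩ ⟨t * r, by ring⟩
    · exact adj_of_dvd htp hs (fun h => hn (h ▸ hsd)) him (Dvd.intro _ rfl) ⟨t * r, by ring⟩
  by_cases h2 : t ∣ T.R.index
  · have h4 : T.R.index = Nat.card T.Kb * T.Kb.index := by
      rw [Subgroup.index_eq_card T.R]
      exact (Subgroup.card_mul_index T.Kb).symm
    rw [h4, htp.dvd_mul] at h2
    rcases h2 with h2 | h2
    · exact absurd (by rwa [T.card_Kb] at h2) hn
    · obtain ⟨r, s, hr, hs, hrs, hrd, hsd, d, ⟨ψ, rfl⟩, hd⟩ := outFact (G ⧸ T.R) T.Kb T.F T.e T.hF T.cen t htp h2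
        (by rwa [T.card_Kb])
      rw [T.card_Kb] at hrd hsd
      have h5 : H33.IM (t * (r * s)) (G ⧸ T.R) := ⟨ψ, by rwa [← mul_assoc]⟩
      exact key r s hr hs hrs hrd hsd (h5.of_quotient T.R)
  · obtain ⟨n, hn0, hn'⟩ := isIrr_apply_one χ.2
    rw [H670.PSing.charDegree_eq_of hn'] at hχ
    obtain ⟨ψ, d, hψ, hψ1, -, hdn, hdi⟩ := exists_constituent T.R χ.2 hn'
    have hR : H33.IM t T.R := by
      refine IM.of_apply_one hψ hψ1 ?_
      have h4 : n = d * (n / d) := (Nat.mul_div_cancel' hdn).symm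
      rw [h4, htp.dvd_mul] at hχ
      rcases hχ with h | h
      · exact h
      · exact absurd (h.trans hdi) h2
    rcases T.out_R hR with ⟨r, s, hr, hs, hrs, hrd, hsd, him⟩ | ⟨-, hall⟩
    · exact key r s hr hs hrs hrd hsd him
    · exfalso
      obtain ⟨g2, p, q, hp, hq, hp2, hq2, hpq, hip, hiq⟩ := primes_psl T.hF (MulEquiv.refl T.L)
      have hadj : ∀ x : ℕ, x.Prime → H33.IM x T.L → (degreeGraph G).Adj t x := by
        intro x hx him
        have hd : x ∣ Nat.card T.L := him.dvd_card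
        exact adj_of_im htp hx (fun h => hn (h ▸ hd)) (hall x him)
      have h2 := hadj 2 Nat.prime_two g2
      have hp' := hadj p hp hip
      have hq' := hadj q hq hiq
      rcases h.cases h2 hp' hp2.symm hq' with h6 | h6
      · exact hq2 h6
      · exact hpq h6.symm

/-- `|L|` has at least four prime divisors. -/
theorem four (h : Reg2 G) (h3 : Set.ncard (degreePrimes G) ≠ 3) (a b c : ℕ)
    (hall : ∀ t : ℕ, t.Prime → t ∣ Nat.card T.L → t = a ∨ t = b ∨ t = c) : False := by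
  classical
  obtain ⟨g2, p, q, hp, hq, hp2, hq2, hpq, hip, hiq⟩ := primes_psl T.hF (MulEquiv.refl T.L)
  have ha2 := hall 2 Nat.prime_two g2.dvd_card
  have hap := hall p hp hip.dvd_card
  have haq := hall q hq hiq.dvd_card
  -- the three primes are `2, p, q`
  have hall' : ∀ t : ℕ, t.Prime → t ∣ Nat.card T.L → t = 2 ∨ t = p ∨ t = q := by
    intro t ht hd
    have := hall t ht hd
    omega
  have hpd := hip.dvd_card
  have hqd := hiq.dvd_card
  have h2d := g2.dvd_card
  -- another vertex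
  obtain ⟨t, ht, htn⟩ : ∃ t ∈ degreePrimes G, ¬ t ∣ Nat.card T.L := by
    by_contra hcon
    push Not at hcon
    apply h3
    refine Set.ncard_eq_three.2 ⟨2, p, q, hp2.symm, hq2.symm, hpq, ?_⟩
    ext t
    constructor
    · intro ht
      exact hall' t ht.1 (hcon t ht)
    · rintro (rfl | rfl | rfl)
      · exact vert T Nat.prime_two h2d
      · exact vert T hp hpd
      · exact vert T hq hqd
  obtain ⟨r, s, hr, hs, hrs, hrd, hsd, hadj1, hadj2, hadj3⟩ := outside_tri T h ht htn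
  have hr' := hall' r hr hrd
  have hs' := hall' s hs hsd
  -- the third prime
  obtain ⟨u, hu, hud, hur, hus⟩ : ∃ u : ℕ, u.Prime ∧ u ∣ Nat.card T.L ∧ u ≠ r ∧ u ≠ s := by
    by_cases h1 : 2 = r ∨ 2 = s
    · by_cases h4 : p = r ∨ p = s
      · refine ⟨q, hq, hqd, ?_, ?_⟩ <;> omega
      · exact ⟨p, hp, hpd, fun h => h4 (Or.inl h), fun h => h4 (Or.inr h)⟩
    · exact ⟨2, Nat.prime_two, h2d, fun h => h1 (Or.inl h), fun h => h1 (Or.inr h)⟩
  have hu' := hall' u hu hud
  have hmem : ∀ x : ℕ, (x = 2 ∨ x = p ∨ x = q) → x = r ∨ x = s ∨ x = u := by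
    clear * - hr' hs' hu' hrs hur hus hp2 hq2 hpq
    intro x hx
    omega
  obtain ⟨u1, -, -, huu, -, -⟩ := h.two (vert T hu hud)
  have hut : u ≠ t := fun h => htn (h ▸ hud)
  have hcl : ∀ {a b : ℕ}, (a = t ∨ a = r ∨ a = s) → (degreeGraph G).Adj a b → (b = t ∨ b = r ∨ b = s) :=
    fun ha hab => h.tri_closed hadj1 hadj2 hadj3 ha hab
  have hu1 : ¬ (u1 = t ∨ u1 = r ∨ u1 = s) := by
    intro hh
    rcases hcl hh huu.symm with h5 | h5 | h5
    · exact hut h5
    · exact hur h5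
    · exact hus h5
  have hu1p : u1.Prime := (mem_dp_iff.1 (mem_of_adj huu.symm)).1
  have hu1n : ¬ u1 ∣ Nat.card T.L := by
    intro hd
    rcases hmem u1 (hall' u1 hu1p hd) with h5 | h5 | h5
    · exact hu1 (Or.inr (Or.inl h5))
    · exact hu1 (Or.inr (Or.inr h5))
    · exact huu.ne h5.symm
  obtain ⟨r1, s1, hr1, hs1, hrs1, hrd1, hsd1, hadj1', hadj2', hadj3'⟩ := outside_tri T h (mem_of_adj huu.symm) hu1n
  apply hu1
  rcases hmem r1 (hall' r1 hr1 hrd1) with h5 | h5 | h5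
  · exact hcl (Or.inr (Or.inl h5)) hadj1'.symm
  · exact hcl (Or.inr (Or.inr h5)) hadj1'.symm
  · rcases hmem s1 (hall' s1 hs1 hsd1) with h6 | h6 | h6
    · exact hcl (Or.inr (Or.inl h6)) hadj3'.symm
    · exact hcl (Or.inr (Or.inr h6)) hadj3'.symm
    · exact absurd (h5.trans h6.symm) hrs1

/-- No triangle contains all primes of `|L|` but one. -/
theorem no_tri (h : Reg2 G) (h3 : Set.ncard (degreePrimes G) ≠ 3) {x y z w : ℕ} (hxy : (degreeGraph G).Adj x y)
    (hyz : (degreeGraph G).Adj y z) (hxz : (degreeGraph G).Adj x z)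
    (hall : ∀ t : ℕ, t.Prime → t ∣ Nat.card T.L → (t = x ∨ t = y ∨ t = z) ∨ t = w) : False := by
  have hcl : ∀ {a b : ℕ}, (a = x ∨ a = y ∨ a = z) → (degreeGraph G).Adj a b → (b = x ∨ b = y ∨ b = z) :=
    fun ha hab => h.tri_closed hxy hyz hxz ha hab
  by_cases hw : w = x ∨ w = y ∨ w = z
  · refine four T h h3 x y z fun t ht hd => ?_
    rcases hall t ht hd with h1 | rfl
    · exact h1
    · exact hw
  by_cases hwL : w.Prime ∧ w ∣ Nat.card T.L
  · obtain ⟨u1, -, -, huu, -, -⟩ := h.two (vert T hwL.1 hwL.2)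
    have hu1 : ¬ (u1 = x ∨ u1 = y ∨ u1 = z) := fun hh => hw (hcl hh huu.symm)
    have hu1p : u1.Prime := (mem_dp_iff.1 (mem_of_adj huu.symm)).1
    have hu1n : ¬ u1 ∣ Nat.card T.L := by
      intro hd
      rcases hall u1 hu1p hd with h5 | h5
      · exact hu1 h5
      · exact huu.ne h5.symm
    obtain ⟨r1, s1, hr1, hs1, hrs1, hrd1, hsd1, hadj1', hadj2', hadj3'⟩ := outside_tri T h (mem_of_adj huu.symm) hu1n
    apply hu1
    rcases hall r1 hr1 hrd1 with h6 | h6
    · exact hcl h6 hadj1'.symm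
    · rcases hall s1 hs1 hsd1 with h7 | h7
      · exact hcl h7 hadj3'.symm
      · exact absurd (h6.trans h7.symm) hrs1
  · refine four T h h3 x y z fun t ht hd => ?_
    rcases hall t ht hd with h1 | rfl
    · exact h1
    · exact absurd ⟨ht, hd⟩ hwL

/-- a vertex is not adjacent to all other primes of `|L|` -/
theorem not_all (h : Reg2 G) (h3 : Set.ncard (degreePrimes G) ≠ 3) {t : ℕ} (ht : t ∈ degreePrimes G)
    (hall : ∀ x : ℕ, x.Prime → x ∣ Nat.card T.L → x ≠ t → (degreeGraph G).Adj t x) : False := by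
  obtain ⟨a, b, -, -, -, hab⟩ := h.two ht
  refine four T h h3 t a b fun x hx hd => ?_
  by_cases hxt : x = t
  · exact Or.inl hxt
  · exact Or.inr (hab x (hall x hx hd hxt))

end

end Cfsg.Agent.H658.Reg
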