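import Cfsg.Agent.H658.Reg.Comb

/-!
# 2-regular degree graphs of non-solvable groups: `|F|` even (helper658, S4920)

* `even_one` : not all primes of `q - 1` are joined to all primes of `q + 1`;
* `even_two` : `2 (q + 1) x` does not divide a degree (`x ∣ q - 1` prime).
-/

set_option autoImplicit false

namespace Cfsg.Agent.H658.Reg

open Cfsg Subgroup Cfsg.Agent.H33 Cfsg.Agent.H988.DG

universe u

section

variable {G : Type u} [Group G] [Finite G] (T : Fr G)

theorem even_card (heven : Even (Fintype.card T.F)) : Nat.card T.L =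
    (Fintype.card T.F + 1) * (Fintype.card T.F * (Fintype.card T.F - 1)) :=
  (H525.L2.frame (MulEquiv.refl T.L)).card_even heven

theorem even_prime (heven : Even (Fintype.card T.F)) {t : ℕ} (ht : t.Prime) (hd : t ∣ Nat.card T.L) :
    t = 2 ∨ t ∣ Fintype.card T.F + 1 ∨ t ∣ Fintype.card T.F - 1 := by
  have hch : CharP T.F 2 := by
    have hF2 : ringChar T.F = 2 := FiniteField.even_card_iff_char_two.2 (Nat.even_iff.1 heven)
    exact hF2 ▸ ringChar.charP T.F
  obtain ⟨n, -, hqn⟩ := FiniteField.card T.F 2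
  rw [even_card T heven, ht.dvd_mul, ht.dvd_mul] at hd
  rcases hd with hd | hd | hd
  · exact Or.inr (Or.inl hd)
  · left
    rw [hqn] at hd
    exact (Nat.prime_dvd_prime_iff_eq ht Nat.prime_two).1 (ht.dvd_of_dvd_pow hd)
  · exact Or.inr (Or.inr hd)

theorem even_adj (heven : Even (Fintype.card T.F)) {a b : ℕ} (ha : a.Prime) (hb : b.Prime) (hab : a ≠ b)
    (hd : (a ∣ Fintype.card T.F + 1 ∧ b ∣ Fintype.card T.F + 1) ∨
      (a ∣ Fintype.card T.F - 1 ∧ b ∣ Fintype.card T.F - 1)) : (degreeGraph G).Adj a b := by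
  have hch : CharP T.F 2 := by
    have hF2 : ringChar T.F = 2 := FiniteField.even_card_iff_char_two.2 (Nat.even_iff.1 heven)
    exact hF2 ▸ ringChar.charP T.F
  have h1 := ((S4812.result T.F _ rfl T.hF (S := T.L) (Or.inl ⟨MulEquiv.refl _⟩)).2 a b).2 ⟨hab, ha, hb, hd⟩
  obtain ⟨h5, h6, h7, h8⟩ := H988.DG.adj_iff.1 h1
  exact adj_of_im h6 h7 h5 (T.im_of_L h8)

theorem even_two (h : Reg2 G) (h3 : Set.ncard (degreePrimes G) ≠ 3) (heven : Even (Fintype.card T.F)) {x : ℕ}
    (hx : x.Prime) (hxd : x ∣ Fintype.card T.F - 1) (him : H33.IM (2 * (Fintype.card T.F + 1) * x) G) : False := by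
  have hF := T.hF
  have hx2 : x ≠ 2 := by
    rintro rfl
    have := even_iff_two_dvd.1 heven
    omega
  set s := (Fintype.card T.F + 1).minFac with hs
  have hsp : s.Prime := Nat.minFac_prime (by omega)
  have hsd : s ∣ Fintype.card T.F + 1 := Nat.minFac_dvd _
  have hs2 : s ≠ 2 := by
    intro h2
    have := even_iff_two_dvd.1 heven
    rw [h2] at hsd
    omega
  have hcop : ∀ t : ℕ, t.Prime → t ∣ Fintype.card T.F + 1 → t ∣ Fintype.card T.F - 1 → t = 2 := by
    intro t ht h1 h2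
    have h3 : Fintype.card T.F + 1 = (Fintype.card T.F - 1) + 2 := by omega
    rw [h3] at h1
    exact (Nat.prime_dvd_prime_iff_eq ht Nat.prime_two).1 ((Nat.dvd_add_right h2).1 h1)
  have hxs : x ≠ s := by
    intro h1
    exact hx2 (hcop x hx (h1 ▸ hsd) hxd)
  have h2x : (degreeGraph G).Adj 2 x := adj_of_dvd Nat.prime_two hx hx2.symm him ⟨(Fintype.card T.F + 1) * x, by ring⟩
    (Dvd.intro_left _ rfl)
  have hxs' : (degreeGraph G).Adj x s := adj_of_dvd hx hsp hxs him (Dvd.intro_left _ rfl)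
    (Dvd.dvd.mul_right (Dvd.dvd.mul_left hsd 2) x)
  have h2s : (degreeGraph G).Adj 2 s := adj_of_dvd Nat.prime_two hsp hs2.symm him
    ⟨(Fintype.card T.F + 1) * x, by ring⟩ (Dvd.dvd.mul_right (Dvd.dvd.mul_left hsd 2) x)
  refine four T h h3 2 x s fun t ht hd => ?_
  by_cases ht2 : t = 2
  · exact Or.inl ht2
  by_cases htx : t = x
  · exact Or.inr (Or.inl htx)
  rcases even_prime T heven ht hd with h1 | h1 | h1
  · exact absurd h1 ht2
  · have h4 : (degreeGraph G).Adj 2 t := adj_of_dvd Nat.prime_two ht (Ne.symm ht2) him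
      ⟨(Fintype.card T.F + 1) * x, by ring⟩ (Dvd.dvd.mul_right (Dvd.dvd.mul_left h1 2) x)
    exact h.tri_closed h2x hxs' h2s (Or.inl rfl) h4
  · exact h.tri_closed h2x hxs' h2s (Or.inr (Or.inl rfl)) (even_adj T heven hx ht (Ne.symm htx) (Or.inr ⟨hxd, h1⟩))

theorem even_one (h : Reg2 G) (h3 : Set.ncard (degreePrimes G) ≠ 3) (heven : Even (Fintype.card T.F))
    (hcl : ∀ x : ℕ, x.Prime → x ∣ Fintype.card T.F - 1 → H33.IM ((Fintype.card T.F + 1) * x) G) : False := by
  have hadj : ∀ a b : ℕ, a.Prime → b.Prime → a ≠ b → a ≠ 2 → b ≠ 2 → a ∣ Nat.card T.L → b ∣ Nat.card T.L →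
      (degreeGraph G).Adj a b := by
    intro a b ha hb hab ha2 hb2 had hbd
    rcases even_prime T heven ha had with h1 | h1 | h1
    · exact absurd h1 ha2
    · rcases even_prime T heven hb hbd with h2 | h2 | h2
      · exact absurd h2 hb2
      · exact even_adj T heven ha hb hab (Or.inl ⟨h1, h2⟩)
      · exact adj_of_dvd ha hb hab (hcl b hb h2) (Dvd.dvd.mul_right h1 _) (Dvd.intro_left _ rfl)
    · rcases even_prime T heven hb hbd with h2 | h2 | h2
      · exact absurd h2 hb2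
      · exact adj_of_dvd ha hb hab (hcl a ha h1) (Dvd.intro_left _ rfl) (Dvd.dvd.mul_right h2 _)
      · exact even_adj T heven ha hb hab (Or.inr ⟨h1, h2⟩)
  obtain ⟨a, ha, had, ha2⟩ : ∃ a : ℕ, a.Prime ∧ a ∣ Nat.card T.L ∧ a ≠ 2 := by
    by_contra hcon
    push Not at hcon
    exact four T h h3 2 2 2 fun t ht hd => Or.inl (hcon t ht hd)
  obtain ⟨b, hb, hbd, hb2, hba⟩ : ∃ b : ℕ, b.Prime ∧ b ∣ Nat.card T.L ∧ b ≠ 2 ∧ b ≠ a := by
    by_contra hcon
    push Not at hcon
    refine four T h h3 2 a a fun t ht hd => ?_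
    by_cases ht2 : t = 2
    · exact Or.inl ht2
    · exact Or.inr (Or.inl (hcon t ht hd ht2))
  obtain ⟨c, hc, hcd, hc2, hca, hcb⟩ : ∃ c : ℕ, c.Prime ∧ c ∣ Nat.card T.L ∧ c ≠ 2 ∧ c ≠ a ∧ c ≠ b := by
    by_contra hcon
    push Not at hcon
    refine four T h h3 2 a b fun t ht hd => ?_
    by_cases ht2 : t = 2
    · exact Or.inl ht2
    · right
      by_cases hta : t = a
      · exact Or.inl hta
      · exact Or.inr (hcon t ht hd ht2 hta)
  have hab := hadj a b ha hb hba.symm ha2 hb2 had hbd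
  have hbc := hadj b c hb hc hcb.symm hb2 hc2 hbd hcd
  have hac := hadj a c ha hc hca.symm ha2 hc2 had hcd
  refine no_tri T h h3 (w := 2) hab hbc hac fun t ht hd => ?_
  by_cases ht2 : t = 2
  · exact Or.inr ht2
  · left
    by_cases hta : t = a
    · exact Or.inl hta
    · exact h.tri_closed hab hbc hac (Or.inl rfl) (hadj a t ha ht (Ne.symm hta) ha2 ht2 had hd)

end

end Cfsg.Agent.H658.Reg
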