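import Cfsg.Agent.H658.Reg.Comb

/-!
# 2-regular degree graphs of non-solvable groups: `|F|` odd (helper658, S4920)
-/

set_option autoImplicit false

namespace Cfsg.Agent.H658.Reg

open Cfsg Subgroup Cfsg.Agent.H33 Cfsg.Agent.H988.DG

universe u

section

variable {G : Type u} [Group G] [Finite G] (T : Fr G)

theorem adj_up {a b : ℕ} (hab : (degreeGraph T.L).Adj a b) : (degreeGraph G).Adj a b := by
  obtain ⟨h5, h6, h7, h8⟩ := H988.DG.adj_iff.1 hab
  exact adj_of_im h6 h7 h5 (T.im_of_L h8)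

theorem odd_card (hodd : Odd (Fintype.card T.F)) : 2 * Nat.card T.L =
    (Fintype.card T.F + 1) * (Fintype.card T.F * (Fintype.card T.F - 1)) :=
  (H525.L2.frame (MulEquiv.refl T.L)).card_odd hodd

/-- **The structure for odd `|F|`.** -/
theorem odd_case (h : Reg2 G) (h3 : Set.ncard (degreePrimes G) ≠ 3) (hodd : Odd (Fintype.card T.F)) (p : ℕ)
    [hp : Fact p.Prime] [CharP T.F p] :
    ∃ r s : ℕ, r.Prime ∧ s.Prime ∧ r ≠ 2 ∧ s ≠ 2 ∧ r ∣ Fintype.card T.F - 1 ∧ s ∣ Fintype.card T.F + 1 ∧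
      (∀ t : ℕ, t.Prime → t ∣ Fintype.card T.F ^ 2 - 1 → t = 2 ∨ t = r ∨ t = s) ∧
      (degreeGraph G).Adj p r ∧ ¬ (degreeGraph G).Adj 2 p ∧ ¬ (degreeGraph G).Adj r s := by
  classical
  obtain ⟨n, -, hqn⟩ := FiniteField.card T.F p
  have hcard := odd_card T hodd
  have hF := T.hF
  set q := Fintype.card T.F with hq
  have hn0 : (n : ℕ) ≠ 0 := n.ne_zero
  have hpq : p ∣ q := by rw [hqn]; exact dvd_pow_self p hn0
  have hp2 : p ≠ 2 := by
    rintro rfl
    exact (Nat.not_even_iff_odd.2 hodd) (even_iff_two_dvd.2 hpq)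
  have hsq : q ^ 2 - 1 = (q + 1) * (q - 1) := by
    have := Nat.sq_sub_sq q 1
    simpa using this
  have hpsq : ¬ p ∣ q ^ 2 - 1 := by
    intro hd
    have h1 : p ∣ q ^ 2 := dvd_pow hpq two_ne_zero
    have h2 := (Nat.dvd_sub_iff_right (by nlinarith) h1).1 hd
    exact hp.out.one_lt.ne' (Nat.dvd_one.1 h2)
  -- primes dividing `|L|`
  have hdL : ∀ t : ℕ, t.Prime → t ∣ Nat.card T.L → t ≠ p → t ∣ q ^ 2 - 1 := by
    intro t ht hd htp
    have h1 : t ∣ (q + 1) * (q * (q - 1)) := hcard ▸ Dvd.dvd.mul_left hd 2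
    have h2 : (q + 1) * (q * (q - 1)) = q * (q ^ 2 - 1) := by rw [hsq]; ring
    rw [h2, ht.dvd_mul] at h1
    rcases h1 with h1 | h1
    · rw [hqn] at h1
      exact absurd ((Nat.prime_dvd_prime_iff_eq ht hp.out).1 (ht.dvd_of_dvd_pow h1)) htp
    · exact h1
  have hLd : ∀ t : ℕ, t.Prime → t ≠ 2 → t ∣ q ^ 2 - 1 → t ∣ Nat.card T.L := by
    intro t ht ht2 hd
    have h1 : t ∣ 2 * Nat.card T.L := by
      rw [hcard]
      have h2 : (q + 1) * (q * (q - 1)) = q * (q ^ 2 - 1) := by rw [hsq]; ring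
      rw [h2]
      exact Dvd.dvd.mul_left hd q
    exact (Nat.Coprime.dvd_of_dvd_mul_left ((Nat.coprime_primes ht Nat.prime_two).2 ht2) h1)
  have h2L : 2 ∣ Nat.card T.L := two_dvd_card_psl T.hF
  have hpL : p ∣ Nat.card T.L := by
    have h1 : p ∣ 2 * Nat.card T.L := by
      rw [hcard]
      exact Dvd.dvd.mul_left (Dvd.dvd.mul_right hpq _) _
    exact (Nat.Coprime.dvd_of_dvd_mul_left ((Nat.coprime_primes hp.out Nat.prime_two).2 hp2) h1)
  have h5 : 5 < q := by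
    by_contra h5
    have hq5 : q = 5 := by
      rw [Nat.odd_iff] at hodd
      omega
    refine four T h h3 2 3 5 fun t ht hd => ?_
    have h1 : t ∣ 2 * Nat.card T.L := Dvd.dvd.mul_left hd 2
    rw [hcard, hq5] at h1
    have h6 : t ∣ 2 ^ 3 * (3 * 5) := h1
    rw [ht.dvd_mul, ht.dvd_mul] at h6
    rcases h6 with h6 | h6 | h6
    · exact Or.inl ((Nat.prime_dvd_prime_iff_eq ht Nat.prime_two).1 (ht.dvd_of_dvd_pow h6))
    · exact Or.inr (Or.inl ((Nat.prime_dvd_prime_iff_eq ht Nat.prime_three).1 h6))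
    · exact Or.inr (Or.inr ((Nat.prime_dvd_prime_iff_eq ht Nat.prime_five).1 h6))
  have hadjL := (S4774.result T.F p hp2 q rfl h5 (S := T.L) (Or.inl ⟨MulEquiv.refl _⟩)).2
  have h2sq : 2 ∣ q ^ 2 - 1 := by
    rw [hsq]
    rw [Nat.odd_iff] at hodd
    exact Dvd.dvd.mul_left (by omega) _
  have h2adj : ∀ t : ℕ, t.Prime → t ≠ 2 → t ∣ q ^ 2 - 1 → (degreeGraph G).Adj 2 t := by
    intro t ht ht2 hd
    exact adj_up T ((hadjL 2 t).2 ⟨ht2.symm, Nat.prime_two, ht, h2sq, hd, Or.inl rfl⟩)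
  -- two odd primes
  obtain ⟨x, hx, hx2, hxd⟩ : ∃ x : ℕ, x.Prime ∧ x ≠ 2 ∧ x ∣ q ^ 2 - 1 := by
    by_contra hcon
    push Not at hcon
    refine four T h h3 2 p p fun t ht hd => ?_
    by_cases htp : t = p
    · exact Or.inr (Or.inl htp)
    · left
      by_contra ht2
      exact hcon t ht ht2 (hdL t ht hd htp)
  obtain ⟨y, hy, hy2, hyx, hyd⟩ : ∃ y : ℕ, y.Prime ∧ y ≠ 2 ∧ y ≠ x ∧ y ∣ q ^ 2 - 1 := by
    by_contra hcon
    push Not at hcon
    refine four T h h3 2 p x fun t ht hd => ?_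
    by_cases htp : t = p
    · exact Or.inr (Or.inl htp)
    · by_cases ht2 : t = 2
      · exact Or.inl ht2
      · right; right
        by_contra htx
        exact hcon t ht ht2 htx (hdL t ht hd htp)
  have hall : ∀ t : ℕ, t.Prime → t ∣ q ^ 2 - 1 → t = 2 ∨ t = x ∨ t = y := by
    intro t ht hd
    by_cases ht2 : t = 2
    · exact Or.inl ht2
    · right
      exact h.cases (h2adj x hx hx2 hxd) (h2adj y hy hy2 hyd) hyx.symm (h2adj t ht ht2 hd)
  have hallL : ∀ t : ℕ, t.Prime → t ∣ Nat.card T.L → (t = 2 ∨ t = x ∨ t = y) ∨ t = p := by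
    intro t ht hd
    by_cases htp : t = p
    · exact Or.inr htp
    · exact Or.inl (hall t ht (hdL t ht hd htp))
  have hnxy : ¬ (degreeGraph G).Adj x y := by
    intro hadj
    exact no_tri T h h3 (h2adj x hx hx2 hxd) hadj (h2adj y hy hy2 hyd) hallL
  -- the other neighbour
  have hpn : ∀ x y : ℕ, x.Prime → y.Prime → x ≠ 2 → y ≠ 2 → x ≠ y → x ∣ q ^ 2 - 1 → y ∣ q ^ 2 - 1 →
      (∀ t : ℕ, t.Prime → t ∣ Nat.card T.L → (t = 2 ∨ t = x ∨ t = y) ∨ t = p) →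
      ¬ (degreeGraph G).Adj x y → (degreeGraph G).Adj p x := by
    intro x y hx hy hx2 hy2 hxy hxd hyd hallL hnxy
    obtain ⟨x', hx'2, hadj⟩ := h.other (h2adj x hx hx2 hxd).symm
    have hx'p : x'.Prime := (mem_dp_iff.1 (mem_of_adj hadj.symm)).1
    by_cases hx'L : x' ∣ Nat.card T.L
    · rcases hallL x' hx'p hx'L with (h6 | h6 | h6) | h6
      · exact absurd h6 hx'2
      · exact absurd h6.symm hadj.ne
      · rw [h6] at hadj
        exact absurd hadj hnxy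
      · rw [h6] at hadj
        exact hadj.symm
    · exfalso
      obtain ⟨r1, s1, hr1, hs1, hrs1, hrd1, hsd1, hadj1, hadj2, hadj3⟩ := outside_tri T h (mem_of_adj hadj.symm) hx'L
      have h6 := h.tri_closed hadj1 hadj2 hadj3 (Or.inl rfl) hadj.symm
      have h7 := h.tri_closed hadj1 hadj2 hadj3 h6 (h2adj x hx hx2 hxd).symm
      have h8 := h.tri_closed hadj1 hadj2 hadj3 h7 (h2adj y hy hy2 hyd)
      have h9 : x ≠ x' := fun h => hx'L (h ▸ hLd x hx hx2 hxd)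
      have h10 : y ≠ x' := fun h => hx'L (h ▸ hLd y hy hy2 hyd)
      have h11 : 2 ≠ x' := fun h => hx'L (h ▸ h2L)
      omega
  have hpx : p ≠ x := fun h => hpsq (h ▸ hxd)
  have hpy : p ≠ y := fun h => hpsq (h ▸ hyd)
  have h2p : ¬ (degreeGraph G).Adj 2 p := by
    intro hadj
    rcases h.cases (h2adj x hx hx2 hxd) (h2adj y hy hy2 hyd) hyx.symm hadj with h6 | h6
    · exact hpx h6
    · exact hpy h6
  have hpx' := hpn x y hx hy hx2 hy2 hyx.symm hxd hyd hallL hnxy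
  have hpy' := hpn y x hy hx hy2 hx2 hyx hyd hxd (fun t ht hd => by
    rcases hallL t ht hd with (h6 | h6 | h6) | h6
    · exact Or.inl (Or.inl h6)
    · exact Or.inl (Or.inr (Or.inr h6))
    · exact Or.inl (Or.inr (Or.inl h6))
    · exact Or.inr h6) (fun hadj => hnxy hadj.symm)
  have hxd' := hxd
  have hyd' := hyd
  rw [hsq, hx.dvd_mul] at hxd'
  rw [hsq, hy.dvd_mul] at hyd'
  rcases hxd' with hx1 | hx1 <;> rcases hyd' with hy1 | hy1
  · exact absurd (adj_up T ((hadjL x y).2 ⟨hyx.symm, hx, hy, hxd, hyd, Or.inr (Or.inr (Or.inl ⟨hx1, hy1⟩))⟩)) hnxy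
  · refine ⟨y, x, hy, hx, hy2, hx2, hy1, hx1, fun t ht hd => ?_, hpy', h2p, fun hadj => hnxy hadj.symm⟩
    rcases hall t ht hd with h6 | h6 | h6
    · exact Or.inl h6
    · exact Or.inr (Or.inr h6)
    · exact Or.inr (Or.inl h6)
  · exact ⟨x, y, hx, hy, hx2, hy2, hx1, hy1, hall, hpx', h2p, hnxy⟩
  · exact absurd (adj_up T ((hadjL x y).2 ⟨hyx.symm, hx, hy, hxd, hyd, Or.inr (Or.inr (Or.inr ⟨hx1, hy1⟩))⟩)) hnxy

end

end Cfsg.Agent.H658.Reg
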