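import Cfsg.Agent.H658.Reg.Frame
import Cfsg.Agent.H671.GraphAll
import Cfsg.Agent.H33.IMLie

/-!
# A vertex with three neighbours in the degree graph of a simple group (helper658, S4920)

* `DegRow S` : some prime has three neighbours in the degree graph of `S`;
* `deg_of_conn` : it follows from connectedness, a triangle and a fourth vertex; `deg_of_dvd` : from a degree with four
  prime divisors;
* `factDeg` : `FactDeg` from the graph facts of the non-sporadic groups and the sporadic rows.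
-/

set_option autoImplicit false

namespace Cfsg.Agent.H658.Reg

open Cfsg Cfsg.Agent.H671 Cfsg.Agent.H671.H5 Cfsg.Agent.H671.GraphAsm

universe u v

/-- some prime has three neighbours -/
def DegRow (S : Type u) [Group S] : Prop :=
  ∃ v a b c : ℕ, a ≠ b ∧ b ≠ c ∧ a ≠ c ∧ H5.Adj v a S ∧ H5.Adj v b S ∧ H5.Adj v c S

theorem DegRow.congr {S : Type u} [Group S] {S' : Type v} [Group S'] (e : S ≃* S') (h : DegRow S') : DegRow S := by
  obtain ⟨v, a, b, c, h1, h2, h3, h4, h5, h6⟩ := h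
  have e1 := H424.DegTools.degreeGraph_congr e
  unfold DegRow H5.Adj
  rw [e1]
  exact ⟨v, a, b, c, h1, h2, h3, h4, h5, h6⟩

/-- a degree with four prime divisors -/
theorem deg_of_dvd {S : Type u} [Group S] {v a b c : ℕ} (hv : v.Prime) (ha : a.Prime) (hb : b.Prime) (hc : c.Prime)
    (hva : v ≠ a) (hvb : v ≠ b) (hvc : v ≠ c) (hab : a ≠ b) (hbc : b ≠ c) (hac : a ≠ c) {m : ℕ} (h : H33.IM m S)
    (h1 : v ∣ m) (h2 : a ∣ m) (h3 : b ∣ m) (h4 : c ∣ m) : DegRow S :=
  ⟨v, a, b, c, hab, hbc, hac, adj_of_dvd hv ha hva h h1 h2, adj_of_dvd hv hb hvb h h1 h3,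
    adj_of_dvd hv hc hvc h h1 h4⟩

/-- connected, a triangle, a fourth vertex -/
theorem deg_of_conn {S : Type u} [Group S] (hconn : ((degreeGraph S).induce (degreePrimes S)).Connected)
    (htri : ∃ p q r : ℕ, H5.Adj p q S ∧ H5.Adj q r S ∧ H5.Adj p r S)
    (h4 : ∀ p q r : ℕ, ∃ t ∈ degreePrimes S, t ≠ p ∧ t ≠ q ∧ t ≠ r) : DegRow S := by
  obtain ⟨p, q, r, h1, h2, h3⟩ := htri
  obtain ⟨t, ht, htp, htq, htr⟩ := h4 p q r
  have hreach : (degreeGraph S).Reachable p t := reach_of_gam (hconn.preconnected ⟨p, mem_of_adj h1⟩ ⟨t, ht⟩)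
  by_contra hcon
  have hcl : ∀ a ∈ ({p, q, r} : Set ℕ), ∀ b, (degreeGraph S).Adj a b → b ∈ ({p, q, r} : Set ℕ) := by
    intro a ha b hab
    by_contra hb
    have hb' : b ≠ p ∧ b ≠ q ∧ b ≠ r := by simpa using hb
    apply hcon
    rcases ha with rfl | rfl | rfl
    · exact ⟨a, q, r, b, h2.ne, Ne.symm hb'.2.2, Ne.symm hb'.2.1, h1, h3, hab⟩
    · exact ⟨a, p, r, b, h3.ne, Ne.symm hb'.2.2, Ne.symm hb'.1, h1.symm, h2, hab⟩
    · exact ⟨a, p, q, b, h1.ne, Ne.symm hb'.2.1, Ne.symm hb'.1, h3.symm, h2.symm, hab⟩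
  have h5 := closed_reach hcl hreach (Or.inl rfl)
  have h6 : t = p ∨ t = q ∨ t = r := by simpa using h5
  rcases h6 with h6 | h6 | h6
  · exact htp h6
  · exact htq h6
  · exact htr h6

/-- four prime divisors of the order: a fourth vertex by Itô-Michler -/
theorem fourth_of_im {S : Type u} [Group S] [Finite S] (h4 : 4 ≤ (Nat.card S).primeFactors.card)
    (him : ∀ t : ℕ, t.Prime → t ∣ Nat.card S → H33.IM t S) (p q r : ℕ) :
    ∃ t ∈ degreePrimes S, t ≠ p ∧ t ≠ q ∧ t ≠ r := by
  by_contra hcon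
  push Not at hcon
  have h5 : (Nat.card S).primeFactors ⊆ ({p, q, r} : Finset ℕ) := by
    intro x hx
    have hxp := Nat.prime_of_mem_primeFactors hx
    have hxd := Nat.dvd_of_mem_primeFactors hx
    have h6 := hcon x (H988.DG.mem_dp_iff.2 ⟨hxp, him x hxp hxd⟩)
    simp only [Finset.mem_insert, Finset.mem_singleton]
    by_cases h7 : x = p
    · exact Or.inl h7
    · by_cases h8 : x = q
      · exact Or.inr (Or.inl h8)
      · exact Or.inr (Or.inr (h6 h7 h8))
  have h6 := (Finset.card_le_card h5).trans Finset.card_le_three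
  omega

/-- **`FactDeg`** from the rows of the sporadic groups. -/
theorem factDeg (hK : KnownAll.{u})
    (hG : ∀ (S : Type u) [Group S] [Finite S] [IsSimpleGroup S], ¬ IsMulCommutative S → ¬ IsL2 S →
      GFacts S ∨ IsSporadicGroup S)
    (hs : ∀ (S : Type u) [Group S] [Finite S] [IsSimpleGroup S], IsSporadicGroup S → DegRow S) : FactDeg.{u} := by
  intro S _ _ _ hna hL h4
  by_cases hsp : IsSporadicGroup S
  · exact hs S hsp
  rcases hG S hna hL with h | h
  · refine deg_of_conn h.conn h.tri (fourth_of_im h4 fun t ht hd => ?_)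
    have : Fact t.Prime := ⟨ht⟩
    exact H33.im_nonsporadic inferInstance (hK S) hna hsp hd
  · exact absurd h hsp

end Cfsg.Agent.H658.Reg
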