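import Cfsg.Agent.H658.Reg.DegTool
import Cfsg.Agent.H492.FactsHN
import Cfsg.Agent.H492.FactsON
import Cfsg.Agent.H492.FactsTh
import Cfsg.Agent.H492.IMJ4
import Cfsg.Agent.H843.IMC.GraphCo
import Cfsg.Agent.H843.IMC.RowsB
import Cfsg.Agent.H30.GraphFi24A
import Cfsg.Agent.H314.LyOrb.Deg
import Cfsg.Agent.H995.IMBRow

/-!
# Three neighbours in the degree graphs of the sporadic groups, II (helper658, S4920)

`J4`, `Co1`, `Co3`, `ON`, `Ly`, `Fi24'`, `HN`, `Th`, `B`.
-/

set_option autoImplicit false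
set_option maxRecDepth 100000

namespace Cfsg.Agent.H658.Reg.Spor

open Cfsg Cfsg.Agent.H671 Cfsg.Agent.H658.Reg

universe u

theorem of_val {S : Type u} [Group S] {d : ℕ} (h : ∃ χ : IrrCharacter S, (χ : S → ℂ) 1 = (d : ℕ)) :
    ∃ χ : IrrCharacter S, charDegree (χ : S → ℂ) = d := by
  obtain ⟨χ, hχ⟩ := h
  exact ⟨χ, Cfsg.Agent.H670.PSing.charDegree_eq_of hχ⟩

theorem j4 {S : Type u} [Group S] (h : Spor.IsoJ4 S) : DegRow S := by
  obtain ⟨e⟩ := h
  refine DegRow.congr e ?_
  exact deg_of_degree (d := 1776888) (of_val H492.IMJ4.exists_1776888) (v := 2) (a := 3)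
    (b := 23) (c := 29) (by norm_num) (by norm_num) (by norm_num) (by norm_num) (by decide +kernel)

theorem co1 {S : Type u} [Group S] (h : Spor.IsoCo1 S) : DegRow S := by
  obtain ⟨e⟩ := h
  refine DegRow.congr e ?_
  exact deg_of_degree (d := 80730) H843.IMC.Co1D.hasDeg.2 (v := 2) (a := 3)
    (b := 5) (c := 13) (by norm_num) (by norm_num) (by norm_num) (by norm_num) (by decide +kernel)

theorem co3 {S : Type u} [Group S] (h : Spor.IsoCo3 S) : DegRow S := by
  obtain ⟨e⟩ := h
  refine DegRow.congr e ?_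
  obtain ⟨-, χ, h, -⟩ := H769.PB.CoThreeRank5.exists_chars
  exact deg_of_degree (d := 8855) ⟨χ, h⟩ (v := 5) (a := 7)
    (b := 11) (c := 23) (by norm_num) (by norm_num) (by norm_num) (by norm_num) (by decide +kernel)

theorem on {S : Type u} [Group S] (h : Spor.IsoON S) : DegRow S := by
  obtain ⟨e⟩ := h
  refine DegRow.congr e ?_
  exact deg_of_degree (d := 52668) (of_val H492.FactsON.exists_52668) (v := 2) (a := 3)
    (b := 7) (c := 11) (by norm_num) (by norm_num) (by norm_num) (by norm_num) (by decide +kernel)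

theorem ly {S : Type u} [Group S] (h : Spor.IsoLy S) : DegRow S := by
  obtain ⟨e⟩ := h
  refine DegRow.congr e ?_
  obtain ⟨χ, -, h2⟩ := H314.LyOrb.exists_deg_ly
  exact deg_of_degree (d := 1534500) ⟨χ 2, h2 2⟩ (v := 2) (a := 3)
    (b := 5) (c := 11) (by norm_num) (by norm_num) (by norm_num) (by norm_num) (by decide +kernel)

theorem fi24 {S : Type u} [Group S] (h : Spor.IsoFi24' S) : DegRow S := by
  obtain ⟨e⟩ := h
  refine DegRow.congr e ?_
  exact deg_of_degree (d := 249458) H30.GraphFi24.exists_deg.2 (v := 2) (a := 11)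
    (b := 17) (c := 23) (by norm_num) (by norm_num) (by norm_num) (by norm_num) (by decide +kernel)

theorem hn {S : Type u} [Group S] (h : Spor.IsoHN S) : DegRow S := by
  obtain ⟨e⟩ := h
  refine DegRow.congr e ?_
  exact deg_of_degree (d := 8910) (of_val H492.IMHN.exists_8910) (v := 2) (a := 3)
    (b := 5) (c := 11) (by norm_num) (by norm_num) (by norm_num) (by norm_num) (by decide +kernel)

theorem th {S : Type u} [Group S] (h : Spor.IsoTh S) : DegRow S := by
  obtain ⟨e⟩ := h
  refine DegRow.congr e ?_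
  exact deg_of_degree (d := 61256) (of_val H492.FactsTh.exists_61256) (v := 2) (a := 13)
    (b := 19) (c := 31) (by norm_num) (by norm_num) (by norm_num) (by norm_num) (by decide +kernel)

theorem b {S : Type u} [Group S] (h : Spor.IsoB S) : DegRow S := by
  obtain ⟨χ, -, hχ⟩ := H995.IMB.deg_b h (d := 96255) (by unfold H995.IMB.ds; simp)
  exact deg_of_degree (d := 96255) ⟨χ, hχ⟩ (v := 3) (a := 5)
    (b := 23) (c := 31) (by norm_num) (by norm_num) (by norm_num) (by norm_num) (by decide +kernel)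

end Cfsg.Agent.H658.Reg.Spor
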