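import Cfsg.Agent.H658.Reg.DegSporA
import Cfsg.Agent.H658.Reg.DegSporB
import Cfsg.Agent.H816.IMM

/-!
# `FactDeg` (helper658, S4920)

* `deg_spor` : in the degree graph of a sporadic simple group some prime has three neighbours;
* `factDeg'` : `FactDeg`, from the graph facts of the other simple groups.
-/

set_option autoImplicit false
set_option maxRecDepth 100000

namespace Cfsg.Agent.H658.Reg.Spor

open Cfsg Cfsg.Agent.H671 Cfsg.Agent.H671.H5 Cfsg.Agent.H671.GraphAsm Cfsg.Agent.H658.Reg

universe u

theorem m {S : Type u} [Group S] (h : Spor.IsoM S) : DegRow S := by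
  obtain ⟨χ, h1, h2⟩ := H816.IMM.exists_chi_842609326 h
  exact deg_of_degree (d := 842609326) ⟨⟨χ, h1⟩, Cfsg.Agent.H670.PSing.charDegree_eq_of (by push_cast; exact h2)⟩
    (v := 2) (a := 13) (b := 29) (c := 31) (by norm_num) (by norm_num) (by norm_num) (by norm_num) (by decide +kernel)

/-- **The sporadic groups.** -/
theorem deg_spor (S : Type u) [Group S] [Finite S] (h : IsSporadicGroup S) : DegRow S := by
  rcases h with h | h | h | h | h | h | h | h | h | h | h | h | h | h | h | h | h | h | h | h | h | h | h | h | h | h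
  · exact m11 h
  · exact m12 h
  · exact m22 h
  · exact m23 h
  · exact m24 h
  · exact j1 h
  · exact j2 h
  · exact j3 h
  · exact j4 h
  · exact co1 h
  · exact co2 h
  · exact co3 h
  · exact mcl h
  · exact hs h
  · exact suz h
  · exact he h
  · exact ru h
  · exact on h
  · exact ly h
  · exact fi22 h
  · exact fi23 h
  · exact fi24 h
  · exact hn h
  · exact th h
  · exact b h
  · exact m h

theorem factDeg' (hK : KnownAll.{u}) (hG : ∀ (S : Type u) [Group S] [Finite S] [IsSimpleGroup S],
    ¬ IsMulCommutative S → ¬ IsL2 S → GFacts S ∨ IsSporadicGroup S) : FactDeg.{u} :=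
  factDeg hK hG fun S _ _ _ h => deg_spor S h

end Cfsg.Agent.H658.Reg.Spor
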