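import Cfsg.Agent.H658.Reg.DegTool
import Cfsg.Agent.H678.DG.Mathieu
import Cfsg.Agent.H678.DG.Rows
import Cfsg.Agent.H678.DG.HS
import Cfsg.Agent.H678.DG.McL
import Cfsg.Agent.H678.DG.He
import Cfsg.Agent.H653.Spor.Mathieu
import Cfsg.Agent.H653.Spor.J1
import Cfsg.Agent.H653.Spor.J3
import Cfsg.Agent.H492.IMJ1
import Cfsg.Agent.H677.DG.TriSporA

/-!
# Three neighbours in the degree graphs of the sporadic groups, I (helper658, S4920)

`M11`, `M12`, `M22`, `M23`, `M24`, `J1`, `J2`, `J3`, `HS`, `McL`, `Suz`, `He`, `Ru`, `Fi22`, `Fi23`, `Co2`.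
-/

set_option autoImplicit false
set_option maxRecDepth 100000

namespace Cfsg.Agent.H658.Reg.Spor

open Cfsg Cfsg.Agent.H671 Cfsg.Agent.H658.Reg

universe u

theorem m11 {S : Type u} [Group S] (h : Spor.IsoM11 S) : DegRow S := by
  have h' := UGT.End.MEleven.isM11 h
  have : Finite S := Nat.finite_of_card_ne_zero (by rw [h'.2]; norm_num)
  exact deg_of_list (D := [10, 44, 45, 55]) (fun d hd => H678.DG.Mathieu.im_m11 h' hd) (v := 5) (a := 2) (b := 3)
    (c := 11) (by norm_num) (by norm_num) (by norm_num) (by norm_num) (by decide +kernel)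

theorem m12 {S : Type u} [Group S] (h : Spor.IsoM12 S) : DegRow S := by
  obtain ⟨e⟩ := h
  have h12 : IsM12 Spor.M12 := ⟨CpAutTThree.MTwelve.simple, CpAutTThree.MTwelve.card⟩
  have hcard : Nat.card Spor.M12 = 95040 := h12.2
  have : Finite Spor.M12 := Nat.finite_of_card_ne_zero (by rw [hcard]; norm_num)
  refine DegRow.congr e ?_
  obtain ⟨⟨d, ⟨χ, hχ⟩, hd⟩, -⟩ := H417.DegMTwelve.exists_both h12
  refine deg_of_list (D := [120, 55]) ?_ (v := 5) (a := 2) (b := 3)
    (c := 11) (by norm_num) (by norm_num) (by norm_num) (by norm_num) (by decide +kernel)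
  intro m hm
  simp only [List.mem_cons, List.not_mem_nil, or_false] at hm
  rcases hm with rfl | rfl
  · exact H678.DG.Mathieu.exists_120 h12
  · exact ⟨χ, by rw [hχ]; exact hd⟩

theorem m22 {S : Type u} [Group S] (h : Spor.IsoM22 S) : DegRow S := by
  have h' := H417.RecogMathieu.isM22 h
  have : Finite S := Nat.finite_of_card_ne_zero (by rw [h'.2]; norm_num)
  exact deg_of_list (D := [55, 99, 210, 231, 385]) (fun d hd => H653.Spor.Mathieu.im_m22 h' hd) (v := 2) (a := 3)
    (b := 5) (c := 7) (by norm_num) (by norm_num) (by norm_num) (by norm_num) (by decide +kernel)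

theorem m23 {S : Type u} [Group S] (h : Spor.IsoM23 S) : DegRow S := by
  have h' := H417.RecogMathieu.isM23 h
  have : Finite S := Nat.finite_of_card_ne_zero (by rw [h'.2]; norm_num)
  exact deg_of_list (D := [230, 45, 1035, 231, 2024, 896]) (fun d hd => H653.Spor.Mathieu.im_m23 h' hd) (v := 5)
    (a := 2) (b := 3) (c := 23) (by norm_num) (by norm_num) (by norm_num) (by norm_num) (by decide +kernel)

theorem m24 {S : Type u} [Group S] (h : Spor.IsoM24 S) : DegRow S := by
  have h' := H417.RecogMathieu.isM24 h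
  have : Finite S := Nat.finite_of_card_ne_zero (by rw [h'.2]; norm_num)
  exact deg_of_list (D := [1035, 5796, 1771, 2024, 5544, 990]) (fun d hd => H653.Spor.Mathieu.im_m24 h' hd) (v := 2)
    (a := 3) (b := 7) (c := 11) (by norm_num) (by norm_num) (by norm_num) (by norm_num) (by decide +kernel)

theorem j1 {S : Type u} [Group S] (h : Spor.IsoJ1 S) : DegRow S := by
  have h1 := H653.Spor.J1.facts S h
  have hc : Nat.card S = 175560 := by
    obtain ⟨e⟩ := h
    rw [Nat.card_congr e.toEquiv, H413.JOneLocal.card_J1]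
  have : Finite S := Nat.finite_of_card_ne_zero (by rw [hc]; norm_num)
  refine deg_of_conn h1.conn h1.tri (fourth_of_im ?_ fun t ht hd => ?_)
  · have h2 : ({2, 3, 5, 7} : Finset ℕ) ⊆ (Nat.card S).primeFactors := by
      intro x hx
      simp only [Finset.mem_insert, Finset.mem_singleton] at hx
      rw [hc, Nat.mem_primeFactors]
      rcases hx with rfl | rfl | rfl | rfl <;> norm_num
    have h3 := Finset.card_le_card h2
    simpa using h3
  · have : Fact t.Prime := ⟨ht⟩
    exact H492.IMJ1.im_j1 h hd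

theorem j2 {S : Type u} [Group S] (h : Spor.IsoJ2 S) : DegRow S := by
  obtain ⟨h1, -⟩ := H672.SporIM.j2 h
  obtain ⟨f⟩ := J2.HundredGens.J2_iso Cfsg.Agent.S1619.result.2.2.2
  obtain ⟨e⟩ := h
  have h2 : H672.SporIM.HasDeg S 90 := H672.SporIM.HasDeg.of_equiv (e.trans f) H678.DG.JTwoDeg.deg_90
  refine deg_of_list (D := [63, 90]) ?_ (v := 3) (a := 2)
    (b := 5) (c := 7) (by norm_num) (by norm_num) (by norm_num) (by norm_num) (by decide +kernel)
  intro m hm
  simp only [List.mem_cons, List.not_mem_nil, or_false] at hm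
  rcases hm with rfl | rfl
  · exact H678.DG.Rows.im_of_hasDeg h1
  · exact H678.DG.Rows.im_of_hasDeg h2

theorem j3 {S : Type u} [Group S] [Finite S] (h : Spor.IsoJ3 S) : DegRow S := by
  have h1 := H653.Spor.J3.clauses h
  refine deg_of_list (D := [6, 10, 34]) ?_ (v := 2) (a := 3)
    (b := 5) (c := 17) (by norm_num) (by norm_num) (by norm_num) (by norm_num) (by decide +kernel)
  intro m hm
  have h2 : H653.Graph.Cl S [m] := by
    simp only [List.mem_cons, List.not_mem_nil, or_false] at hm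
    rcases hm with rfl | rfl | rfl <;> exact h1 _ (by simp)
  obtain ⟨n, hn, χ, hχ⟩ := h2
  rw [List.mem_singleton] at hn
  subst hn
  exact ⟨χ, hχ⟩

theorem hs {S : Type u} [Group S] (h : Spor.IsoHS S) : DegRow S := by
  obtain ⟨e⟩ := h
  obtain ⟨⟨f⟩, -⟩ := HN.AutHS.nonempty_Q
  refine DegRow.congr (e.trans f.symm) ?_
  exact deg_of_degree (d := 770) H678.DG.HSDeg.deg_770 (v := 2) (a := 5)
    (b := 7) (c := 11) (by norm_num) (by norm_num) (by norm_num) (by norm_num) (by decide +kernel)

open Cfsg.Agent.H904.McLCent Cfsg.Agent.McLType.X275 Cfsg.Agent.McLType.Gens in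
theorem mcl {S : Type u} [Group S] (h : Spor.IsoMcL S) : DegRow S := by
  obtain ⟨θ, R⟩ := exists_rep h
  let f : S ≃* K0 := (MonoidHom.ofInjective R.inj).trans (MulEquiv.subgroupCongr R.range)
  refine DegRow.congr f ?_
  refine deg_of_list (D := [3520, 4500]) ?_ (v := 2) (a := 3)
    (b := 5) (c := 11) (by norm_num) (by norm_num) (by norm_num) (by norm_num) (by decide +kernel)
  intro m hm
  simp only [List.mem_cons, List.not_mem_nil, or_false] at hm
  rcases hm with rfl | rfl
  · obtain ⟨χ, hχ⟩ := H678.DG.McLDeg.deg_3520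
    exact ⟨χ, by rw [hχ]⟩
  · obtain ⟨χ, hχ⟩ := H678.DG.McLDeg.deg_4500
    exact ⟨χ, by rw [hχ]⟩

theorem suz {S : Type u} [Group S] (h : Spor.IsoSuz S) : DegRow S := by
  obtain ⟨-, h2⟩ := H672.SporIM.suz h
  exact deg_of_degree (d := 780) h2 (v := 2) (a := 3)
    (b := 5) (c := 13) (by norm_num) (by norm_num) (by norm_num) (by norm_num) (by decide +kernel)

theorem he {S : Type u} [Group S] (h : Spor.IsoHe S) : DegRow S := by
  obtain ⟨e⟩ := h
  refine DegRow.congr e ?_
  refine deg_of_list (D := [680, 1275]) ?_ (v := 5) (a := 2)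
    (b := 3) (c := 17) (by norm_num) (by norm_num) (by norm_num) (by norm_num) (by decide +kernel)
  intro m hm
  simp only [List.mem_cons, List.not_mem_nil, or_false] at hm
  rcases hm with rfl | rfl
  · exact H678.DG.He.im_of H678.DG.HeDegA.deg_680
  · exact H678.DG.He.im_of H678.DG.HeDegA.deg_1275

/-- `Ru` : 3276 -/
theorem ru {S : Type u} [Group S] (h : Spor.IsoRu S) : DegRow S := by
  obtain ⟨e⟩ := h
  have e' := e.trans Cfsg.Agent.RuLat.Main.equiv
  refine DegRow.congr e' ?_
  have := H690.Spor.Ru.instFiniteH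
  obtain ⟨R, hR⟩ := H690.Spor.Ru.r3
  refine deg_of_chk hR [3276] (by decide +kernel) ?_
  intro d hd
  rw [List.mem_singleton] at hd
  subst hd
  exact ⟨2, 3, 7, 13, by norm_num, by norm_num, by norm_num, by norm_num, by decide +kernel⟩

/-- `Fi22` : 3080 or 1430 -/
theorem fi22 {S : Type u} [Group S] (h : Spor.IsoFi22 S) : DegRow S := by
  obtain ⟨e⟩ := h
  have C := Cfsg.Agent.LThreeFi22.Inst.ctx e
  have : Finite S := Nat.finite_of_card_ne_zero (by rw [C.card]; norm_num)
  let _ := Cfsg.Agent.H870.IMFi22.act C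
  refine deg_of_chk (Cfsg.Agent.H870.IMFi22.r3 C) [3080, 1430] (by decide +kernel) ?_
  intro d hd
  rw [List.mem_cons, List.mem_singleton] at hd
  rcases hd with rfl | rfl
  · exact ⟨2, 5, 7, 11, by norm_num, by norm_num, by norm_num, by norm_num, by decide +kernel⟩
  · exact ⟨2, 5, 11, 13, by norm_num, by norm_num, by norm_num, by norm_num, by decide +kernel⟩

/-- `Fi23` : 30888 -/
theorem fi23 {S : Type u} [Group S] [Finite S] (h : Spor.IsoFi23 S) : DegRow S := by
  obtain ⟨e⟩ := h
  refine DegRow.congr e ?_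
  have : Finite Spor.Fi23 := Finite.of_equiv _ e.toEquiv
  obtain ⟨R, hR⟩ := Cfsg.Agent.H870.IMFi23.exists_r3
  refine deg_of_chk hR [30888] (by decide +kernel) ?_
  intro d hd
  rw [List.mem_singleton] at hd
  subst hd
  exact ⟨2, 3, 11, 13, by norm_num, by norm_num, by norm_num, by norm_num, by decide +kernel⟩

/-- `Co2` : 275, 2024 -/
theorem co2 {S : Type u} [Group S] (h : Spor.IsoCo2 S) : DegRow S := by
  obtain ⟨e⟩ := h
  refine DegRow.congr e ?_
  refine deg_of_list (D := [275, 2024]) ?_ (v := 11) (a := 2)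
    (b := 5) (c := 23) (by norm_num) (by norm_num) (by norm_num) (by norm_num) (by decide +kernel)
  intro m hm
  simp only [List.mem_cons, List.not_mem_nil, or_false] at hm
  rcases hm with rfl | rfl
  · exact H678.DG.Rows.im_of_hasDeg H843.IMC.Co2A.hasDeg_2024_275.2
  · exact H678.DG.Rows.im_of_hasDeg H843.IMC.Co2A.hasDeg_2024_275.1

end Cfsg.Agent.H658.Reg.Spor
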