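import Cfsg.Agent.H658.Reg.DegRow
import Cfsg.Agent.H690.Spor.RankThree

/-!
# Tools for the sporadic rows of `FactDeg` (helper658, S4920)

* `deg_of_list` : from a list of degrees;
* `deg_of_chk` : from a rank 3 action.
-/

set_option autoImplicit false
set_option maxRecDepth 100000

namespace Cfsg.Agent.H658.Reg

open Cfsg Cfsg.Agent.H671 Cfsg.Agent.H671.H5 Cfsg.Agent.H690.Spor.RankThree

universe u v

/-- the check: `v` is joined to `a`, `b`, `c` in the list `D` -/
def star (D : List ℕ) (v a b c : ℕ) : Bool :=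
  D.any (fun d => d % (v * a) == 0) && D.any (fun d => d % (v * b) == 0) && D.any (fun d => d % (v * c) == 0) &&
    v != a && v != b && v != c && a != b && b != c && a != c

theorem adj_of_any {S : Type u} [Group S] {D : List ℕ} (hD : ∀ d ∈ D, H5.IM d S) {v a : ℕ} (hv : v.Prime)
    (ha : a.Prime) (hne : v ≠ a) (h : D.any (fun d => d % (v * a) == 0) = true) : H5.Adj v a S := by
  rw [List.any_eq_true] at h
  obtain ⟨d, hd, h3⟩ := h
  obtain ⟨χ, hχ⟩ := hD d hd
  refine adj_iff.2 ⟨hne, hv, ha, χ, dvd_trans ?_ hχ⟩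
  exact Nat.dvd_of_mod_eq_zero (by simpa using h3)

/-- a star in a list of degrees -/
theorem deg_of_list {S : Type u} [Group S] {D : List ℕ} (hD : ∀ d ∈ D, H5.IM d S) {v a b c : ℕ} (hv : v.Prime)
    (ha : a.Prime) (hb : b.Prime) (hc : c.Prime) (h : star D v a b c = true) : DegRow S := by
  unfold star at h
  simp only [Bool.and_eq_true, bne_iff_ne] at h
  obtain ⟨⟨⟨⟨⟨⟨⟨⟨h1, h2⟩, h3⟩, e1⟩, e2⟩, e3⟩, e4⟩, e5⟩, e6⟩ := h
  exact ⟨v, a, b, c, e4, e5, e6, adj_of_any hD hv ha e1 h1, adj_of_any hD hv hb e2 h2, adj_of_any hD hv hc e3 h3⟩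

/-- a degree with four prime divisors -/
theorem deg_of_degree {S : Type u} [Group S] {d : ℕ} (h : ∃ χ : IrrCharacter S, charDegree (χ : S → ℂ) = d)
    {v a b c : ℕ} (hv : v.Prime) (ha : a.Prime) (hb : b.Prime) (hc : c.Prime) (hs : star [d] v a b c = true) :
    DegRow S := by
  refine deg_of_list (D := [d]) (fun m hm => ?_) hv ha hb hc hs
  rw [List.mem_singleton] at hm
  subst hm
  obtain ⟨χ, hχ⟩ := h
  exact ⟨χ, by rw [hχ]⟩

/-- rank 3 actions: all possible pairs of degrees have a member with four prime divisors -/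
theorem deg_of_r3 {G : Type u} {X : Type v} [Group G] [MulAction G X] [Finite G] {R : X → X → Prop} {k l : ℕ}
    (h : R3 G X R k l) (L : List ℕ)
    (hL : ∀ f ≤ (k + l) / 2, (1 + k + l) * k * l % (f * (k + l - f)) = 0 →
      Nat.sqrt ((1 + k + l) * k * l / (f * (k + l - f))) * Nat.sqrt ((1 + k + l) * k * l / (f * (k + l - f))) =
        (1 + k + l) * k * l / (f * (k + l - f)) ∨ f + f = k + l → f ∈ L ∨ k + l - f ∈ L)
    (hT : ∀ d ∈ L, ∃ v a b c : ℕ, v.Prime ∧ a.Prime ∧ b.Prime ∧ c.Prime ∧ star [d] v a b c = true) : DegRow G := by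
  classical
  have hX : Finite X := by
    apply Nat.finite_of_card_ne_zero
    rw [h.cardn]
    omega
  have := Fintype.ofFinite X
  obtain ⟨χ₁, χ₂, f, g, D, h1, h2, -, h3, h4, h5⟩ := h.frame
  have d1 : charDegree (χ₁ : G → ℂ) = f := Cfsg.Agent.H670.PSing.charDegree_eq_of h1
  have d2 : charDegree (χ₂ : G → ℂ) = g := Cfsg.Agent.H670.PSing.charDegree_eq_of h2
  have hN : 0 < (1 + k + l) * k * l := by
    have := h.k0
    have := h.l0
    positivity
  have key : ∀ f g : ℕ, f + g = k + l → f * g * D = (1 + k + l) * k * l → (f ≠ g → IsSquare D) → f ≤ g →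
      f ∈ L ∨ g ∈ L := by
    intro f g h3 h4 h5 hle
    have hg : g = k + l - f := by omega
    have hfg : 0 < f * g := by
      rcases Nat.eq_zero_or_pos (f * g) with h | h
      · rw [h, zero_mul] at h4
        omega
      · exact h
    have hdiv : (1 + k + l) * k * l / (f * g) = D := by
      rw [← h4, Nat.mul_div_cancel_left _ hfg]
    rw [hg] at hdiv h4 ⊢
    refine hL f (by omega) ?_ ?_
    · rw [← h4]
      exact Nat.mul_mod_right _ _
    · rw [hdiv]
      by_cases hne : f = g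
      · right; omega
      · left
        obtain ⟨s, rfl⟩ := h5 hne
        rw [Nat.sqrt_eq]
  have fin : ∀ d ∈ L, (∃ χ : IrrCharacter G, charDegree (χ : G → ℂ) = d) → DegRow G := by
    intro d hd hχ
    obtain ⟨v, a, b, c, hv, ha, hb, hc, e4⟩ := hT d hd
    exact deg_of_degree hχ hv ha hb hc e4
  rcases le_total f g with hle | hle
  · rcases key f g h3 h4 h5 hle with h | h
    · exact fin f h ⟨χ₁, d1⟩
    · exact fin g h ⟨χ₂, d2⟩
  · rcases key g f (by omega) (by rw [mul_comm g f]; exact h4) (fun h => h5 h.symm) hle with h | h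
    · exact fin g h ⟨χ₂, d2⟩
    · exact fin f h ⟨χ₁, d1⟩

/-- the boolean check -/
def chk (k l : ℕ) (L : List ℕ) : Bool :=
  (List.range ((k + l) / 2 + 1)).all fun f =>
    !((1 + k + l) * k * l % (f * (k + l - f)) == 0) ||
    !(Nat.sqrt ((1 + k + l) * k * l / (f * (k + l - f))) * Nat.sqrt ((1 + k + l) * k * l / (f * (k + l - f))) ==
        (1 + k + l) * k * l / (f * (k + l - f)) || f + f == k + l) || L.contains f || L.contains (k + l - f)

theorem deg_of_chk {G : Type u} {X : Type v} [Group G] [MulAction G X] [Finite G] {R : X → X → Prop} {k l : ℕ}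
    (h : R3 G X R k l) (L : List ℕ) (hc : chk k l L = true)
    (hT : ∀ d ∈ L, ∃ v a b c : ℕ, v.Prime ∧ a.Prime ∧ b.Prime ∧ c.Prime ∧ star [d] v a b c = true) : DegRow G := by
  refine deg_of_r3 h L (fun f hf h1 h2 => ?_) hT
  have h3 := List.all_eq_true.1 hc f (List.mem_range.2 (by omega))
  simp only [Bool.or_eq_true, Bool.not_eq_true', beq_eq_false_iff_ne, Bool.or_eq_false_iff, List.contains_iff_mem] at h3
  rcases h3 with ((h3 | h3) | h3) | h3
  · exact absurd h1 h3
  · exfalso
    rcases h2 with h2 | h2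
    · exact h3.1 h2
    · exact h3.2 h2
  · exact Or.inl h3
  · exact Or.inr h3

end Cfsg.Agent.H658.Reg
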