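import Cfsg.Agent.H658.Reg.OddMain
import Cfsg.Agent.H191.CrossE

/-!
# Perfect groups over `PSL(2,q)`, `q` even (helper658, S4920)

`even_red` : the homomorphism `X → PSL(2,q)` is injective.
-/

set_option autoImplicit false
set_option linter.unusedSectionVars false

namespace Cfsg.Agent.H658.Reg

open Cfsg Matrix Subgroup

universe u

theorem im_of_mem {X : Type u} [Group X] {m d : ℕ} (hd : d ∈ charDegrees X) (h : m ∣ d) : H33.IM m X := by
  obtain ⟨χ, rfl⟩ := hd
  exact ⟨χ, h⟩

theorem even_red_aux {F : Type} [Field F] [Fintype F] (heven : Even (Fintype.card F)) (h4 : 4 < Fintype.card F) (n : ℕ) :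
    ∀ (X : Type u) [Group X] [Finite X], Nat.card X ≤ n → commutator X = ⊤ →
    ∀ (π : X →* ProjectiveSpecialLinearGroup (Fin 2) F), Function.Surjective π → Group.IsSolvable π.ker →
    (∃ x : ℕ, x.Prime ∧ x ∣ Fintype.card F - 1 ∧ ¬ H33.IM ((Fintype.card F + 1) * x) X) →
    (∀ x : ℕ, x.Prime → x ∣ Fintype.card F - 1 → ¬ H33.IM (2 * (Fintype.card F + 1) * x) X) → π.ker = ⊥ := by
  induction n with
  | zero =>
    intro X _ _ hn
    exact absurd hn (by have := Nat.card_pos (α := X); omega)
  | succ n ih =>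
    intro X _ _ hn hX π hπ hsol hno1 hno2
    by_contra hWb
    obtain ⟨V, hVn, hVW, hVb, hmin⟩ := H671.Frame.exists_minNormal (N := π.ker) inferInstance hWb
    by_cases hVe : π.ker = V
    · subst hVe
      have hVc := abelian_of_minNormal hsol hVb hmin
      by_cases hVz : π.ker ≤ center X
      · have h1 := card_ker_dvd hX (by omega) (by omega) (by
          intro h
          rw [h] at heven
          exact absurd heven (by decide)) π hπ hVz
        have h2 : Nat.gcd 2 (Fintype.card F - 1) = 1 := by
          have h3 := even_iff_two_dvd.1 heven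
          rw [← Nat.Coprime, Nat.prime_two.coprime_iff_not_dvd]
          omega
        rw [h2, Nat.dvd_one, Subgroup.card_eq_one] at h1
        exact hWb h1
      · obtain ⟨x, hx, hxd, hxn⟩ := hno1
        rcases H191.Cross.crossE π.ker hVc hmin hVz F heven h4
          (QuotientGroup.quotientKerEquivOfSurjective π hπ) x hx hxd with ⟨d, hd, hdd⟩ | ⟨r, hr, hrd, d, hd, hdd⟩
        · exact hxn (im_of_mem hd hdd)
        · exact hno2 r hr hrd (im_of_mem hd hdd)
    · obtain ⟨π', h1, h2, h3, h5, -, hk⟩ := quot_data hX π hπ hsol V hVW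
      have hNc : 1 < Nat.card V := by
        have h5 : Nat.card V ≠ 1 := fun h => hVb (Subgroup.card_eq_one.1 h)
        have h6 : 0 < Nat.card V := Nat.card_pos
        omega
      have hcard : Nat.card (X ⧸ V) ≤ n := by
        have h5 := V.card_mul_index
        rw [Subgroup.index_eq_card] at h5
        have h6 : 0 < Nat.card (X ⧸ V) := Nat.card_pos
        have h7 : 2 * Nat.card (X ⧸ V) ≤ Nat.card V * Nat.card (X ⧸ V) := Nat.mul_le_mul_right _ hNc
        omega
      have h6 := ih (X ⧸ V) hcard h3 π' h1 h2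
        (by
          obtain ⟨x, hx, hxd, hxn⟩ := hno1
          exact ⟨x, hx, hxd, fun h => hxn (h.of_quotient V)⟩)
        (fun x hx hxd h => hno2 x hx hxd (h.of_quotient V))
      rw [h6, Subgroup.card_bot, mul_one] at h5
      exact hVe (Subgroup.eq_of_le_of_card_ge hVW h5.ge).symm

/-- **The homomorphism is injective.** -/
theorem even_red {F : Type} [Field F] [Fintype F] (heven : Even (Fintype.card F)) (h4 : 4 < Fintype.card F)
    {X : Type u} [Group X] [Finite X] (hX : commutator X = ⊤)
    (π : X →* ProjectiveSpecialLinearGroup (Fin 2) F) (hπ : Function.Surjective π) (hsol : Group.IsSolvable π.ker)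
    (hno1 : ∃ x : ℕ, x.Prime ∧ x ∣ Fintype.card F - 1 ∧ ¬ H33.IM ((Fintype.card F + 1) * x) X)
    (hno2 : ∀ x : ℕ, x.Prime → x ∣ Fintype.card F - 1 → ¬ H33.IM (2 * (Fintype.card F + 1) * x) X) : π.ker = ⊥ :=
  even_red_aux heven h4 _ X le_rfl hX π hπ hsol hno1 hno2

end Cfsg.Agent.H658.Reg
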