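import Cfsg.Agent.H658.Reg.TopData
import Cfsg.Agent.H658.Reg.CombEven
import Cfsg.Agent.H658.Reg.EvenMain

/-!
# 2-regular degree graphs of non-solvable groups: `|F|` is not even (helper658, S4920)
-/

set_option autoImplicit false
set_option linter.unusedSectionVars false

namespace Cfsg.Agent.H658.Reg

open Cfsg Subgroup Cfsg.Agent.H33 Cfsg.Agent.H988.DG Cfsg.Agent.Characters.Core Cfsg.Agent.H681.DegBasic

universe u

/-- The degrees of a normal subgroup of index prime to `m`. -/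
theorem im_down {G : Type u} [Group G] [Finite G] (K : Subgroup G) [K.Normal] {a b : ℕ} (ha : a.Prime) (hb : b.Prime)
    (haK : ¬ a ∣ K.index) (hbK : ¬ b ∣ K.index) (h : IM (a * b) G) : IM (a * b) K := by
  classical
  have := Fintype.ofFinite G
  have := Fintype.ofFinite K
  obtain ⟨χ, hχ⟩ := h
  obtain ⟨n, hn0, hn'⟩ := isIrr_apply_one χ.2
  rw [H670.PSing.charDegree_eq_of hn'] at hχ
  obtain ⟨ψ, d, hψ, hψ1, -, hdn, hdi⟩ := exists_constituent K χ.2 hn'
  refine IM.of_apply_one hψ hψ1 ?_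
  have h4 : n = d * (n / d) := (Nat.mul_div_cancel' hdn).symm
  rw [h4] at hχ
  refine Nat.Coprime.dvd_of_dvd_mul_right ?_ hχ
  exact Nat.Coprime.mul_left ((Nat.Prime.coprime_iff_not_dvd ha).2 fun h => haK (h.trans hdi))
    ((Nat.Prime.coprime_iff_not_dvd hb).2 fun h => hbK (h.trans hdi))

section

variable {G : Type u} [Group G] [Finite G] (T : Fr G) (T0 : Top0 G)
  (hN : T0.N.map (QuotientGroup.mk' T.R) = T.K.map (QuotientGroup.mk' T.R))

theorem even_four (h : Reg2 G) (h3 : Set.ncard (degreePrimes G) ≠ 3) (heven : Even (Fintype.card T.F)) :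
    4 < Fintype.card T.F := by
  have hF := T.hF
  by_contra hcon
  have h4 : Fintype.card T.F = 4 := by omega
  refine four T h h3 2 3 5 fun t ht hd => ?_
  rcases even_prime T heven ht hd with h1 | h1 | h1
  · exact Or.inl h1
  · rw [h4] at h1
    exact Or.inr (Or.inr ((Nat.prime_dvd_prime_iff_eq ht Nat.prime_five).1 h1))
  · rw [h4] at h1
    exact Or.inr (Or.inl ((Nat.prime_dvd_prime_iff_eq ht Nat.prime_three).1 h1))

include hN in
/-- **`|F|` is not even.** -/
theorem not_even (h : Reg2 G) (h3 : Set.ncard (degreePrimes G) ≠ 3) : ¬ Even (Fintype.card T.F) := by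
  intro heven
  have h4 := even_four T h h3 heven
  have hup : ∀ {m : ℕ}, IM m T0.N → IM m G := fun hm => hm.of_normal T0.N
  have hker : (pi T T0 hN).ker = ⊥ := by
    refine even_red heven h4 (N_perfect T0) (pi T T0 hN) (pi_surj T T0 hN) (pi_solv T T0 hN) ?_ ?_
    · by_contra hcon
      push Not at hcon
      exact even_one T h h3 heven fun x hx hxd => hup (hcon x hx hxd)
    · intro x hx hxd him
      exact even_two T h h3 heven hx hxd (hup him)
  have hc : Nat.card (pi T T0 hN).ker ≤ 2 := by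
    rw [hker, Subgroup.card_bot]
    omega
  have hcomm := comm_of_card T T0 hN hc
  have hint : T0.N ⊓ T.R = ⊥ := by
    rw [← Subgroup.card_eq_one, card_inf T T0 hN, hker, Subgroup.card_bot]
  -- the degrees of `R`
  have hR : ∀ t : ℕ, t.Prime → ¬ IM t T.R := by
    intro t ht him
    have htG : t ∈ degreePrimes G := mem_dp_iff.2 ⟨ht, him.of_normal T.R⟩
    refine not_all T h h3 htG fun x hx hxd hxt => ?_
    have h1 : IM x T0.N := (im_L T hx hxd).of_surjective (pi T T0 hN) (pi_surj T T0 hN)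
    exact (adj_of_im hx ht hxt (im_of_two T0.N T.R hcomm hint h1 him)).symm
  have h2L : 2 ∣ Nat.card T.L := two_dvd_card_psl T.hF
  have h2G := vert T Nat.prime_two h2L
  have hodd1 : ¬ 2 ∣ Fintype.card T.F + 1 := by
    have := even_iff_two_dvd.1 heven
    omega
  have hodd2 : ¬ 2 ∣ Fintype.card T.F - 1 := by
    have := even_iff_two_dvd.1 heven
    omega
  obtain ⟨u, -, -, hu, -, -⟩ := h.two h2G
  obtain ⟨h2u, -, hup', him⟩ := adj_iff.1 hu
  have hout : ∀ t : ℕ, t.Prime → t ∣ T.K.index → t ∈ degreePrimes G →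
      (t = 2 ∨ (degreeGraph G).Adj t 2) → False := by
    intro t ht htd htG ht2
    rw [index_Kb T] at htd
    obtain ⟨-, h5⟩ := H714.Tri.out T.Kb T.e T.hF T.cen ht htd
    obtain ⟨⟨d1, hd1, hdd1⟩, h6⟩ := h5 heven
    obtain ⟨d2, hd2, hdd2⟩ := h6 h4
    have hi1 : IM (t * (Fintype.card T.F - 1)) G := (im_of_mem hd1 hdd1).of_quotient T.R
    have hi2 : IM (t * (Fintype.card T.F + 1)) G := (im_of_mem hd2 hdd2).of_quotient T.R
    refine not_all T h h3 htG fun x hx hxd hxt => ?_
    rcases even_prime T heven hx hxd with h7 | h7 | h7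
    · subst h7
      rcases ht2 with h8 | h8
      · exact absurd h8.symm hxt
      · exact h8
    · exact adj_of_dvd ht hx hxt.symm hi2 (Dvd.intro _ rfl) (Dvd.dvd.mul_left h7 _)
    · exact adj_of_dvd ht hx hxt.symm hi1 (Dvd.intro _ rfl) (Dvd.dvd.mul_left h7 _)
  have h2K : ¬ 2 ∣ T.K.index := fun hd => hout 2 Nat.prime_two hd h2G (Or.inl rfl)
  have huK : ¬ u ∣ T.K.index := fun hd => hout u hup' hd (mem_of_adj hu.symm) (Or.inr hu.symm)
  have h5 : IM (2 * u) T.K := im_down T.K Nat.prime_two hup' h2K huK him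
  have h6 : IM (2 * u) (T0.N × T.R) := h5.of_surjective (mulHom T T0 hN hcomm) (mulHom_surj T T0 hN hcomm)
  have h7 : IM (2 * u) T0.N := im_of_prod hR h6
  have hinj : Function.Injective (pi T T0 hN) := (MonoidHom.ker_eq_bot_iff _).1 hker
  have h8 : IM (2 * u) T.L := (IM.congr (MulEquiv.ofBijective (pi T T0 hN) ⟨hinj, pi_surj T T0 hN⟩)).1 h7
  have hch : CharP T.F 2 := by
    have hF2 : ringChar T.F = 2 := FiniteField.even_card_iff_char_two.2 (Nat.even_iff.1 heven)
    exact hF2 ▸ ringChar.charP T.F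
  have h9 := ((S4812.result T.F _ rfl T.hF (S := T.L) (Or.inl ⟨MulEquiv.refl _⟩)).2 2 u).1
    (adj_of_im Nat.prime_two hup' h2u h8)
  rcases h9 with ⟨-, -, -, h10 | h10⟩
  · exact hodd1 h10.1
  · exact hodd2 h10.1

end

end Cfsg.Agent.H658.Reg
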