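import Cfsg.Agent.H658.Reg.Link0
import Cfsg.Agent.H664.R1.PSLTwo

/-!
# The frame of a non-solvable group with a 2-regular degree graph (helper658, S4920)

* `exists_top0` : a non-solvable minimal normal subgroup of `G / R` gives a `Top0`;
* `Top0.ncard_of_tri` : a triangle linked to all primes of `|S|` is the whole graph;
* `Top0.l2` : `k = 1` and `S ≅ PSL(2,F)` unless the graph has three vertices;
* `exists_fr` : the frame.
-/

set_option autoImplicit false

namespace Cfsg.Agent.H658.Reg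

open Cfsg Subgroup Cfsg.Agent.H33 Cfsg.Agent.H988.DG Cfsg.Agent.H671 Cfsg.Agent.H671.H5
open scoped commutatorElement

universe u

/-- two surjective homomorphisms with the same kernel -/
noncomputable def equivOfKer {A : Type*} {B : Type*} {C : Type*} [Group A] [Group B] [Group C] (f : A →* B) (g : A →* C)
    (hf : Function.Surjective f) (hg : Function.Surjective g) (h : f.ker = g.ker) : B ≃* C :=
  (QuotientGroup.quotientKerEquivOfSurjective f hf).symm.trans
    ((QuotientGroup.quotientMulEquivOfEq h).trans (QuotientGroup.quotientKerEquivOfSurjective g hg))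

theorem exists_top0 {G : Type u} [Group G] [Finite G] (R : Subgroup G) [R.Normal] (L : Subgroup (G ⧸ R)) (hL : L.Normal)
    (hmin : ∀ L' : Subgroup (G ⧸ R), L'.Normal → L' ≤ L → L' = ⊥ ∨ L' = L) (hns : ¬ Group.IsSolvable L) :
    ∃ T : Top0 G, T.M = T.N ⊓ R ∧ T.N.map (QuotientGroup.mk' R) = L ∧ Nonempty (L ≃* (Fin T.k → T.S)) := by
  classical
  have hLb : L ≠ ⊥ := by
    rintro rfl
    exact hns inferInstance
  have hna : ¬ IsMulCommutative L := fun h => hns (Group.isSolvable_of_comm fun a b => h.is_comm.comm a b)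
  obtain ⟨S, iS, iS', k, hk, hS, ⟨e⟩⟩ := H671.Frame.minNormal_pi hL hLb hmin hna
  have hfS : Finite S := by
    have : Finite (Fin k → S) := Finite.of_equiv _ e.toEquiv
    have h0 : Fin k := ⟨0, hk⟩
    exact Finite.of_surjective (fun f : Fin k → S => f h0) fun s => ⟨fun _ => s, rfl⟩
  have hperfL : ⁅L, L⁆ = L := by
    rcases hmin ⁅L, L⁆ inferInstance (Subgroup.commutator_le_right L L) with h | h
    · exfalso
      apply hna
      refine ⟨⟨fun a b => ?_⟩⟩
      apply Subtype.ext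
      have h1 := Subgroup.commutator_mem_commutator (H₁ := L) (H₂ := L) a.2 b.2
      rw [h, Subgroup.mem_bot, commutatorElement_eq_one_iff_mul_comm] at h1
      exact h1
    · exact h
  have hfin : Finite (Subgroup G) := inferInstance
  have hex : (L.comap (QuotientGroup.mk' R)).Normal ∧ (L.comap (QuotientGroup.mk' R)).map (QuotientGroup.mk' R) = L :=
    ⟨inferInstance, Subgroup.map_comap_eq_self_of_surjective (QuotientGroup.mk'_surjective R) L⟩
  obtain ⟨N, hN⟩ := Set.Finite.exists_minimal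
    (Set.toFinite {N : Subgroup G | N.Normal ∧ N.map (QuotientGroup.mk' R) = L}) ⟨_, hex⟩
  have hNn : N.Normal := hN.1.1
  have hNm : N.map (QuotientGroup.mk' R) = L := hN.1.2
  have hperf : ⁅N, N⁆ = N := by
    have hle : ⁅N, N⁆ ≤ N := Subgroup.commutator_le_right N N
    refine le_antisymm hle (hN.2 ⟨inferInstance, ?_⟩ hle)
    rw [Subgroup.map_commutator, hNm, hperfL]
  have hlt : N ⊓ R < N := by
    refine lt_of_le_of_ne inf_le_left fun h => hLb ?_
    rw [← hNm, Subgroup.map_eq_bot_iff, QuotientGroup.ker_mk']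
    exact inf_eq_left.1 h
  have h1 : ((QuotientGroup.mk' (N ⊓ R)).subgroupMap N).ker = ((QuotientGroup.mk' R).subgroupMap N).ker := by
    ext x
    rw [MonoidHom.mem_ker, MonoidHom.mem_ker]
    constructor
    · intro h
      have h2 : ((x : G) : G ⧸ (N ⊓ R)) = 1 := congrArg Subtype.val h
      have h3 := (QuotientGroup.eq_one_iff _).1 h2
      exact Subtype.ext ((QuotientGroup.eq_one_iff _).2 h3.2)
    · intro h
      have h2 : ((x : G) : G ⧸ R) = 1 := congrArg Subtype.val h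
      have h3 := (QuotientGroup.eq_one_iff _).1 h2
      exact Subtype.ext ((QuotientGroup.eq_one_iff _).2 ⟨x.2, h3⟩)
  let e1 : N.map (QuotientGroup.mk' (N ⊓ R)) ≃* N.map (QuotientGroup.mk' R) :=
    equivOfKer _ _ (MonoidHom.subgroupMap_surjective _ _) (MonoidHom.subgroupMap_surjective _ _) h1
  let e2 : N.map (QuotientGroup.mk' (N ⊓ R)) ≃* (Fin k → S) :=
    (e1.trans (MulEquiv.subgroupCongr hNm)).trans e
  exact ⟨⟨N, N ⊓ R, hNn, inferInstance, hlt, hperf, S, iS, iS', hfS, k, hk, hS, e2⟩, rfl, hNm, ⟨e⟩⟩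

/-- A set of vertices closed under adjacency is closed under reachability. -/
theorem closed_reach {V : Type*} {Γ : SimpleGraph V} {C : Set V} (hC : ∀ a ∈ C, ∀ b, Γ.Adj a b → b ∈ C) {a b : V}
    (h : Γ.Reachable a b) (ha : a ∈ C) : b ∈ C := by
  obtain ⟨w⟩ := h
  induction w with
  | nil => exact ha
  | cons hadj _ ih => exact ih (hC _ ha _ hadj)

theorem reach_of_gam {G : Type u} [Group G] {p q : ↥(degreePrimes G)} (h : (Link.Gam G).Reachable p q) :
    (degreeGraph G).Reachable p.1 q.1 :=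
  h.map (SimpleGraph.Embedding.induce (degreePrimes G)).toHom

/-- A simple group other than `PSL(2,F)` whose order has four prime divisors: some prime has three neighbours. -/
def FactDeg : Prop := ∀ (S : Type u) [Group S] [Finite S] [IsSimpleGroup S], ¬ IsMulCommutative S → ¬ IsL2 S →
  4 ≤ (Nat.card S).primeFactors.card →
    ∃ v a b c : ℕ, a ≠ b ∧ b ≠ c ∧ a ≠ c ∧ H5.Adj v a S ∧ H5.Adj v b S ∧ H5.Adj v c S

theorem Reg2.no_three {G : Type u} [Group G] (h : Reg2 G) {v a b c : ℕ} (hab : a ≠ b) (hbc : b ≠ c) (hac : a ≠ c)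
    (ha : (degreeGraph G).Adj v a) (hb : (degreeGraph G).Adj v b) (hc : (degreeGraph G).Adj v c) : False := by
  rcases h.cases ha hb hab hc with h1 | h1
  · exact hac h1.symm
  · exact hbc h1.symm

theorem three_of_card_le {S : Type u} [Group S] [Finite S] (h : (Nat.card S).primeFactors.card ≤ 3) {p q r : ℕ}
    (hpq : p ≠ q) (hqr : q ≠ r) (hpr : p ≠ r) (hp : p ∈ degreePrimes S) (hq : q ∈ degreePrimes S)
    (hr : r ∈ degreePrimes S) (t : ℕ) (ht : t.Prime) (htd : t ∣ Nat.card S) : t = p ∨ t = q ∨ t = r := by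
  by_contra hcon
  push Not at hcon
  have hm : ∀ x ∈ degreePrimes S, x ∈ (Nat.card S).primeFactors := by
    intro x hx
    obtain ⟨hxp, hxi⟩ := mem_dp_iff.1 hx
    exact Nat.mem_primeFactors.2 ⟨hxp, hxi.dvd_card, Nat.card_pos.ne'⟩
  have h3 : ({p, q, r} : Finset ℕ).card = 3 := Finset.card_eq_three.2 ⟨p, q, r, hpq, hpr, hqr, rfl⟩
  have h4 : (insert t ({p, q, r} : Finset ℕ)).card = 4 := by
    rw [Finset.card_insert_of_notMem, h3]
    simpa using hcon
  have h5 : insert t ({p, q, r} : Finset ℕ) ⊆ (Nat.card S).primeFactors := by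
    intro x hx
    have hx' : x = t ∨ x = p ∨ x = q ∨ x = r := by simpa using hx
    rcases hx' with rfl | rfl | rfl | rfl
    · exact Nat.mem_primeFactors.2 ⟨ht, htd, Nat.card_pos.ne'⟩
    · exact hm _ hp
    · exact hm _ hq
    · exact hm _ hr
  have h6 := Finset.card_le_card h5
  omega

namespace Top0

variable {G : Type u} [Group G] [Finite G] (T : Top0 G)

/-- A triangle linked to all primes of `|S|` is the whole graph. -/
theorem ncard_of_tri (hE : FactExt.{0}) (h : Reg2 G) {x y z : ℕ} (hxy : (degreeGraph G).Adj x y)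
    (hyz : (degreeGraph G).Adj y z) (hxz : (degreeGraph G).Adj x z)
    (hS : ∀ t : ℕ, t.Prime → t ∣ Nat.card T.S → (degreeGraph G).Reachable x t) :
    Set.ncard (degreePrimes G) = 3 := by
  have hC : ∀ a ∈ ({x, y, z} : Set ℕ), ∀ b, (degreeGraph G).Adj a b → b ∈ ({x, y, z} : Set ℕ) := by
    intro a ha b hab
    exact h.tri_closed hxy hyz hxz ha hab
  have heq : degreePrimes G = ({x, y, z} : Set ℕ) := by
    ext t
    constructor
    · intro ht
      obtain ⟨htp, χ, hχ⟩ := mem_dp_iff.1 ht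
      obtain ⟨q, hq, hqS, hqd, hr⟩ := T.link hE htp ⟨χ, rfl⟩ hχ
      have h1 := reach_of_gam hr
      exact closed_reach hC ((hS q hq hqS).trans h1.symm) (Or.inl rfl)
    · rintro (rfl | rfl | rfl)
      · exact mem_of_adj hxy
      · exact mem_of_adj hyz
      · exact mem_of_adj hyz.symm
  rw [heq]
  exact Set.ncard_eq_three.2 ⟨x, y, z, hxy.ne, hxz.ne, hyz.ne, rfl⟩

theorem not_solvable : ¬ Group.IsSolvable T.S := by
  intro h
  exact T.na ⟨⟨fun a b => IsSimpleGroup.comm_iff_isSolvable.2 h a b⟩⟩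

theorem im_of {m : ℕ} (h : H33.IM m T.S) : H33.IM m G := by
  obtain ⟨χ, hχ⟩ := h
  obtain ⟨n, ⟨ψ, hψ⟩, hn⟩ := T.ofS ⟨χ, rfl⟩
  exact ⟨ψ, hχ.trans (hψ ▸ hn)⟩

theorem im_mul (hk : 2 ≤ T.k) {a b : ℕ} (ha : H33.IM a T.S) (hb : H33.IM b T.S) : H33.IM (a * b) G := by
  obtain ⟨χ, hχ⟩ := ha
  obtain ⟨ψ, hψ⟩ := hb
  obtain ⟨n, ⟨η, hη⟩, hn⟩ := T.ofS_mul hk ⟨χ, rfl⟩ ⟨ψ, rfl⟩
  exact ⟨η, (Nat.mul_dvd_mul hχ hψ).trans (hη ▸ hn)⟩

/-- The socle is `PSL(2,F)`. -/
theorem l2 (hD : FactDeg.{0}) (hT : FactTri.{0}) (hE : FactExt.{0}) (h : Reg2 G)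
    (h3 : Set.ncard (degreePrimes G) ≠ 3) :
    T.k = 1 ∧ ∃ (F : Type) (_ : Field F) (_ : Fintype F), 4 ≤ Fintype.card F ∧
      Nonempty (T.S ≃* Matrix.ProjectiveSpecialLinearGroup (Fin 2) F) := by
  have hk : T.k = 1 := by
    by_contra hk
    have hk2 : 2 ≤ T.k := by
      have := T.kpos
      omega
    by_cases h4 : 4 ≤ (Nat.card T.S).primeFactors.card
    · -- four primes
      obtain ⟨v, a, b, c, hva, hvb, hvc, hab, hbc, hac, hv, ha, hb, hc⟩ : ∃ v a b c : ℕ, v ≠ a ∧ v ≠ b ∧ v ≠ c ∧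
          a ≠ b ∧ b ≠ c ∧ a ≠ c ∧ (v.Prime ∧ H33.IM v T.S) ∧ (a.Prime ∧ H33.IM a T.S) ∧ (b.Prime ∧ H33.IM b T.S) ∧
          (c.Prime ∧ H33.IM c T.S) := by
        by_cases hL : IsL2 T.S
        · obtain ⟨F, iF, iF', hF, ⟨e⟩⟩ := hL
          have him : ∀ t ∈ (Nat.card T.S).primeFactors, t.Prime ∧ H33.IM t T.S := by
            intro t ht
            have htp := Nat.prime_of_mem_primeFactors ht
            have htd : t ∣ Nat.card (Matrix.ProjectiveSpecialLinearGroup (Fin 2) F) := by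
              rw [← Nat.card_congr e.toEquiv]
              exact Nat.dvd_of_mem_primeFactors ht
            exact ⟨htp, (H33.IM.congr e).2 (H664.R1.PSLTwo.im_psl hF htp htd)⟩
          obtain ⟨Q, hQ, hQ4⟩ := Finset.exists_subset_card_eq h4
          obtain ⟨v, Q', hvQ, hQ', hQ3⟩ := Finset.card_eq_succ.1 hQ4
          obtain ⟨a, b, c, hab, hac, hbc, hQe⟩ := Finset.card_eq_three.1 hQ3
          have hva : v ≠ a ∧ v ≠ b ∧ v ≠ c := by
            rw [hQe] at hvQ
            simpa using hvQ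
          have hm : ∀ t, (t = v ∨ t = a ∨ t = b ∨ t = c) → t.Prime ∧ H33.IM t T.S := by
            intro t ht
            refine him t (hQ ?_)
            rw [← hQ', hQe]
            simpa using ht
          exact ⟨v, a, b, c, hva.1, hva.2.1, hva.2.2, hab, hbc, hac, hm v (Or.inl rfl), hm a (Or.inr (Or.inl rfl)),
            hm b (Or.inr (Or.inr (Or.inl rfl))), hm c (Or.inr (Or.inr (Or.inr rfl)))⟩
        · obtain ⟨v, a, b, c, hab, hbc, hac, h1, h2, h5⟩ := hD T.S T.na hL h4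
          have hm : ∀ {x y : ℕ}, H5.Adj x y T.S → x.Prime ∧ H33.IM x T.S := by
            intro x y hxy
            exact mem_dp_iff.1 (mem_of_adj hxy)
          exact ⟨v, a, b, c, h1.ne, h2.ne, h5.ne, hab, hbc, hac, hm h1, hm h1.symm, hm h2.symm, hm h5.symm⟩
      exact h.no_three hab hbc hac (adj_of_im hv.1 ha.1 hva (T.im_mul hk2 hv.2 ha.2))
        (adj_of_im hv.1 hb.1 hvb (T.im_mul hk2 hv.2 hb.2)) (adj_of_im hv.1 hc.1 hvc (T.im_mul hk2 hv.2 hc.2))
    · obtain ⟨p, q, r, hpq, hqr, hpr, hp, hq, hr⟩ := S4782.result T.not_solvable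
      have hall := three_of_card_le (S := T.S) (by omega) hpq hqr hpr hp hq hr
      rw [mem_dp_iff] at hp hq hr
      have hpq' := adj_of_im hp.1 hq.1 hpq (T.im_mul hk2 hp.2 hq.2)
      have hpr' := adj_of_im hp.1 hr.1 hpr (T.im_mul hk2 hp.2 hr.2)
      refine h3 (T.ncard_of_tri hE h hpq' (adj_of_im hq.1 hr.1 hqr (T.im_mul hk2 hq.2 hr.2)) hpr' ?_)
      intro t ht htS
      rcases hall t ht htS with rfl | rfl | rfl
      · exact SimpleGraph.Reachable.refl _
      · exact hpq'.reachable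
      · exact hpr'.reachable
  refine ⟨hk, ?_⟩
  by_cases hL : IsL2 T.S
  · exact hL
  · exfalso
    have hup : ∀ {a b : ℕ}, (degreeGraph T.S).Adj a b → (degreeGraph G).Adj a b := by
      intro a b hab
      obtain ⟨h5, h6, h7, h8⟩ := H988.DG.adj_iff.1 hab
      exact adj_of_im h6 h7 h5 (T.im_of h8)
    by_cases h4 : 4 ≤ (Nat.card T.S).primeFactors.card
    · obtain ⟨v, a, b, c, hab, hbc, hac, h1, h2, h5⟩ := hD T.S T.na hL h4
      exact h.no_three hab hbc hac (hup h1) (hup h2) (hup h5)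
    · obtain ⟨p, q, r, h1, h2, h5⟩ := hT T.S T.na hL
      have hall := three_of_card_le (S := T.S) (by omega) h1.ne h2.ne h5.ne (mem_of_adj h1) (mem_of_adj h2)
        (mem_of_adj h2.symm)
      refine h3 (T.ncard_of_tri hE h (hup h1) (hup h2) (hup h5) ?_)
      intro t ht htS
      rcases hall t ht htS with rfl | rfl | rfl
      · exact SimpleGraph.Reachable.refl _
      · exact (hup h1).reachable
      · exact (hup h5).reachable

end Top0

/-- **The frame.** -/
theorem exists_fr (hD : FactDeg.{0}) (hT : FactTri.{0}) (hE : FactExt.{0}) {G : Type u} [Group G]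
    [Finite G] (hG : ¬ Group.IsSolvable G) (h : Reg2 G) (h3 : Set.ncard (degreePrimes G) ≠ 3) :
    ∃ (T : Fr G) (T0 : Top0 G), T0.M = T0.N ⊓ T.R ∧
      T0.N.map (QuotientGroup.mk' T.R) = T.K.map (QuotientGroup.mk' T.R) := by
  classical
  have hRn : (solvableRadical G).Normal := H459.Rad.rad_normal G
  set R := solvableRadical G with hR
  have hrad : solvableRadical (G ⧸ R) = ⊥ := H459.Rad.rad_quotient
  have hnc : ∀ N : Subgroup (G ⧸ R), N.Normal → Group.IsSolvable N → N = ⊥ := by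
    intro N hN hs
    rw [eq_bot_iff, ← hrad]
    exact H459.Rad.le_rad hN hs
  have hmain : ∀ N : Subgroup (G ⧸ R), N.Normal → N ≠ ⊥ → ∃ (L : Subgroup (G ⧸ R)) (T0 : Top0 G), L.Normal ∧ L ≤ N ∧
      L ≠ ⊥ ∧ T0.M = T0.N ⊓ R ∧ T0.N.map (QuotientGroup.mk' R) = L ∧ Nonempty (L ≃* T0.S) ∧
      ∃ (F : Type) (_ : Field F) (_ : Fintype F), 4 ≤ Fintype.card F ∧
      Nonempty (L ≃* Matrix.ProjectiveSpecialLinearGroup (Fin 2) F) := by
    intro N hN hNb
    obtain ⟨L, hL, hLN, hLb, hmin⟩ := H671.Frame.exists_minNormal hN hNb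
    obtain ⟨T0, h1, h2, ⟨e⟩⟩ := exists_top0 R L hL hmin fun hs => hLb (hnc L hL hs)
    obtain ⟨hk, F, iF, iF', hF, ⟨e'⟩⟩ := T0.l2 hD hT hE h h3
    have hu : Unique (Fin T0.k) := by rw [hk]; infer_instance
    let e2 : L ≃* T0.S := e.trans (MulEquiv.funUnique (Fin T0.k) T0.S)
    exact ⟨L, T0, hL, hLN, hLb, h1, h2, ⟨e2⟩, F, iF, iF', hF, ⟨e2.trans e'⟩⟩
  have hnt : (⊤ : Subgroup (G ⧸ R)) ≠ ⊥ := by
    intro h
    apply hG
    rw [← H459.Rad.rad_eq_top_iff]
    have h1 : Subsingleton (G ⧸ R) := by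
      rw [← Subgroup.subsingleton_iff]
      exact subsingleton_of_bot_eq_top h.symm
    exact QuotientGroup.subgroup_eq_top_of_subsingleton _ h1
  obtain ⟨L, T0, hL, -, hLb, hM0, hN0, ⟨eS⟩, F, iF, iF', hF, ⟨e⟩⟩ := hmain ⊤ inferInstance hnt
  have hcomapmap : (L.comap (QuotientGroup.mk' R)).map (QuotientGroup.mk' R) = L :=
    Subgroup.map_comap_eq_self_of_surjective (QuotientGroup.mk'_surjective R) L
  have hcen : Subgroup.centralizer (L : Set (G ⧸ R)) = ⊥ := by
    by_contra hCn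
    obtain ⟨M, T1, hM, hMC, hMb, -, -, -, F', iF1, iF1', hF', ⟨e'⟩⟩ := hmain _ inferInstance hCn
    have hcomm : ∀ a ∈ L, ∀ b ∈ M, a * b = b * a := fun a ha b hb => Subgroup.mem_centralizer_iff.1 (hMC hb) a ha
    have hint : L ⊓ M = ⊥ := by
      refine hnc _ inferInstance (Group.isSolvable_of_comm fun a b => Subtype.ext ?_)
      exact hcomm _ a.2.1 _ b.2.2
    obtain ⟨h2, p, p', hp, hp', hp2, hp2', hpp, hip, hip'⟩ := primes_psl hF e
    obtain ⟨g2, q, q', hq, hq', hq2, hq2', hqq, hiq, hiq'⟩ := primes_psl hF' e'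
    obtain ⟨r, hr, hr2, hpr, hir⟩ : ∃ r : ℕ, r.Prime ∧ r ≠ 2 ∧ p ≠ r ∧ H33.IM r M := by
      by_cases h : p = q
      · exact ⟨q', hq', hq2', fun h' => hqq (h.symm.trans h'), hiq'⟩
      · exact ⟨q, hq, hq2, h, hiq⟩
    have him : ∀ {a b : ℕ}, a.Prime → b.Prime → a ≠ b → H33.IM a L → H33.IM b M → (degreeGraph G).Adj a b := by
      intro a b ha hb hab h1 h2
      exact adj_of_im ha hb hab ((im_of_two L M hcomm hint h1 h2).of_quotient R)
    refine h3 (T0.ncard_of_tri hE h (x := 2) (y := p) (z := r) (him hp Nat.prime_two hp2 hip g2).symm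
      (him hp hr hpr hip hir) (him Nat.prime_two hr hr2.symm h2 hir) ?_)
    intro t ht htS
    by_cases ht2 : 2 = t
    · rw [ht2]
    · have h5 : H33.IM t L := by
        rw [← Nat.card_congr eS.toEquiv, Nat.card_congr e.toEquiv] at htS
        exact (IM.congr e).2 (H664.R1.PSLTwo.im_psl hF ht htS)
      exact (him ht Nat.prime_two (Ne.symm ht2) h5 g2).symm.reachable
  refine ⟨⟨R, L.comap (QuotientGroup.mk' R), hRn, inferInstance, ?_, ?_, ?_, F, iF, iF', hF,
    (MulEquiv.subgroupCongr hcomapmap).trans e, ?_⟩, T0, hM0, ?_⟩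
  · have := Subgroup.ker_le_comap (QuotientGroup.mk' R) L
    rwa [QuotientGroup.ker_mk'] at this
  · exact (H459.Rad.rad_spec G).2.1
  · intro N hN hs
    exact H459.Rad.le_rad hN hs
  · rw [hcomapmap]
    exact hcen
  · show T0.N.map (QuotientGroup.mk' R) = (L.comap (QuotientGroup.mk' R)).map (QuotientGroup.mk' R)
    rw [hcomapmap, hN0]

end Cfsg.Agent.H658.Reg
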