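import Cfsg.Agent.H988.DG.Rel

/-!
# Degree graphs in which every vertex has exactly two neighbours (helper658, TEAM DEG, S4920)

* `Reg2` : every vertex has exactly two neighbours;
* `Reg2.other`, `Reg2.two`, `Reg2.cases`, `Reg2.tri` : neighbours.
-/

set_option autoImplicit false

namespace Cfsg.Agent.H658.Reg

open Cfsg Cfsg.Agent.H988.DG

universe u

/-- Every vertex of the degree graph has exactly two neighbours. -/
def Reg2 (G : Type u) [Group G] : Prop :=
  ∀ p ∈ degreePrimes G, Set.ncard {q : ℕ | (degreeGraph G).Adj p q} = 2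

variable {G : Type u} [Group G]

/-- product of two degrees primes: the edge -/
theorem adj_of_im {p q : ℕ} (hp : p.Prime) (hq : q.Prime) (hpq : p ≠ q) (h : H33.IM (p * q) G) :
    (degreeGraph G).Adj p q := adj_iff.2 ⟨hpq, hp, hq, h⟩

/-- Every prime dividing a common degree. -/
theorem adj_of_dvd {p q m : ℕ} (hp : p.Prime) (hq : q.Prime) (hpq : p ≠ q) (h : H33.IM m G) (h1 : p ∣ m) (h2 : q ∣ m) :
    (degreeGraph G).Adj p q :=
  adj_of_im hp hq hpq (im_mono h (Nat.Coprime.mul_dvd_of_dvd_of_dvd ((Nat.coprime_primes hp hq).2 hpq) h1 h2))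

theorem mem_of_adj {p q : ℕ} (h : (degreeGraph G).Adj p q) : p ∈ degreePrimes G := by
  obtain ⟨-, hp, -, hm⟩ := adj_iff.1 h
  exact mem_dp_iff.2 ⟨hp, im_mono hm (Dvd.intro _ rfl)⟩

namespace Reg2

variable (h : Reg2 G)

include h

theorem two {p : ℕ} (hp : p ∈ degreePrimes G) :
    ∃ a b : ℕ, a ≠ b ∧ (degreeGraph G).Adj p a ∧ (degreeGraph G).Adj p b ∧
      ∀ c, (degreeGraph G).Adj p c → c = a ∨ c = b := by
  obtain ⟨a, b, hab, hs⟩ := Set.ncard_eq_two.1 (h p hp)
  refine ⟨a, b, hab, ?_, ?_, fun c hc => ?_⟩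
  · have : a ∈ {q : ℕ | (degreeGraph G).Adj p q} := by rw [hs]; exact Or.inl rfl
    exact this
  · have : b ∈ {q : ℕ | (degreeGraph G).Adj p q} := by rw [hs]; exact Or.inr rfl
    exact this
  · have : c ∈ {q : ℕ | (degreeGraph G).Adj p q} := hc
    rw [hs] at this
    exact this

theorem cases {p a b c : ℕ} (ha : (degreeGraph G).Adj p a) (hb : (degreeGraph G).Adj p b) (hab : a ≠ b)
    (hc : (degreeGraph G).Adj p c) : c = a ∨ c = b := by
  obtain ⟨x, y, -, -, -, h3⟩ := h.two (mem_of_adj ha)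
  rcases h3 a ha with rfl | rfl <;> rcases h3 b hb with rfl | rfl <;> rcases h3 c hc with rfl | rfl <;>
    first
      | exact absurd rfl hab
      | exact Or.inl rfl
      | exact Or.inr rfl

theorem other {p a : ℕ} (ha : (degreeGraph G).Adj p a) : ∃ b, b ≠ a ∧ (degreeGraph G).Adj p b := by
  obtain ⟨x, y, hxy, h1, h2, -⟩ := h.two (mem_of_adj ha)
  by_cases hx : x = a
  · exact ⟨y, fun hy => hxy (hx.trans hy.symm), h2⟩
  · exact ⟨x, hx, h1⟩

/-- a vertex of a triangle has no other neighbour -/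
theorem tri {p a b c : ℕ} (ha : (degreeGraph G).Adj p a) (hb : (degreeGraph G).Adj p b)
    (hab : (degreeGraph G).Adj a b) (hc : (degreeGraph G).Adj p c) : c = a ∨ c = b :=
  h.cases ha hb hab.ne hc

/-- a triangle is a component -/
theorem tri_closed {x y z a b : ℕ} (hxy : (degreeGraph G).Adj x y) (hyz : (degreeGraph G).Adj y z)
    (hxz : (degreeGraph G).Adj x z) (ha : a = x ∨ a = y ∨ a = z) (hab : (degreeGraph G).Adj a b) :
    b = x ∨ b = y ∨ b = z := by
  rcases ha with rfl | rfl | rfl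
  · rcases h.tri hxy hxz hyz hab with rfl | rfl
    · exact Or.inr (Or.inl rfl)
    · exact Or.inr (Or.inr rfl)
  · rcases h.tri hxy.symm hyz hxz hab with rfl | rfl
    · exact Or.inl rfl
    · exact Or.inr (Or.inr rfl)
  · rcases h.tri hxz.symm hyz.symm hxy hab with rfl | rfl
    · exact Or.inl rfl
    · exact Or.inr (Or.inl rfl)

end Reg2

end Cfsg.Agent.H658.Reg
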