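import Cfsg.Agent.H525.L2.Main
import Cfsg.Agent.H678.Codeg
import Cfsg.Agent.H672.Lin

/-!
# Normal subgroups of the inertia factor group and degrees (helper658, S4920)

* `abelian_of_coprime` : `π : Q → Y` with central kernel, `l` a linear character of the kernel, `A` normal in `Y`, all
  degrees over `l` prime to `|A|`: then `A` is abelian;
* `exists_red_ind` : the reduction for a character of a normal subgroup.
-/

set_option autoImplicit false
set_option linter.unusedSectionVars false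

namespace Cfsg.Agent.H658.Reg

open Cfsg
open scoped ComplexConjugate
open Cfsg.Agent.Characters.Core
open Cfsg.Agent.H595.Count Cfsg.Agent.H595.Central Cfsg.Agent.H595.Triple
open Cfsg.Agent.H525.L2

universe u v

/-- A central element acts by the same scalar above and below. -/
theorem scalar_of_over {Q : Type u} [Group Q] [Fintype Q] (A : Subgroup Q) [Fintype A] {β : Q → ℂ}
    (hβ : IsIrrCharacter Q β) {γ : A → ℂ} (h : classInner (fun a : A => β a) γ ≠ 0) (z : A) (hz : (z : Q) ∈ Subgroup.center Q)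
    (c : ℂ) (hc : c * conj c = 1) (hγ : ∀ a : A, γ (a * z) = γ a * c) (g : Q) : β (g * z) = β g * c := by
  obtain ⟨w, -, hw⟩ := Cfsg.Agent.CharDeep.DegreeBound.exists_omega hβ hz
  have h0 : ∑ x : A, β x * conj (γ x) = w * conj c * ∑ x : A, β x * conj (γ x) := by
    calc ∑ x : A, β x * conj (γ x) = ∑ x : A, β ((x * z : A) : Q) * conj (γ (x * z)) :=
          (Fintype.sum_equiv (Equiv.mulRight z) _ _ (fun x => rfl)).symm
      _ = _ := by
          rw [Finset.mul_sum]
          refine Finset.sum_congr rfl fun x _ => ?_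
          rw [hγ, Subgroup.coe_mul, hw, map_mul]
          ring
  have h1 : ∑ x : A, β x * conj (γ x) ≠ 0 := by
    intro h2
    apply h
    rw [classInner_def, h2, mul_zero]
  have h2 : w * conj c = 1 := by
    have h3 : (w * conj c - 1) * ∑ x : A, β x * conj (γ x) = 0 := by
      rw [sub_mul, ← h0, one_mul, sub_self]
    exact sub_eq_zero.1 ((mul_eq_zero.1 h3).resolve_right h1)
  have h4 : w = c := by
    calc w = w * (c * conj c) := by rw [hc, mul_one]
      _ = c * (w * conj c) := by ring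
      _ = c := by rw [h2, mul_one]
  rw [hw, h4, mul_comm]

theorem abelian_of_coprime {Q : Type u} [Group Q] [Finite Q] {Y : Type v} [Group Y] [Finite Y] {π : Q →* Y}
    (l : π.ker →* ℂˣ) (hs : Function.Surjective π) (hc : π.ker ≤ Subgroup.center Q) (A : Subgroup Y) [hA : A.Normal]
    (h : ∀ β : IrrCharacter Q, Over π l (β : Q → ℂ) → (charDegree (β : Q → ℂ)).Coprime (Nat.card A)) :
    ∀ a ∈ A, ∀ b ∈ A, a * b = b * a := by
  classical
  have := Fintype.ofFinite Q
  let A' : Subgroup Q := A.comap π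
  have hA' : A'.Normal := inferInstance
  have := Fintype.ofFinite A'
  let p : A' →* A := π.subgroupComap A
  have hps : Function.Surjective p := by
    rintro ⟨a, ha⟩
    obtain ⟨x, rfl⟩ := hs a
    exact ⟨⟨x, ha⟩, rfl⟩
  have hpk : ∀ z : p.ker, ((z : A') : Q) ∈ π.ker := by
    intro z
    exact congrArg Subtype.val (MonoidHom.mem_ker.1 z.2)
  let i : p.ker →* π.ker := (A'.subtype.comp p.ker.subtype).codRestrict π.ker hpk
  let lA : p.ker →* ℂˣ := l.comp i
  have hcA : p.ker ≤ Subgroup.center A' := by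
    intro z hz
    rw [Subgroup.mem_center_iff]
    intro g
    apply Subtype.ext
    exact Subgroup.mem_center_iff.1 (hc (hpk ⟨z, hz⟩)) g
  have hdeg : ∀ γ : IrrCharacter A', Over p lA (γ : A' → ℂ) → charDegree (γ : A' → ℂ) = 1 := by
    intro γ hγ
    obtain ⟨β, hβ, hover⟩ := H672.exists_over_subtype A' γ.2
    have h1 := (H672.charDegree_dvd_of_over A' hβ γ.2 hover).1
    have hβo : Over π l β := by
      intro a z
      have hzA : (z : Q) ∈ A' := by
        show π z ∈ A
        rw [MonoidHom.mem_ker.1 z.2]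
        exact A.one_mem
      have hzk : (⟨z, hzA⟩ : A') ∈ p.ker := Subtype.ext (MonoidHom.mem_ker.1 z.2)
      refine scalar_of_over A' hβ ((H672.over_subtype_iff A' β γ).1 hover) ⟨z, hzA⟩ (hc z.2) (l z)
        (H672.lf_mul_conj l z) (fun x => ?_) a
      exact hγ x ⟨⟨z, hzA⟩, hzk⟩
    have h2 := h ⟨β, hβ⟩ hβo
    have h3 := H678.Codeg.charDegree_dvd_index_center γ
    have h4 : charDegree (γ : A' → ℂ) ∣ Nat.card A := by
      rw [← index_eq hps]
      exact h3.trans (Subgroup.index_dvd_of_le hcA)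
    exact Nat.eq_one_of_dvd_coprimes h2 h1 h4
  obtain ⟨γ0, hγ0⟩ := exists_over lA hps hcA
  obtain ⟨lam, hlam⟩ := exists_linear hcA γ0.2 hγ0 (deg_spec γ0.2).1 γ0.2 hγ0 (deg_spec γ0.2).1
    (by rw [hdeg γ0 hγ0]; exact Nat.coprime_one_left 1)
  have hlin : ∀ η : IrrCharacter A, (η : A → ℂ) 1 = 1 := by
    intro η
    have hirr := Cfsg.Agent.CharactersDeep.ExtUnique.isIrr_mul_hom (isIrr_comp p hps η.2) lam
    have ho : Over p lA (fun g => ((η : A → ℂ) ∘ p) g * lam g) := by
      intro g z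
      have h1 : p (g * z) = p g := by rw [map_mul, (MonoidHom.mem_ker.1 z.2), mul_one]
      show (η : A → ℂ) (p (g * z)) * lam (g * z) = (η : A → ℂ) (p g) * lam g * lA z
      rw [h1, map_mul, hlam, Units.val_mul, mul_assoc]
    have hb := hdeg ⟨_, hirr⟩ ho
    have h1 := (deg_spec hirr).1
    have h2 : charDegree (fun g => ((η : A → ℂ) ∘ p) g * (lam g : ℂ)) = 1 := hb
    rw [h2] at h1
    have h3 : (fun g => ((η : A → ℂ) ∘ p) g * (lam g : ℂ)) 1 = (η : A → ℂ) 1 := by
      show (η : A → ℂ) (p 1) * (lam 1 : ℂ) = _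
      rw [map_one, map_one, Units.val_one, mul_one]
    rw [← h3]
    exact h1.trans Nat.cast_one
  have hcomm := Cfsg.Agent.S0187.result.2 hlin
  intro a ha b hb
  exact congrArg Subtype.val (hcomm ⟨a, ha⟩ ⟨b, hb⟩)

/-- **The reduction.** `θ ∈ Irr(M)` with inertia group `I`: a central extension `Q` of `I / M` and a linear character of the
kernel such that the characters over it give characters of `X` over `θ`. -/
theorem exists_red_ind {X : Type u} [Group X] [Finite X] (M : Subgroup X) [hM : M.Normal] (θ : M → ℂ)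
    (hθ : IsIrrCharacter M θ) (I : Subgroup X) (hI : I = H672.inertia M θ) :
    ∃ (Q : Type u) (_ : Group Q) (_ : Finite Q) (π : Q →* I ⧸ M.subgroupOf I) (l : π.ker →* ℂˣ),
      Function.Surjective π ∧ π.ker ≤ Subgroup.center Q ∧ Function.Injective l ∧
      ∀ β : IrrCharacter Q, Over π l (β : Q → ℂ) → ∃ χ : IrrCharacter X,
        charDegree (χ : X → ℂ) = I.index * charDegree (β : Q → ℂ) * charDegree θ := by
  classical
  have := Fintype.ofFinite X
  have := Fintype.ofFinite M
  subst hI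
  set T := Cfsg.Agent.H672.inertia M θ with hTdef
  have := Fintype.ofFinite T
  have hT : ∀ g : X, g ∈ T ↔ ∀ n : M, θ ⟨g * n * g⁻¹, hM.conj_mem (n : X) n.2 g⟩ =
      θ n := fun g => Cfsg.Agent.H672.mem_inertia_iff
  have hMT : M ≤ T := Cfsg.Agent.H672.le_inertia (isIrr_isClassFunction hθ)
  let N : Subgroup T := M.subgroupOf T
  let eN : N ≃* M := Subgroup.subgroupOfEquivOfLe hMT
  let θ' : IrrCharacter N := ⟨θ ∘ eN, isIrr_comp eN.toMonoidHom eN.surjective hθ⟩
  have hinv : CInv N (θ' : N → ℂ) := by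
    intro x n
    exact (hT x).1 x.2 (eN n)
  obtain ⟨Q, hg, hfin, π, l, hs, hc, hl, H⟩ := exists_red N θ' hinv
  refine ⟨Q, hg, hfin, π, l, hs, hc, hl, ?_⟩
  intro β hβ
  obtain ⟨ψ, hψ⟩ := H β hβ
  have hψ' : ∀ m : M, (ψ : T → ℂ) ⟨m, hMT m.2⟩ = (charDegree (β : Q → ℂ) : ℂ) * θ m := by
    intro m
    have := hψ ⟨⟨m, hMT m.2⟩, m.2⟩
    rw [(deg_spec β.2).1] at this
    exact this
  obtain ⟨h1, h2, h3⟩ := over_ind M hθ T hT hMT ψ.2 (deg_spec β.2).2.ne' hψ'
  refine ⟨⟨_, h1⟩, ?_⟩
  have h4 := hψ' 1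
  have h5 : (⟨((1 : M) : X), hMT (1 : M).2⟩ : T) = 1 := rfl
  rw [h5, (deg_spec hθ).1] at h4
  rw [h4, (deg_spec h1).1] at h2
  have h6 : charDegree (indFun T (ψ : T → ℂ)) =
      T.index * (charDegree (β : Q → ℂ) * charDegree θ) := by exact_mod_cast h2
  rw [mul_assoc]
  exact h6

end Cfsg.Agent.H658.Reg
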