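import Cfsg.Agent.H671.Link
import Cfsg.Agent.H658.Reg.Graph

/-!
# Linking primes to an arbitrary non-abelian chief factor (after helper671; helper658, S4920)

`Top0` : `N` perfect normal, `M < N` normal, `N / M ≅ S ^ k`, `S` non-abelian simple (the data `Link.Top` without
the solvability of `G / N`); `Top0.link` : every prime dividing a degree of `G` is reachable from a prime divisor of `|S|`.
The proofs are those of helper671 (`H671.Link`).
-/

set_option autoImplicit false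

namespace Cfsg.Agent.H658.Reg

open Cfsg Cfsg.Agent.Characters.Core Cfsg.Agent.H681.DegBasic Cfsg.Agent.H671 Cfsg.Agent.H671.H5 Cfsg.Agent.H671.Link
open scoped ComplexConjugate commutatorElement

universe u

/-- A perfect normal subgroup with a characteristic-simple non-abelian quotient. -/
structure Top0 (G : Type u) [Group G] where
  N : Subgroup G
  M : Subgroup G
  hN : N.Normal
  hM : M.Normal
  lt : M < N
  perf : ⁅N, N⁆ = N
  S : Type
  grp : Group S
  simple : IsSimpleGroup S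
  fin : Finite S
  k : ℕ
  kpos : 1 ≤ k
  na : ¬ IsMulCommutative S
  e : N.map (QuotientGroup.mk' M) ≃* (Fin k → S)

namespace Top0

variable {G : Type u} [Group G] [Finite G] (T : Top0 G)

instance nNormal : T.N.Normal := T.hN
instance mNormal : T.M.Normal := T.hM
instance sGroup : Group T.S := T.grp
instance sSimple : IsSimpleGroup T.S := T.simple
instance sFinite : Finite T.S := T.fin

/-- the chief factor -/
abbrev Nb : Subgroup (G ⧸ T.M) := T.N.map (QuotientGroup.mk' T.M)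

instance nbNormal : T.Nb.Normal := Subgroup.Normal.map T.hN _ (QuotientGroup.mk'_surjective T.M)

/-- Degrees of `S` divide degrees of `G`. -/
theorem ofS {n : ℕ} (hn : n ∈ charDegrees T.S) : ∃ m ∈ charDegrees G, n ∣ m := by
  have h1 : n ∈ charDegrees T.Nb := equiv T.e (pi_one (⟨0, T.kpos⟩ : Fin T.k) hn)
  obtain ⟨m, hm, hnm⟩ := overN T.Nb h1
  exact ⟨m, quot T.M hm, hnm⟩

/-- Products of two degrees of `S` divide degrees of `G` if there are two factors. -/
theorem ofS_mul (hk : 2 ≤ T.k) {a b : ℕ} (ha : a ∈ charDegrees T.S) (hb : b ∈ charDegrees T.S) :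
    ∃ m ∈ charDegrees G, a * b ∣ m := by
  have h0 : (⟨0, by omega⟩ : Fin T.k) ≠ ⟨1, by omega⟩ := by
    intro h; exact absurd (congrArg Fin.val h) (by simp)
  have h1 : a * b ∈ charDegrees T.Nb := equiv T.e (pi_mul h0 ha hb)
  obtain ⟨m, hm, hnm⟩ := overN T.Nb h1
  exact ⟨m, quot T.M hm, hnm⟩

omit [Finite G] in
theorem card_Nb : Nat.card T.Nb = Nat.card T.S ^ T.k := by
  rw [Nat.card_congr T.e.toEquiv, Nat.card_fun]
  simp

omit [Finite G] in
/-- `|N : M| = |S| ^ k` -/
theorem index_eq : (T.M.subgroupOf T.N).index = Nat.card T.S ^ T.k := by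
  rw [← card_Nb, Nb, ← Subgroup.relIndex_ker, QuotientGroup.ker_mk']
  rfl

omit [Finite G] in
theorem not_le : ¬ T.N ≤ T.M := not_le_of_gt T.lt

/-- `N / M` has a degree `≠ 1` -/
theorem exists_degree_ne_one : ∃ b ∈ charDegrees (T.N ⧸ T.M.subgroupOf T.N), b ≠ 1 := by
  by_contra hcon
  push Not at hcon
  apply T.not_le
  have hcomm : ∀ a b : T.N ⧸ T.M.subgroupOf T.N, a * b = b * a := by
    rw [S0187.result]
    intro χ
    obtain ⟨n, hn⟩ := isCharacter_apply_one (isIrr_isCharacter χ.2)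
    rw [hn, hcon n (mem_charDegrees.2 ⟨χ, χ.2, hn⟩), Nat.cast_one]
  rw [← T.perf, Subgroup.commutator_le]
  intro a ha b hb
  have h1 := hcomm (QuotientGroup.mk ⟨a, ha⟩) (QuotientGroup.mk ⟨b, hb⟩)
  rw [← QuotientGroup.mk_mul, ← QuotientGroup.mk_mul, eq_comm, QuotientGroup.eq] at h1
  have h2 : (⟨b, hb⟩ * ⟨a, ha⟩ : T.N)⁻¹ * (⟨a, ha⟩ * ⟨b, hb⟩) ∈ T.M.subgroupOf T.N := h1
  rw [Subgroup.mem_subgroupOf] at h2
  have h3 : (b * a)⁻¹ * (a * b) ∈ T.M := h2
  have h4 := T.hM.conj_mem _ h3 (b * a)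
  have h5 : b * a * ((b * a)⁻¹ * (a * b)) * (b * a)⁻¹ = ⁅a, b⁆ := by
    rw [commutatorElement_def]; group
  rwa [h5] at h4

/-- Every prime dividing a degree of `N` is linked in `G` to a prime dividing `|S|`. -/
theorem linkNG {d p : ℕ} (hd : d ∈ charDegrees T.N) (hpd : p ∣ d) :
    ∃ q n : ℕ, q.Prime ∧ q ∣ Nat.card T.S ∧ n ∈ charDegrees G ∧ p ∣ n ∧ q ∣ n := by
  obtain ⟨b, hb, hb1⟩ := T.exists_degree_ne_one
  obtain ⟨q, n, hq, hqi, hn, hpn, hqn⟩ := linkN (T.M.subgroupOf T.N) hb hb1 hd hpd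
  rw [index_eq] at hqi
  obtain ⟨m, hm, hnm⟩ := overN T.N hn
  exact ⟨q, m, hq, hq.dvd_of_dvd_pow hqi, hm, hpn.trans hnm, hqn.trans hnm⟩

/-- **Linking**: for every degree `n` of `G` and every prime `p ∣ n` some prime divisor of `|S|` is reachable from `p`. -/
theorem link (hE : FactExt.{0}) {n p : ℕ} (hp : p.Prime) (hn : n ∈ charDegrees G) (hpn : p ∣ n) :
    ∃ (q : ℕ) (_ : q.Prime) (_ : q ∣ Nat.card T.S) (hq : q ∈ degreePrimes G),
      (Gam G).Reachable ⟨p, mem_dp hp hn hpn⟩ ⟨q, hq⟩ := by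
  classical
  have : Fintype G := Fintype.ofFinite _
  have : Fintype T.N := Fintype.ofFinite _
  obtain ⟨χ, hχ, hχ1⟩ := mem_charDegrees.1 hn
  obtain ⟨θ, d, hθ, hθ1, hne, hdn, -⟩ := exists_constituent T.N hχ hχ1
  by_cases h1 : d = 1
  · -- `N` is in the kernel
    subst h1
    obtain ⟨f, rfl⟩ := Characters.Linear.exists_hom_of_isIrrCharacter hθ (by rw [hθ1, Nat.cast_one])
    have hf : ∀ x : T.N, f x = 1 := by
      have h1 : commutator T.N = ⊤ := by
        rw [eq_top_iff, ← Subgroup.map_subtype_le_map_subtype, Subgroup.map_subtype_commutator, T.perf]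
        exact Subgroup.map_subtype_le _
      intro x
      have h2 : x ∈ commutator T.N := h1 ▸ Subgroup.mem_top x
      exact Abelianization.commutator_subset_ker f h2
    have hsum : ∑ x : T.N, χ x ≠ 0 := by
      intro h0
      apply hne
      rw [classInner_def]
      simp only [hf, Units.val_one, map_one, mul_one]
      rw [h0, mul_zero]
    obtain ⟨χ', hχ'⟩ := Blocks.Deflate.exists_deflation T.N χ hχ hsum
    have hn' : n ∈ charDegrees (G ⧸ T.N) := by
      refine mem_charDegrees.2 ⟨χ', χ'.2, ?_⟩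
      rw [← hχ1, hχ']
      rfl
    obtain ⟨α, hα1, hα⟩ := hE T.S T.na
    obtain ⟨ψ, hψ1, hψ⟩ := CopRed.exists_power T.M T.Nb T.na T.e hα
    -- `ψ` restricted to `N` is irreducible
    let π : T.N →* T.Nb := (QuotientGroup.mk' T.M).subgroupMap T.N
    have hπ : Function.Surjective π := MonoidHom.subgroupMap_surjective _ _
    have hres : IsIrrCharacter T.N (fun x : T.N => (ψ : G → ℂ) x) := by
      have h1 : (fun x : T.N => (ψ : G → ℂ) x) =
          (fun s : Fin T.k → T.S => ∏ i, (α : T.S → ℂ) (s i)) ∘ ((T.e : T.Nb →* (Fin T.k → T.S)).comp π) := by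
        funext x
        exact hψ x (Subgroup.mem_map_of_mem _ x.2)
      rw [h1]
      exact isIrr_comp _ (T.e.surjective.comp hπ) (isIrr_pi fun _ => α.2)
    have h2 : (ψ : G → ℂ) 1 = (charDegree (ψ : G → ℂ) : ℂ) := Blocks.Basic.irr_one_eq_charDegree ψ.2
    have h3 := gallagher (QuotientGroup.mk' T.N) (QuotientGroup.mk'_surjective T.N) T.N
      (fun k hk => (QuotientGroup.eq_one_iff k).2 hk) ψ.2 hres h2 hn'
    obtain ⟨q, hq, hqα⟩ := Nat.exists_prime_and_dvd hα1
    have hqS : q ∣ Nat.card T.S := hqα.trans (dvd_card ⟨α, rfl⟩)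
    have hqn : q ∣ n * charDegree (ψ : G → ℂ) := by
      rw [hψ1]
      exact Dvd.dvd.mul_left (hqα.trans (dvd_pow_self _ (by have := T.kpos; omega))) _
    refine ⟨q, hq, hqS, mem_dp hq h3 hqn, ?_⟩
    exact reach hp hq h3 (Dvd.dvd.mul_right hpn _) hqn
  · obtain ⟨s, hs, hsd⟩ := Nat.exists_prime_and_dvd h1
    obtain ⟨q, m, hq, hqS, hm, hsm, hqm⟩ := T.linkNG (mem_charDegrees.2 ⟨θ, hθ, hθ1⟩) hsd
    refine ⟨q, hq, hqS, mem_dp hq hm hqm, ?_⟩
    exact (reach hp hs hn hpn (hsd.trans hdn)).trans (reach hs hq hm hsm hqm)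

end Top0

end Cfsg.Agent.H658.Reg
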