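import Cfsg.Agent.H658.Reg.Graph
import Cfsg.Agent.H988.DG.Five
import Cfsg.Agent.H748.PalfyFinal
import Cfsg.Agent.H670.Palfy.Pent
import Cfsg.Agent.H377.DegSolv.Two
import Cfsg.Agent.H849.FactNum

/-!
# 2-regular degree graphs of solvable groups (helper658, S4920)

`solvable_ncard` : the graph has three or four vertices. (Pálfy's theorem, the pentagon, two triangles.)
-/

set_option autoImplicit false

namespace Cfsg.Agent.H658.Reg

open Cfsg Cfsg.Agent.H988.DG

universe u

theorem na_of_not_adj {G : Type u} [Group G] {a b : ℕ} (ha : a.Prime) (hb : b.Prime) (hab : a ≠ b)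
    (h : ¬ (degreeGraph G).Adj a b) : H670.Palfy.NA a b G := by
  rintro e ⟨χ, rfl⟩ h1 h2
  exact h (adj_of_im ha hb hab ⟨χ, ((Nat.coprime_primes ha hb).2 hab).mul_dvd_of_dvd_of_dvd h1 h2⟩)

theorem rho_iff {G : Type u} [Group G] {p : ℕ} : (p.Prime ∧ H670.Palfy.Rho p G) ↔ p ∈ degreePrimes G := by
  rw [mem_dp_iff]
  constructor
  · rintro ⟨hp, e, ⟨χ, rfl⟩, h⟩
    exact ⟨hp, χ, h⟩
  · rintro ⟨hp, χ, h⟩
    exact ⟨hp, _, ⟨χ, rfl⟩, h⟩

/-- no pentagon -/
theorem no_pentagon {G : Type u} [Group G] [Finite G] (hG : Group.IsSolvable G) {p x b a y : ℕ}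
    (hp : p ∈ degreePrimes G) (hx : x ∈ degreePrimes G) (hb : b ∈ degreePrimes G) (ha : a ∈ degreePrimes G)
    (hy : y ∈ degreePrimes G) (hpx' : p ≠ x) (hpb : p ≠ b) (hpa : p ≠ a) (hpy' : p ≠ y) (hxb' : x ≠ b) (hxa : x ≠ a)
    (hxy : x ≠ y) (hba' : b ≠ a) (hby : b ≠ y) (hay' : a ≠ y)
    (h1 : ¬ (degreeGraph G).Adj p x) (h2 : ¬ (degreeGraph G).Adj x b) (h3 : ¬ (degreeGraph G).Adj b a)
    (h4 : ¬ (degreeGraph G).Adj a y) (h5 : ¬ (degreeGraph G).Adj y p) : False := by
  refine H670.Palfy.hPent G hG ![p, x, b, a, y] ?_ ?_ ?_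
  · intro i j hij
    fin_cases i <;> fin_cases j <;> simp at hij <;> first | rfl | (exfalso; tauto) | (exfalso; omega)
  · intro i
    fin_cases i
    · exact hp
    · exact hx
    · exact hb
    · exact ha
    · exact hy
  · intro i
    fin_cases i
    · exact h1
    · exact h2
    · exact h3
    · exact h4
    · exact h5

/-- no two triangles -/
theorem no_two_triangles {G : Type u} [Group G] [Finite G] (hG : Group.IsSolvable G) {p a b x y z : ℕ}
    (hpa : p ≠ a) (hpb : p ≠ b) (hab : a ≠ b) (hxy : x ≠ y) (hxz : x ≠ z) (hyz : y ≠ z)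
    (hall : ∀ t : ℕ, t ∈ degreePrimes G ↔ (t = p ∨ t = a ∨ t = b) ∨ (t = x ∨ t = y ∨ t = z))
    (hdis : ∀ t, (t = p ∨ t = a ∨ t = b) → (t = x ∨ t = y ∨ t = z) → False)
    (hna : ∀ s t, (s = p ∨ s = a ∨ s = b) → (t = x ∨ t = y ∨ t = z) → ¬ (degreeGraph G).Adj s t) : False := by
  have hmA : ∀ t : ℕ, t ∈ ({p, a, b} : Finset ℕ) ↔ (t = p ∨ t = a ∨ t = b) := by
    intro t
    simp
  have hmB : ∀ t : ℕ, t ∈ ({x, y, z} : Finset ℕ) ↔ (t = x ∨ t = y ∨ t = z) := by
    intro t
    simp
  have hcA : ({p, a, b} : Finset ℕ).card = 3 := Finset.card_eq_three.2 ⟨p, a, b, hpa, hpb, hab, rfl⟩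
  have hcB : ({x, y, z} : Finset ℕ).card = 3 := Finset.card_eq_three.2 ⟨x, y, z, hxy, hxz, hyz, rfl⟩
  refine H377.DegSolv.noTwo H670.Palfy.factSL H849.FactNum.factNum H415.Palfy.factT1 H415.Palfy.factT2pre
    H55.T2a.factT2a H161.PalFb.factT2b G hG {p, a, b} {x, y, z} (by rw [hcA, hcB]) (by rw [hcA]; norm_num) ?_ ?_ ?_
  · rw [Finset.disjoint_left]
    intro t ht1 ht2
    exact hdis t ((hmA t).1 ht1) ((hmB t).1 ht2)
  · intro t
    rw [rho_iff, hall, Finset.mem_union, hmA, hmB]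
  · intro s hs t ht
    have hs' := (hmA s).1 hs
    have ht' := (hmB t).1 ht
    have h1 : s ∈ degreePrimes G := (hall s).2 (Or.inl hs')
    have h2 : t ∈ degreePrimes G := (hall t).2 (Or.inr ht')
    exact na_of_not_adj h1.1 h2.1 (fun h => hdis s hs' (h ▸ ht')) (hna s t hs' ht')

/-- **2-regular degree graphs of solvable groups.** -/
theorem solvable_ncard {G : Type u} [Group G] [Finite G] (hG : Group.IsSolvable G) (h : Reg2 G)
    (hne : (degreePrimes G).Nonempty) : Set.ncard (degreePrimes G) = 3 ∨ Set.ncard (degreePrimes G) = 4 := by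
  classical
  obtain ⟨P, hP⟩ := exists_finset G
  have hmem : ∀ t : ℕ, t ∈ P ↔ t ∈ degreePrimes G := by
    intro t
    rw [← hP]
    rfl
  have hcard : Set.ncard (degreePrimes G) = P.card := by
    rw [← hP, Set.ncard_coe_finset]
  rw [hcard]
  obtain ⟨p, hp⟩ := hne
  obtain ⟨a, b, hab, hpa, hpb, hpc⟩ := h.two hp
  have ha : a ∈ degreePrimes G := mem_of_adj hpa.symm
  have hb : b ∈ degreePrimes G := mem_of_adj hpb.symm
  have hpa' : p ≠ a := hpa.ne
  have hpb' : p ≠ b := hpb.ne
  have hT : ({p, a, b} : Finset ℕ).card = 3 := Finset.card_eq_three.2 ⟨p, a, b, hpa', hpb', hab, rfl⟩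
  have hTP : ({p, a, b} : Finset ℕ) ⊆ P := by
    intro t ht
    have ht' : t = p ∨ t = a ∨ t = b := by simpa using ht
    rw [hmem]
    rcases ht' with rfl | rfl | rfl
    · exact hp
    · exact ha
    · exact hb
  obtain ⟨W, hW⟩ : ∃ W, W = P \ {p, a, b} := ⟨_, rfl⟩
  have hWc : P.card = 3 + W.card := by
    have h1 := Finset.card_sdiff_add_card_eq_card hTP
    rw [← hW, hT] at h1
    omega
  have hWm : ∀ t : ℕ, t ∈ W ↔ t ∈ degreePrimes G ∧ t ≠ p ∧ t ≠ a ∧ t ≠ b := by
    intro t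
    rw [hW, Finset.mem_sdiff, hmem]
    simp
  have hall : ∀ t : ℕ, t ∈ degreePrimes G ↔ (t = p ∨ t = a ∨ t = b) ∨ t ∈ W := by
    intro t
    rw [hWm]
    constructor
    · intro ht
      by_cases h1 : t = p
      · exact Or.inl (Or.inl h1)
      by_cases h2 : t = a
      · exact Or.inl (Or.inr (Or.inl h2))
      by_cases h3 : t = b
      · exact Or.inl (Or.inr (Or.inr h3))
      exact Or.inr ⟨ht, h1, h2, h3⟩
    · rintro ((rfl | rfl | rfl) | h1)
      · exact hp
      · exact ha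
      · exact hb
      · exact h1.1
  -- the vertices not adjacent to `p` are pairwise adjacent
  have hnp : ∀ x ∈ W, ¬ (degreeGraph G).Adj p x := by
    intro x hx hadj
    obtain ⟨-, -, h2, h3⟩ := (hWm x).1 hx
    rcases hpc x hadj with h4 | h4
    · exact h2 h4
    · exact h3 h4
  have hclq : ∀ x ∈ W, ∀ y ∈ W, x ≠ y → (degreeGraph G).Adj x y := by
    intro x hx y hy hxy
    obtain ⟨hx1, hx2, -, -⟩ := (hWm x).1 hx
    obtain ⟨hy1, hy2, -, -⟩ := (hWm y).1 hy
    rcases H748.Palfy.palfy hG hp hx1 hy1 (Ne.symm hx2) hxy (Ne.symm hy2) with h4 | h4 | h4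
    · exact absurd h4 (hnp x hx)
    · exact h4
    · exact absurd h4 (hnp y hy)
  have hW3 : W.card ≤ 3 := by
    by_contra hcon
    push Not at hcon
    obtain ⟨x, hx⟩ : W.Nonempty := Finset.card_pos.1 (by omega)
    have h1 := h x ((hall x).2 (Or.inr hx))
    have h2 : ((W.erase x : Finset ℕ) : Set ℕ) ⊆ {q : ℕ | (degreeGraph G).Adj x q} := by
      intro y hy
      rw [Finset.mem_coe, Finset.mem_erase] at hy
      exact hclq x hx y hy.2 (Ne.symm hy.1)
    have h3 := Set.ncard_le_ncard h2 (Set.finite_of_ncard_ne_zero (by rw [h1]; norm_num))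
    rw [Set.ncard_coe_finset, Finset.card_erase_of_mem hx, h1] at h3
    omega
  have h4 : W.card = 0 ∨ W.card = 1 ∨ W.card = 2 ∨ W.card = 3 := by omega
  rcases h4 with h4 | h4 | h4 | h4
  · left; omega
  · right; omega
  · exfalso
    obtain ⟨x, y, hxy, hWxy⟩ := Finset.card_eq_two.1 h4
    have hxW : x ∈ W := by rw [hWxy]; simp
    have hyW : y ∈ W := by rw [hWxy]; simp
    have hWt : ∀ t, t ∈ W → t = x ∨ t = y := by
      intro t ht
      rw [hWxy] at ht
      simpa using ht
    obtain ⟨hx0, hxp, hxa, hxb⟩ := (hWm x).1 hxW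
    obtain ⟨hy0, hyp, hya, hyb⟩ := (hWm y).1 hyW
    have hxy' := hclq x hxW y hyW hxy
    -- the other neighbours
    have hoth : ∀ x ∈ W, ∀ y ∈ W, x ≠ y → (degreeGraph G).Adj x a ∨ (degreeGraph G).Adj x b := by
      intro x hx y hy hxy
      obtain ⟨c, hcy, hc⟩ := h.other (hclq x hx y hy hxy)
      rcases (hall c).1 (mem_of_adj hc.symm) with (rfl | rfl | rfl) | h5
      · exact absurd hc.symm (hnp x hx)
      · exact Or.inl hc
      · exact Or.inr hc
      · exfalso
        have e1 := hWt x hx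
        have e2 := hWt y hy
        have e3 := hWt c h5
        have e4 := hc.ne
        clear * - e1 e2 e3 e4 hxy hcy
        omega
    -- the pentagon
    have main : ∀ x y, x ∈ W → y ∈ W → x ≠ y → (∀ t, t ∈ W → t = x ∨ t = y) → (degreeGraph G).Adj x a → False := by
      intro x y hxW hyW hxy hWt hxa'
      obtain ⟨hx0, hxp, hxa, hxb⟩ := (hWm x).1 hxW
      obtain ⟨hy0, hyp, hya, hyb⟩ := (hWm y).1 hyW
      have hxy' := hclq x hxW y hyW hxy
      -- neighbours of `x`: `y, a`; of `a`: `p, x`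
      have hxn : ∀ c, (degreeGraph G).Adj x c → c = y ∨ c = a := fun c hc => h.cases hxy' hxa' hya hc
      have han : ∀ c, (degreeGraph G).Adj a c → c = p ∨ c = x := fun c hc => h.cases hpa.symm hxa'.symm hxp.symm hc
      have hay : ¬ (degreeGraph G).Adj a y := by
        intro hc
        rcases han y hc with h5 | h5
        · exact hyp h5
        · exact hxy h5.symm
      have hxb'' : ¬ (degreeGraph G).Adj x b := by
        intro hc
        rcases hxn b hc with h5 | h5
        · exact hyb h5.symm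
        · exact hab h5.symm
      have hba : ¬ (degreeGraph G).Adj b a := by
        intro hc
        rcases han b hc.symm with h5 | h5
        · exact hpb' h5.symm
        · exact hxb h5.symm
      exact no_pentagon hG hp hx0 hb ha hy0 hxp.symm hpb' hpa' hyp.symm hxb hxa hxy hab.symm (Ne.symm hyb)
        (Ne.symm hya) (hnp x hxW) hxb'' hba hay (fun hc => hnp y hyW hc.symm)
    have main' : ∀ x y, x ∈ W → y ∈ W → x ≠ y → (∀ t, t ∈ W → t = x ∨ t = y) → (degreeGraph G).Adj x b → False := by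
      intro x y hxW hyW hxy hWt hxb'
      obtain ⟨hx0, hxp, hxa, hxb⟩ := (hWm x).1 hxW
      obtain ⟨hy0, hyp, hya, hyb⟩ := (hWm y).1 hyW
      have hxy' := hclq x hxW y hyW hxy
      have hxn : ∀ c, (degreeGraph G).Adj x c → c = y ∨ c = b := fun c hc => h.cases hxy' hxb' hyb hc
      have hbn : ∀ c, (degreeGraph G).Adj b c → c = p ∨ c = x := fun c hc => h.cases hpb.symm hxb'.symm hxp.symm hc
      have hby : ¬ (degreeGraph G).Adj b y := by
        intro hc
        rcases hbn y hc with h5 | h5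
        · exact hyp h5
        · exact hxy h5.symm
      have hxa'' : ¬ (degreeGraph G).Adj x a := by
        intro hc
        rcases hxn a hc with h5 | h5
        · exact hya h5.symm
        · exact hab h5
      have hba : ¬ (degreeGraph G).Adj a b := by
        intro hc
        rcases hbn a hc.symm with h5 | h5
        · exact hpa' h5.symm
        · exact hxa h5.symm
      exact no_pentagon hG hp hx0 ha hb hy0 hxp.symm hpa' hpb' hyp.symm hxa hxb hxy hab (Ne.symm hya)
        (Ne.symm hyb) (hnp x hxW) hxa'' hba hby (fun hc => hnp y hyW hc.symm)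
    rcases hoth x hxW y hyW hxy with h5 | h5
    · exact main x y hxW hyW hxy hWt h5
    · exact main' x y hxW hyW hxy hWt h5
  · exfalso
    obtain ⟨x, y, z, hxy, hxz, hyz, hWxyz⟩ := Finset.card_eq_three.1 h4
    have hxW : x ∈ W := by rw [hWxyz]; simp
    have hyW : y ∈ W := by rw [hWxyz]; simp
    have hzW : z ∈ W := by rw [hWxyz]; simp
    have hWt : ∀ t, t ∈ W ↔ t = x ∨ t = y ∨ t = z := by
      intro t
      rw [hWxyz]
      simp
    have hcl : ∀ {s t : ℕ}, (s = x ∨ s = y ∨ s = z) → (degreeGraph G).Adj s t → (t = x ∨ t = y ∨ t = z) :=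
      fun hs hst => h.tri_closed (hclq x hxW y hyW hxy) (hclq y hyW z hzW hyz) (hclq x hxW z hzW hxz) hs hst
    refine no_two_triangles hG hpa' hpb' hab hxy hxz hyz (fun t => by rw [hall, hWt]) ?_ ?_
    · intro t ht1 ht2
      obtain ⟨-, h5, h6, h7⟩ := (hWm t).1 ((hWt t).2 ht2)
      rcases ht1 with h8 | h8 | h8
      · exact h5 h8
      · exact h6 h8
      · exact h7 h8
    · intro s t hs ht hadj
      have h5 := hcl ht hadj.symm
      obtain ⟨-, h6, h7, h8⟩ := (hWm s).1 ((hWt s).2 h5)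
      rcases hs with h9 | h9 | h9
      · exact h6 h9
      · exact h7 h9
      · exact h8 h9

end Cfsg.Agent.H658.Reg
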