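import Cfsg.Agent.H658.Reg.OddEnd
import Cfsg.Agent.H658.Reg.Solv
import Cfsg.Agent.H191.TorFix

/-!
# 2-regular degree graphs (helper658, S4920)

`two_regular_of` : S4920 from the facts on simple groups.
-/

set_option autoImplicit false

namespace Cfsg.Agent.H658.Reg

open Cfsg Cfsg.Agent.H671.H5

universe u

theorem torFix : TorFix.{u} := by
  intro X _ _ W _ hW F _ _ p _ _ h4 π hπ hker hpW hWz D
  exact H191.TorFix.exists_torus_fixed W hW p h4 π hπ hker hpW hWz D

/-- **2-regular degree graphs.** -/
theorem two_regular_of (hD : FactDeg.{0}) (hT : FactTri.{0}) (hE : FactExt.{0})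
    {G : Type u} [Group G] [Finite G] (hne : (degreePrimes G).Nonempty) (h : Reg2 G) :
    (Set.ncard (degreePrimes G) = 3 ∨ Set.ncard (degreePrimes G) = 4) ∧
      (Set.ncard (degreePrimes G) = 4 → Group.IsSolvable G) := by
  have hs : Set.ncard (degreePrimes G) ≠ 3 → Group.IsSolvable G := solvable_of_ne_three torFix hD hT hE h
  constructor
  · by_cases h3 : Set.ncard (degreePrimes G) = 3
    · exact Or.inl h3
    · exact solvable_ncard (hs h3) h hne
  · intro h4
    exact hs (by rw [h4]; norm_num)

end Cfsg.Agent.H658.Reg
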