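import Cfsg.Agent.H658.Reg.SubB
import Cfsg.Agent.H658.Reg.LemL
import Cfsg.Agent.H33.IM
import Cfsg.Agent.H664.R1.PSLTwo
import Cfsg.Agent.S0253

/-!
# Clifford theory over `PSL(2,q)`, `q` odd (helper658, S4920)

`odd_false` : `l` linear character of a normal subgroup `M` of `X` with inertia group `I`, `π : X → PSL(2,q)`, `I ∩ ker π = M`,
`π(I)` proper, and `p ∤ |X : I|` or `π(I)` contains the torus: then `2 p` or `r s` divides a degree of `X`.
-/

set_option autoImplicit false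
set_option linter.unusedSectionVars false

namespace Cfsg.Agent.H658.Reg

open Cfsg Matrix
open Cfsg.Agent.Characters.Core
open Cfsg.Agent.H672 (inertia lf isIrr_lf charDegree_lf)
open Cfsg.Agent.H595.Central (homIrr)
open Cfsg.Agent.H525.L2

universe u v

theorem T_eq_one_iff {S : Type u} [Group S] {F : Type} [Field F] (D : H525.L2.Fr S F) (b : Fˣ) :
    D.T b = 1 ↔ b ^ 2 = 1 := by
  refine ⟨fun h => ?_, T_eq_one D⟩
  apply Units.ext
  rw [Units.val_pow_eq_pow_val, Units.val_one]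
  rcases (D.ker _).1 (show D.f (H670.SL2.tor b) = 1 from h) with h1 | h1
  · have h2 := congrArg H670.SL2.e00 h1
    have h3 : H670.SL2.e00 (1 : SpecialLinearGroup (Fin 2) F) = 1 := by
      show ((1 : SpecialLinearGroup (Fin 2) F) : Matrix (Fin 2) (Fin 2) F) 0 0 = 1
      simp
    rw [H670.SL2.tor00, h3] at h2
    rw [h2, one_pow]
  · have h2 := congrArg H670.SL2.e00 h1
    have h3 : H670.SL2.e00 (-1 : SpecialLinearGroup (Fin 2) F) = -1 := by
      show ((-1 : SpecialLinearGroup (Fin 2) F) : Matrix (Fin 2) (Fin 2) F) 0 0 = -1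
      simp
    rw [H670.SL2.tor00, h3] at h2
    rw [h2]
    ring

/-- An element of order `(q - 1) / 2` of the torus. -/
theorem exists_T_order {S : Type u} [Group S] {F : Type} [Field F] [Fintype F] (D : H525.L2.Fr S F)
    (hodd : Odd (Fintype.card F)) : ∃ a : Fˣ, orderOf (D.T a) = (Fintype.card F - 1) / 2 := by
  classical
  obtain ⟨a, ha⟩ := IsCyclic.exists_generator (α := Fˣ)
  have ho : orderOf a = Fintype.card F - 1 := by
    rw [orderOf_eq_card_of_forall_mem_zpowers ha, Nat.card_eq_fintype_card, Fintype.card_units]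
  obtain ⟨m, hm⟩ := hodd
  have hm' : (Fintype.card F - 1) / 2 = m := by omega
  have hm2 : Fintype.card F - 1 = 2 * m := by omega
  have key : ∀ k : ℕ, D.T a ^ k = 1 ↔ m ∣ k := by
    intro k
    rw [D.T_pow, T_eq_one_iff, ← pow_mul, ← orderOf_dvd_iff_pow_eq_one, ho, hm2, mul_comm k 2]
    exact Nat.mul_dvd_mul_iff_left (by norm_num)
  refine ⟨a, ?_⟩
  rw [hm']
  apply Nat.dvd_antisymm
  · exact orderOf_dvd_of_pow_eq_one ((key m).2 dvd_rfl)
  · exact (key _).1 (pow_orderOf_eq_one _)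

/-- no common prime -/
theorem coprime_of {a b : ℕ} (h : ∀ t : ℕ, t.Prime → t ∣ a → ¬ t ∣ b) : a.Coprime b := by
  by_contra hc
  obtain ⟨t, ht, h1, h2⟩ := Nat.Prime.not_coprime_iff_dvd.1 hc
  exact h t ht h1 h2

/-- **The reduction, to the image in a quotient.** -/
theorem exists_red_map {X : Type u} [Group X] [Finite X] {S : Type v} [Group S] (π : X →* S) (M : Subgroup X) [M.Normal]
    (l : M →* ℂˣ) (hint : inertia M (lf l) ⊓ π.ker = M) :
    ∃ (Q : Type u) (_ : Group Q) (_ : Finite Q) (ρ : Q →* (inertia M (lf l)).map π) (m : ρ.ker →* ℂˣ),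
      Function.Surjective ρ ∧ ρ.ker ≤ Subgroup.center Q ∧ Function.Injective m ∧
      ∀ β : IrrCharacter Q, H525.L2.Over ρ m (β : Q → ℂ) → ∃ χ : IrrCharacter X,
        charDegree (χ : X → ℂ) = (inertia M (lf l)).index * charDegree (β : Q → ℂ) := by
  obtain ⟨Q, iQ, iQ', πQ, m, hs, hc, hm, H⟩ := exists_red_ind M (lf l) (isIrr_lf l) _ rfl
  let I := inertia M (lf l)
  let f : I →* I.map π := π.subgroupMap I
  have hf : Function.Surjective f := MonoidHom.subgroupMap_surjective _ _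
  have hker : M.subgroupOf I = f.ker := by
    ext x
    rw [Subgroup.mem_subgroupOf, MonoidHom.mem_ker]
    constructor
    · intro h
      rw [← hint] at h
      exact Subtype.ext (MonoidHom.mem_ker.1 h.2)
    · intro h
      have h1 : π x = 1 := congrArg Subtype.val h
      have h2 : (x : X) ∈ I ⊓ π.ker := ⟨x.2, h1⟩
      rwa [hint] at h2
  let e : I ⧸ M.subgroupOf I ≃* I.map π :=
    (QuotientGroup.quotientMulEquivOfEq hker).trans (QuotientGroup.quotientKerEquivOfSurjective f hf)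
  let ρ : Q →* I.map π := e.toMonoidHom.comp πQ
  have hρ : ∀ z, z ∈ ρ.ker ↔ z ∈ πQ.ker := by
    intro z
    rw [MonoidHom.mem_ker, MonoidHom.mem_ker]
    show e (πQ z) = 1 ↔ _
    exact map_eq_one_iff _ e.injective
  let i : ρ.ker →* πQ.ker := (ρ.ker.subtype).codRestrict πQ.ker (fun z => (hρ z).1 z.2)
  refine ⟨Q, iQ, iQ', ρ, m.comp i, e.surjective.comp hs, fun z hz => hc ((hρ z).1 hz), ?_, ?_⟩
  · refine hm.comp ?_
    intro a b h
    have h1 : (a : Q) = b := congrArg (fun z : πQ.ker => (z : Q)) h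
    exact Subtype.ext h1
  · intro β hβ
    obtain ⟨χ, hχ⟩ := H β (by
      intro a z
      exact hβ a ⟨z, (hρ z).2 z.2⟩)
    refine ⟨χ, ?_⟩
    rw [hχ, charDegree_lf, mul_one]

/-- all degrees over `m` odd: not `A₅` -/
theorem not_alt5 {Q : Type u} [Group Q] [Finite Q] {Y : Type v} [Group Y] [Finite Y] {ρ : Q →* Y} (m : ρ.ker →* ℂˣ)
    (hs : Function.Surjective ρ) (hc : ρ.ker ≤ Subgroup.center Q) (e : Y ≃* alternatingGroup (Fin 5))
    (hodd : ∀ β : IrrCharacter Q, H525.L2.Over ρ m (β : Q → ℂ) → ¬ 2 ∣ charDegree (β : Q → ℂ)) : False := by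
  classical
  have := finite_irr (G := Q)
  have := Fintype.ofFinite (IrrCharacter Q)
  have hY : Nat.card Y = 60 := by
    rw [Nat.card_congr e.toEquiv, Nat.card_eq_fintype_card]
    decide +kernel
  have hsum := sum_sq m hs hc
  rw [hY] at hsum
  have hval : ∀ β ∈ Ov m, charDegree (β : Q → ℂ) = 1 ∨ charDegree (β : Q → ℂ) = 3 ∨ charDegree (β : Q → ℂ) = 5 := by
    intro β hβ
    have h1 := (mem_Ov m).1 hβ
    have h2 := deg_sq_le m hs hc β h1
    have h3 := hodd β h1
    have h4 : charDegree (β : Q → ℂ) ∣ 60 := by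
      have h5 := H678.Codeg.charDegree_dvd_index_center β
      rw [← hY, ← index_eq hs]
      exact h5.trans (Subgroup.index_dvd_of_le hc)
    rw [hY] at h2
    have h5 : charDegree (β : Q → ℂ) ≤ 7 := by nlinarith
    interval_cases h : charDegree (β : Q → ℂ) <;> first | omega | simp
  by_cases hlin : ∃ β ∈ Ov m, charDegree (β : Q → ℂ) = 1
  · obtain ⟨β, hβ, h1⟩ := hlin
    have hβ' := (mem_Ov m).1 hβ
    obtain ⟨lam, hlam⟩ := exists_linear hc β.2 hβ' (deg_spec β.2).1 β.2 hβ' (deg_spec β.2).1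
      (by rw [h1]; exact Nat.coprime_one_left 1)
    have hIM : H33.IM 2 Y := by
      have h2 : Fact (Nat.Prime 5) := ⟨by norm_num⟩
      obtain ⟨e5⟩ := S0253.result (F := ZMod 5) (ZMod.card 5)
      refine (H33.IM.congr (e.trans e5.symm)).2 ?_
      refine H664.R1.PSLTwo.im_psl (by rw [ZMod.card]; norm_num) Nat.prime_two ?_
      rw [← Nat.card_congr (e.trans e5.symm).toEquiv, hY]
      norm_num
    obtain ⟨η, hη⟩ := hIM
    have hirr := Cfsg.Agent.CharactersDeep.ExtUnique.isIrr_mul_hom (isIrr_comp ρ hs η.2) lam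
    have ho : H525.L2.Over ρ m (fun g => ((η : Y → ℂ) ∘ ρ) g * lam g) := by
      intro g z
      have h1 : ρ (g * z) = ρ g := by rw [map_mul, (MonoidHom.mem_ker.1 z.2), mul_one]
      show (η : Y → ℂ) (ρ (g * z)) * lam (g * z) = (η : Y → ℂ) (ρ g) * lam g * m z
      rw [h1, map_mul, hlam, Units.val_mul, mul_assoc]
    apply hodd ⟨_, hirr⟩ ho
    have hdeg : charDegree (fun g => ((η : Y → ℂ) ∘ ρ) g * (lam g : ℂ)) = charDegree (η : Y → ℂ) := by
      have h1 : (fun g => ((η : Y → ℂ) ∘ ρ) g * (lam g : ℂ)) 1 = (η : Y → ℂ) 1 := by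
        show (η : Y → ℂ) (ρ 1) * (lam 1 : ℂ) = _
        rw [map_one, map_one, Units.val_one, mul_one]
      unfold charDegree
      rw [h1]
    show 2 ∣ charDegree (fun g => ((η : Y → ℂ) ∘ ρ) g * (lam g : ℂ))
    rw [hdeg]
    exact hη
  · push Not at hlin
    have h9 : ∑ β ∈ Ov m, charDegree (β : Q → ℂ) ^ 2 =
        9 * ((Ov m).filter (fun β : IrrCharacter Q => charDegree (β : Q → ℂ) = 3)).card +
        25 * ((Ov m).filter (fun β : IrrCharacter Q => ¬ charDegree (β : Q → ℂ) = 3)).card := by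
      rw [← Finset.sum_filter_add_sum_filter_not (Ov m) (fun β : IrrCharacter Q => charDegree (β : Q → ℂ) = 3)]
      congr 1
      · rw [Finset.sum_congr rfl (g := fun _ => 9), Finset.sum_const, smul_eq_mul, mul_comm]
        intro β hβ
        rw [(Finset.mem_filter.1 hβ).2]
        norm_num
      · rw [Finset.sum_congr rfl (g := fun _ => 25), Finset.sum_const, smul_eq_mul, mul_comm]
        intro β hβ
        have h1 := Finset.mem_filter.1 hβ
        rcases hval β h1.1 with h2 | h2 | h2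
        · exact absurd h2 (hlin β h1.1)
        · exact absurd h2 h1.2
        · rw [h2]
          norm_num
    rw [hsum] at h9
    omega

/-- **Clifford theory over `PSL(2,q)`, `q` odd.** -/
theorem odd_false {X : Type u} [Group X] [Finite X] {F : Type} [Field F] [Fintype F] (p : ℕ) [hp : Fact p.Prime]
    [CharP F p] {r s : ℕ} (hodd : Odd (Fintype.card F)) (hr : r.Prime) (hs : s.Prime) (hr2 : r ≠ 2) (hs2 : s ≠ 2)
    (hrd : r ∣ Fintype.card F - 1) (hsd : s ∣ Fintype.card F + 1)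
    (hall : ∀ t : ℕ, t.Prime → t ∣ Fintype.card F - 1 → t = 2 ∨ t = r)
    (D : H525.L2.Fr (ProjectiveSpecialLinearGroup (Fin 2) F) F)
    (π : X →* ProjectiveSpecialLinearGroup (Fin 2) F) (M : Subgroup X) [M.Normal]
    (l : M →* ℂˣ) (hπ : Function.Surjective π) (hint : inertia M (lf l) ⊓ π.ker = M)
    (hJ : (inertia M (lf l)).map π ≠ ⊤) (hno1 : ¬ H33.IM (2 * p) X) (hno2 : ¬ H33.IM (r * s) X)
    (hcase : ¬ p ∣ (inertia M (lf l)).index ∨ ∀ a : Fˣ, D.T a ∈ (inertia M (lf l)).map π) : False := by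
  classical
  obtain ⟨n, -, hqn⟩ := FiniteField.card F p
  have hn0 : (n : ℕ) ≠ 0 := n.ne_zero
  have hpq : p ∣ Fintype.card F := by rw [hqn]; exact dvd_pow_self p hn0
  have hp2 : p ≠ 2 := by
    rintro rfl
    exact (Nat.not_even_iff_odd.2 hodd) (even_iff_two_dvd.2 hpq)
  have hF1 : 1 < Fintype.card F := Fintype.one_lt_card
  have hrs : r ≠ s := by
    rintro rfl
    have h3 : Fintype.card F + 1 = (Fintype.card F - 1) + 2 := by omega
    rw [h3] at hsd
    exact hr2 ((Nat.prime_dvd_prime_iff_eq hr Nat.prime_two).1 ((Nat.dvd_add_right hrd).1 hsd))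
  have hrp : r ≠ p := by
    rintro rfl
    have h1 := (Nat.dvd_sub_iff_right (by omega) hpq).1 hrd
    exact hr.one_lt.ne' (Nat.dvd_one.1 h1)
  set I := inertia M (lf l) with hI
  obtain ⟨Q, iQ, iQ', ρ, m, hρs, hρc, hm, H⟩ := exists_red_map π M l hint
  have hdvd : (I.map π).index ∣ I.index := Subgroup.index_map_dvd I hπ
  have him : ∀ β : IrrCharacter Q, H525.L2.Over ρ m (β : Q → ℂ) → H33.IM (I.index * charDegree (β : Q → ℂ)) X := by
    intro β hβ
    obtain ⟨χ, hχ⟩ := H β hβ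
    exact ⟨χ, by rw [hχ]⟩
  have hno1' : ∀ k : ℕ, H33.IM k X → 2 ∣ k → ¬ p ∣ k := by
    rintro k ⟨χ, hχ⟩ h2 h3
    exact hno1 ⟨χ, (Nat.Coprime.mul_dvd_of_dvd_of_dvd ((Nat.coprime_primes Nat.prime_two hp.out).2 hp2.symm) h2 h3).trans hχ⟩
  have hno2' : ∀ k : ℕ, H33.IM k X → s ∣ k → ¬ r ∣ k := by
    rintro k ⟨χ, hχ⟩ h2 h3
    exact hno2 ⟨χ, (Nat.Coprime.mul_dvd_of_dvd_of_dvd ((Nat.coprime_primes hr hs).2 hrs) h3 h2).trans hχ⟩
  by_cases hpI : p ∣ I.index
  · -- the torus
    have hT := hcase.resolve_left (not_not.2 hpI)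
    have hodd2 : ∀ β : IrrCharacter Q, H525.L2.Over ρ m (β : Q → ℂ) → ¬ 2 ∣ I.index * charDegree (β : Q → ℂ) := by
      intro β hβ h2
      exact hno1' _ (him β hβ) h2 (hpI.mul_right _)
    obtain ⟨β0, hβ0⟩ := H525.L2.exists_over m hρs hρc
    have hJodd : Odd (I.map π).index := by
      rw [← Nat.not_even_iff_odd, even_iff_two_dvd]
      intro h2
      exact hodd2 β0 hβ0 ((h2.trans hdvd).mul_right _)
    obtain ⟨a, ha⟩ := exists_T_order D hodd
    rcases lemB p hodd hr hs hr2 hs2 hrd hsd (I.map π) hJ hJodd ⟨D.T a, hT a⟩ (by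
      rw [← ha, ← Subgroup.orderOf_coe]) with ⟨h1, h2, x, y, hxy⟩ | ⟨-, ⟨e⟩⟩
    · apply hxy
      refine abelian_of_coprime m hρs hρc (⊤ : Subgroup (I.map π)) (fun β hβ => coprime_of fun t ht htβ htJ => ?_) x
        trivial y trivial
      rw [Subgroup.card_top] at htJ
      rcases hall t ht (htJ.trans h2) with rfl | rfl
      · exact hodd2 β hβ (htβ.mul_left _)
      · exact hno2' _ (him β hβ) ((h1.trans hdvd).mul_right _) (htβ.mul_left _)
    · exact not_alt5 m hρs hρc e (fun β hβ h2 => hodd2 β hβ (h2.mul_left _))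
  · -- the unipotent group
    have hpJ : ¬ p ∣ (I.map π).index := fun h => hpI (h.trans hdvd)
    obtain ⟨h1, h2⟩ := lemA D hqn hJ hpJ
    have h2I : 2 ∣ I.index := by
      have h3 : 2 ∣ Fintype.card F + 1 := by
        obtain ⟨k, hk⟩ := hodd
        exact ⟨k + 1, by omega⟩
      exact (h3.trans h1).trans hdvd
    have hsI : s ∣ I.index := (hsd.trans h1).trans hdvd
    obtain ⟨β0, hβ0⟩ := H525.L2.exists_over m hρs hρc
    have hrI : ¬ r ∣ I.index := fun h => hno2' _ (him β0 hβ0) (hsI.mul_right _) (h.mul_right _)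
    have hrJ : r ∣ Nat.card (I.map π) := by
      have h3 := (I.map π).card_mul_index
      have h4 := (H525.L2.frame (MulEquiv.refl (ProjectiveSpecialLinearGroup (Fin 2) F))).card_odd hodd
      have h5 : r ∣ 2 * Nat.card (ProjectiveSpecialLinearGroup (Fin 2) F) := by
        rw [h4]
        exact (hrd.mul_left _).mul_left _
      have h6 := Nat.Coprime.dvd_of_dvd_mul_left ((Nat.coprime_primes hr Nat.prime_two).2 hr2) h5
      rw [← h3, hr.dvd_mul] at h6
      exact h6.resolve_right (fun h => hrI (h.trans hdvd))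
    obtain ⟨A, hA, hA1, x, hx, y, hy, hxy⟩ := h2 r hr hrp hrJ
    apply hxy
    refine abelian_of_coprime m hρs hρc A (fun β hβ => coprime_of fun t ht htβ htA => ?_) x hx y hy
    rcases hA1 t ht htA with rfl | rfl
    · exact hno1' _ (him β hβ) (h2I.mul_right _) (htβ.mul_left _)
    · exact hno2' _ (him β hβ) (hsI.mul_right _) (htβ.mul_left _)

end Cfsg.Agent.H658.Reg
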