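import Cfsg.Agent.H658.Reg.EvenEnd
import Cfsg.Agent.H658.Reg.CombOdd
import Cfsg.Agent.Lib.Zsigmondy

/-!
# 2-regular degree graphs of non-solvable groups: `|F|` is not odd (helper658, S4920)

* `out_odd` : odd outer primes for `|F|` odd;
* `not_odd` : `|F|` is not odd;
* `false_of_nonsolv` : a finite group with a 2-regular degree graph which has not three vertices is solvable.
-/

set_option autoImplicit false
set_option linter.unusedSectionVars false

namespace Cfsg.Agent.H658.Reg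

open Cfsg Subgroup Cfsg.Agent.H33 Cfsg.Agent.H988.DG Cfsg.Agent.Characters.Core Cfsg.Agent.H681.DegBasic
open Cfsg.Agent.H714.Tri
open Cfsg.Agent.H671.H5 (FactTri FactExt)

universe u

/-- Odd outer primes. -/
theorem out_odd {Γ : Type u} [Group Γ] [Finite Γ] (S : Subgroup Γ) [hS : S.Normal] {F : Type} [Field F] [Fintype F]
    (e : S ≃* Psl F) (hF : 4 ≤ Fintype.card F) (hC : Subgroup.centralizer (S : Set Γ) = ⊥)
    (hodd : Odd (Fintype.card F)) {t : ℕ} (ht : t.Prime) (ht2 : t ≠ 2) (hdvd : t ∣ S.index) :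
    (∃ q0 : ℕ, 2 ≤ q0 ∧ Fintype.card F = q0 ^ t) ∧ IM (2 * t) Γ := by
  classical
  obtain ⟨g, hgS, hgt⟩ := exists_outer S ht hdvd
  obtain ⟨σ, hσ, hσ2, hσ1⟩ := exists_fa (Al S e g)
  -- `σ ^ t = 1`
  have hσt : σ ^ t = 1 := by
    have h1 : ∀ n : ℕ, ∀ x, tsq ((Al S e g ^ n) x) = (σ ^ n) (tsq x) := by
      intro n
      induction n with
      | zero => intro x; rfl
      | succ k ih =>
        intro x
        rw [pow_succ, pow_succ]
        show tsq ((Al S e g ^ k) (Al S e g x)) = (σ ^ k) (σ (tsq x))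
        rw [ih, hσ]
    refine fa_eq_one (α := Al S e g ^ t) (h1 t) (g := e ⟨g ^ t, hgt⟩) ?_
    rw [← map_pow]
    exact al_mem S e ⟨g ^ t, hgt⟩
  have htodd : Odd t := ht.odd_of_ne_two ht2
  have hσn : σ ≠ 1 := by
    intro h1
    obtain ⟨y, hy⟩ := hσ2 h1
    apply hgS
    have hgg : g * g ∈ S := mem_of_inner S e hC (y := y) (by rw [map_mul]; exact hy)
    obtain ⟨k, hk⟩ := htodd
    have h2 : g ^ t = (g * g) ^ k * g := by rw [hk, pow_succ, pow_mul, pow_two]
    have h3 := S.mul_mem (S.inv_mem (S.pow_mem hgg k)) hgt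
    rwa [h2, inv_mul_cancel_left] at h3
  have hord : orderOf σ = t := by
    have h1 := orderOf_dvd_of_pow_eq_one hσt
    rcases (Nat.dvd_prime ht).1 h1 with h | h
    · exact absurd (orderOf_eq_one_iff.1 h) hσn
    · exact h
  have ht3 : 3 ≤ t := by
    have := ht.two_le
    omega
  have hcardt := StdL2.FGal.card_fixed σ
  rw [Nat.card_eq_fintype_card (α := F), hord] at hcardt
  refine ⟨⟨_, StdL2.FGal.one_lt_card_fixed σ, hcardt⟩, ?_⟩
  obtain ⟨χ, hχ1, hχ⟩ := exists_nonfixed_odd hodd hσ (by rw [hord]; exact ht3)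
  obtain ⟨d, hd, hdd⟩ := exists_degree S e hC ht hgt χ hχ
  have h2 := Nat.odd_iff.1 hodd
  refine im_of_mem hd (Dvd.dvd.trans ?_ hdd)
  rw [mul_comm 2 t]
  refine Nat.mul_dvd_mul_left t ?_
  rcases hχ1 with hχ1 | hχ1
  · rw [charDegree_eq_of (n := Fintype.card F + 1) (by rw [hχ1, Nat.cast_add, Nat.cast_one])]
    omega
  · rw [charDegree_eq_of (n := Fintype.card F - 1) (by rw [hχ1, Nat.cast_sub (by omega), Nat.cast_one])]
    omega

/-- `q = q₀ ^ r`: some prime divisor of `q - 1` is neither `2` nor `r`. -/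
theorem not_pow {q q0 r : ℕ} (hq0 : 2 ≤ q0) (hq : q = q0 ^ r) (hodd : Odd q) (hr : r.Prime) (hr2 : r ≠ 2)
    (hall : ∀ t : ℕ, t.Prime → t ∣ q - 1 → t = 2 ∨ t = r) : False := by
  have hr3 : 3 ≤ r := by
    have := hr.two_le
    omega
  obtain ⟨l, hl, h1, h2, -⟩ := Cfsg.Agent.Lib.Zsigmondy.exists_primitive (a := q0) (n := r) hq0 hr.two_le
    (fun h => absurd h hr2) (by
      rintro ⟨rfl, -⟩
      rw [hq] at hodd
      exact (Nat.not_even_iff_odd.2 hodd) ((Nat.even_pow).2 ⟨_root_.even_two, by omega⟩))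
  have h3 : l ∣ q - 1 := by
    rw [hq]
    exact (h1 r).2 dvd_rfl
  have h4 := Nat.le_of_dvd (by have := hl.two_le; omega) h2
  rcases hall l hl h3 with h5 | h5 <;> omega

section

variable {G : Type u} [Group G] [Finite G] (T : Fr G) (T0 : Top0 G)
  (hN : T0.N.map (QuotientGroup.mk' T.R) = T.K.map (QuotientGroup.mk' T.R))

include hN in
/-- **`|F|` is not odd.** -/
theorem not_odd (hTF : TorFix.{u}) (h : Reg2 G) (h3 : Set.ncard (degreePrimes G) ≠ 3) :
    ¬ Odd (Fintype.card T.F) := by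
  intro hodd
  obtain ⟨p, hch⟩ := CharP.exists T.F
  have hp : Fact p.Prime := ⟨CharP.char_is_prime T.F p⟩
  obtain ⟨r, s, hr, hs, hr2, hs2, hrd, hsd, hall, hpr, h2p, hrs⟩ := odd_case T h h3 hodd p
  obtain ⟨n, -, hqn⟩ := FiniteField.card T.F p
  have hF := T.hF
  have hsq : Fintype.card T.F ^ 2 - 1 = (Fintype.card T.F + 1) * (Fintype.card T.F - 1) := by
    have := Nat.sq_sub_sq (Fintype.card T.F) 1
    simpa using this
  have hpq : p ∣ Fintype.card T.F := by rw [hqn]; exact dvd_pow_self p n.ne_zero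
  have hp2 : p ≠ 2 := by
    rintro rfl
    exact (Nat.not_even_iff_odd.2 hodd) (even_iff_two_dvd.2 hpq)
  have hpsq : ¬ p ∣ Fintype.card T.F ^ 2 - 1 := by
    intro hd
    have h1 : p ∣ Fintype.card T.F ^ 2 := dvd_pow hpq two_ne_zero
    have h2 := (Nat.dvd_sub_iff_right (by nlinarith) h1).1 hd
    exact hp.out.one_lt.ne' (Nat.dvd_one.1 h2)
  have hps : p ≠ r := by
    rintro rfl
    exact hpsq (hsq ▸ Dvd.dvd.mul_left hrd _)
  have hrs' : r ≠ s := by
    rintro rfl
    have h1 : Fintype.card T.F + 1 = (Fintype.card T.F - 1) + 2 := by omega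
    rw [h1] at hsd
    exact hr2 ((Nat.prime_dvd_prime_iff_eq hr Nat.prime_two).1 ((Nat.dvd_add_right hrd).1 hsd))
  have hall' : ∀ t : ℕ, t.Prime → t ∣ Fintype.card T.F - 1 → t = 2 ∨ t = r := by
    intro t ht hd
    rcases hall t ht (hsq ▸ Dvd.dvd.mul_left hd _) with h1 | h1 | h1
    · exact Or.inl h1
    · exact Or.inr h1
    · exfalso
      rw [h1] at hd
      have h2 : Fintype.card T.F + 1 = (Fintype.card T.F - 1) + 2 := by omega
      rw [h2] at hsd
      exact hs2 ((Nat.prime_dvd_prime_iff_eq hs Nat.prime_two).1 ((Nat.dvd_add_right hd).1 hsd))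
  have hno1 : ¬ IM (2 * p) G := fun him => h2p (adj_of_im Nat.prime_two hp.out hp2.symm him)
  have hno2 : ¬ IM (r * s) G := fun him => hrs (adj_of_im hr hs hrs' him)
  have hc : Nat.card (pi T T0 hN).ker ≤ 2 :=
    odd_red hTF p hodd hr hs hr2 hs2 hrd hsd hall' (N_perfect T0) (pi T T0 hN) (pi_surj T T0 hN) (pi_solv T T0 hN)
      (fun him => hno1 (him.of_normal T0.N)) (fun him => hno2 (him.of_normal T0.N))
  have hcomm := comm_of_card T T0 hN hc
  have hZc : Nat.card (T0.N ⊓ T.R : Subgroup G) ≤ 2 := by rwa [card_inf T T0 hN]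
  -- the outer primes
  have hpK : ¬ p ∣ T.K.index := by
    intro hd
    rw [index_Kb T] at hd
    exact hno1 ((out_odd T.Kb T.e T.hF T.cen hodd hp.out hp2 hd).2.of_quotient T.R)
  have hrK : ¬ r ∣ T.K.index := by
    intro hd
    rw [index_Kb T] at hd
    obtain ⟨⟨q0, hq0, hq⟩, -⟩ := out_odd T.Kb T.e T.hF T.cen hodd hr hr2 hd
    exact not_pow hq0 hq hodd hr hr2 hall'
  obtain ⟨-, -, -, him⟩ := adj_iff.1 hpr
  have h5 : IM (p * r) T.K := im_down T.K hp.out hr hpK hrK him
  let j : (pi T T0 hN).ker →* T.R :=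
    { toFun := fun x => ⟨((x : T0.N) : G), (mem_pi T T0 hN).1 x.2⟩
      map_one' := rfl
      map_mul' := fun _ _ => rfl }
  have h5q : 5 < Fintype.card T.F := by
    have h6 : 3 ≤ r := by
      have := hr.two_le
      omega
    have h7 : 2 ∣ Fintype.card T.F - 1 := by
      have := Nat.odd_iff.1 hodd
      omega
    have h8 : 2 * r ∣ Fintype.card T.F - 1 :=
      Nat.Coprime.mul_dvd_of_dvd_of_dvd ((Nat.coprime_primes Nat.prime_two hr).2 hr2.symm) h7 hrd
    have := Nat.le_of_dvd (by omega) h8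
    omega
  have hadjL := (S4774.result T.F p hp2 _ rfl h5q (S := T.L) (Or.inl ⟨MulEquiv.refl _⟩)).2
  have hZcen : ∀ z : (pi T T0 hN).ker, ∀ g : G, g * ((z : T0.N) : G) = ((z : T0.N) : G) * g := by
    intro z g
    exact central_of_card_two hZc ⟨z.1.2, (mem_pi T T0 hN).1 z.2⟩ g
  refine prod_end (N_perfect T0) (mulHom T T0 hN hcomm) (mulHom_surj T T0 hN hcomm) (pi T T0 hN) (pi_surj T T0 hN) j
    ?_ ?_ ?_ ?_ (p := p) (r := r) (s := s) hp.out hr hp2 ?_ ?_ ?_ h5 (fun him => hno1 (T.im_of_K him))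
    (fun him => hno2 (T.im_of_K him))
  · intro x y hxy
    have h1 : (x : G) * (y : G) = 1 := congrArg Subtype.val hxy
    have h2 : (y : G) = (x : G)⁻¹ := (inv_eq_of_mul_eq_one_right h1).symm
    have h3 : (x : G) ∈ T.R := by
      rw [eq_inv_of_mul_eq_one_left h1]
      exact inv_mem y.2
    refine ⟨⟨x, (mem_pi T T0 hN).2 h3⟩, rfl, Subtype.ext ?_⟩
    rw [h2]
    rfl
  · intro z
    apply Subtype.ext
    show ((z : T0.N) : G) * (((z : T0.N) : G))⁻¹ = 1
    rw [mul_inv_cancel]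
  · intro z hz
    rw [Subgroup.mem_center_iff]
    intro g
    exact Subtype.ext (hZcen ⟨z, hz⟩ g)
  · intro z
    have h1 : Nat.card (pi T T0 hN).ker = 1 ∨ Nat.card (pi T T0 hN).ker = 2 := by
      have : 0 < Nat.card (pi T T0 hN).ker := Nat.card_pos
      omega
    rcases h1 with h1 | h1
    · have h2 := pow_card_eq_one' (x := z)
      rw [h1, pow_one] at h2
      rw [h2, mul_one]
    · have h2 := pow_card_eq_one' (x := z)
      rw [h1, pow_two] at h2
      exact h2
  · exact im_L T Nat.prime_two (two_dvd_card_psl T.hF)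
  · refine im_L T hs ?_
    have h1 : s ∣ 2 * Nat.card T.L := by
      rw [odd_card T hodd]
      exact Dvd.dvd.mul_right hsd _
    exact Nat.Coprime.dvd_of_dvd_mul_left ((Nat.coprime_primes hs Nat.prime_two).2 hs2) h1
  · intro him'
    have h1 := (hadjL p r).1 (adj_of_im hp.out hr hps him')
    exact hpsq h1.2.2.2.1

end

/-- **A finite group with a 2-regular degree graph which has not three vertices is solvable.** -/
theorem solvable_of_ne_three (hTF : TorFix.{u}) (hD : FactDeg.{0}) (hT : FactTri.{0})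
    (hE : FactExt.{0}) {G : Type u} [Group G] [Finite G] (h : Reg2 G) (h3 : Set.ncard (degreePrimes G) ≠ 3) :
    Group.IsSolvable G := by
  by_contra hG
  obtain ⟨T, T0, -, hN⟩ := exists_fr hD hT hE hG h h3
  rcases Nat.even_or_odd (Fintype.card T.F) with he | ho
  · exact not_even T T0 hN h h3 he
  · exact not_odd T T0 hN hTF h h3 ho

end Cfsg.Agent.H658.Reg
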