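import Cfsg.Agent.H658.Reg.OddRed

/-!
# Perfect groups over `PSL(2,q)`, `q` odd (helper658, S4920)

`odd_red` : the kernel of `X → PSL(2,q)` has order at most two.
-/

set_option autoImplicit false
set_option linter.unusedSectionVars false

namespace Cfsg.Agent.H658.Reg

open Cfsg Matrix Subgroup
open scoped commutatorElement

universe u

/-- The quotient by a normal subgroup of the kernel. -/
theorem quot_data {X : Type u} [Group X] [Finite X] (hX : commutator X = ⊤) {P : Type*} [Group P] (π : X →* P)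
    (hπ : Function.Surjective π) (hsol : Group.IsSolvable π.ker) (N : Subgroup X) [hN : N.Normal] (hNk : N ≤ π.ker) :
    ∃ π' : X ⧸ N →* P, Function.Surjective π' ∧ Group.IsSolvable π'.ker ∧ commutator (X ⧸ N) = ⊤ ∧
      Nat.card N * Nat.card π'.ker = Nat.card π.ker ∧ (∀ x : X, π' (x : X ⧸ N) = π x) ∧
      π'.ker = π.ker.map (QuotientGroup.mk' N) := by
  let π' : X ⧸ N →* P := QuotientGroup.lift N π hNk
  have hval : ∀ x : X, π' (x : X ⧸ N) = π x := fun x => rfl
  have hker : π'.ker = π.ker.map (QuotientGroup.mk' N) := by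
    ext y
    obtain ⟨x, rfl⟩ := QuotientGroup.mk_surjective y
    rw [MonoidHom.mem_ker, hval]
    constructor
    · intro h
      exact ⟨x, h, rfl⟩
    · rintro ⟨z, hz, hzx⟩
      have h1 : z⁻¹ * x ∈ N := QuotientGroup.eq.1 hzx
      have h2 := hNk h1
      rw [MonoidHom.mem_ker, map_mul, map_inv, MonoidHom.mem_ker.1 hz, inv_one, one_mul] at h2
      exact h2
  refine ⟨π', ?_, ?_, ?_, ?_, hval, hker⟩
  · intro y
    obtain ⟨x, rfl⟩ := hπ y
    exact ⟨x, rfl⟩
  · rw [hker]
    exact Group.isSolvable_of_surjective (f := (QuotientGroup.mk' N).subgroupMap π.ker)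
      (MonoidHom.subgroupMap_surjective _ _)
  · have h1 : (commutator X).map (QuotientGroup.mk' N) = commutator (X ⧸ N) := by
      rw [_root_.commutator_def, _root_.commutator_def, Subgroup.map_commutator, ← MonoidHom.range_eq_map,
        MonoidHom.range_eq_top.2 (QuotientGroup.mk'_surjective N)]
    rw [← h1, hX, ← MonoidHom.range_eq_map, MonoidHom.range_eq_top.2 (QuotientGroup.mk'_surjective N)]
  · rw [hker]
    have h2 := Subgroup.card_mul_index (N.subgroupOf π.ker)
    rw [Nat.card_congr (Subgroup.subgroupOfEquivOfLe hNk).toEquiv] at h2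
    rw [← h2]
    congr 1
    have h3 := Subgroup.relIndex_ker (K := π.ker) (QuotientGroup.mk' N)
    rw [QuotientGroup.ker_mk'] at h3
    exact h3.symm

theorem odd_red_aux (hTF : TorFix.{u}) {F : Type} [Field F] [Fintype F] (p : ℕ) [hp : Fact p.Prime]
    [CharP F p] {r s : ℕ} (hodd : Odd (Fintype.card F)) (hr : r.Prime) (hs : s.Prime) (hr2 : r ≠ 2) (hs2 : s ≠ 2)
    (hrd : r ∣ Fintype.card F - 1) (hsd : s ∣ Fintype.card F + 1)
    (hall : ∀ t : ℕ, t.Prime → t ∣ Fintype.card F - 1 → t = 2 ∨ t = r) (n : ℕ) :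
    ∀ (X : Type u) [Group X] [Finite X], Nat.card X ≤ n → commutator X = ⊤ →
    ∀ (π : X →* ProjectiveSpecialLinearGroup (Fin 2) F), Function.Surjective π → Group.IsSolvable π.ker →
    ¬ H33.IM (2 * p) X → ¬ H33.IM (r * s) X → Nat.card π.ker ≤ 2 := by
  induction n with
  | zero =>
    intro X _ _ hn
    exact absurd hn (by have := Nat.card_pos (α := X); omega)
  | succ n ih =>
    intro X _ _ hn hX π hπ hsol hno1 hno2
    by_contra hW
    have hW3 : 2 < Nat.card π.ker := by omega
    by_cases hWmin : ∀ N : Subgroup X, N.Normal → N ≤ π.ker → N ≠ ⊥ → Nat.card π.ker ≤ 2 * Nat.card N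
    · exact odd_min hTF hX p hodd hr hs hr2 hs2 hrd hsd hall π hπ hsol hno1 hno2 hW3 hWmin
    · push Not at hWmin
      obtain ⟨N, hN, hNk, hNb, hlt⟩ := hWmin
      obtain ⟨π', h1, h2, h3, h4, -, -⟩ := quot_data hX π hπ hsol N hNk
      have hNc : 1 < Nat.card N := by
        have h5 : Nat.card N ≠ 1 := fun h => hNb (Subgroup.card_eq_one.1 h)
        have h6 : 0 < Nat.card N := Nat.card_pos
        omega
      have hcard : Nat.card (X ⧸ N) ≤ n := by
        have h5 := N.card_mul_index
        rw [Subgroup.index_eq_card] at h5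
        have h6 : 0 < Nat.card (X ⧸ N) := Nat.card_pos
        have h7 : 2 * Nat.card (X ⧸ N) ≤ Nat.card N * Nat.card (X ⧸ N) := Nat.mul_le_mul_right _ hNc
        omega
      have h5 := ih (X ⧸ N) hcard h3 π' h1 h2 (fun h => hno1 (h.of_quotient N)) (fun h => hno2 (h.of_quotient N))
      rw [← h4] at hlt
      have h6 : Nat.card N * Nat.card π'.ker ≤ Nat.card N * 2 := Nat.mul_le_mul_left _ h5
      omega

/-- **The kernel has order at most two.** -/
theorem odd_red (hTF : TorFix.{u}) {F : Type} [Field F] [Fintype F] (p : ℕ) [hp : Fact p.Prime]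
    [CharP F p] {r s : ℕ} (hodd : Odd (Fintype.card F)) (hr : r.Prime) (hs : s.Prime) (hr2 : r ≠ 2) (hs2 : s ≠ 2)
    (hrd : r ∣ Fintype.card F - 1) (hsd : s ∣ Fintype.card F + 1)
    (hall : ∀ t : ℕ, t.Prime → t ∣ Fintype.card F - 1 → t = 2 ∨ t = r)
    {X : Type u} [Group X] [Finite X] (hX : commutator X = ⊤)
    (π : X →* ProjectiveSpecialLinearGroup (Fin 2) F) (hπ : Function.Surjective π) (hsol : Group.IsSolvable π.ker)
    (hno1 : ¬ H33.IM (2 * p) X) (hno2 : ¬ H33.IM (r * s) X) : Nat.card π.ker ≤ 2 :=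
  odd_red_aux hTF p hodd hr hs hr2 hs2 hrd hsd hall _ X le_rfl hX π hπ hsol hno1 hno2

end Cfsg.Agent.H658.Reg
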