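import Cfsg.Agent.H658.Reg.OddClif
import Cfsg.Agent.H191.CrossMain
import Cfsg.Agent.H264.CoverOver
import Cfsg.Agent.S2086
import Cfsg.Agent.H671.Frame

/-!
# Perfect groups over `PSL(2,q)`, `q` odd, with few edges (helper658, S4920)

* `central_of_perfect` : `V ≤ W` normal, `V` central, `|W| ≤ 2 |V|`, `X` perfect: `W` is central;
* `odd_min` : the minimal configuration;
* `odd_red` : the kernel of `X → PSL(2,q)` has order at most two.
-/

set_option autoImplicit false
set_option linter.unusedSectionVars false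

namespace Cfsg.Agent.H658.Reg

open Cfsg Matrix Subgroup
open Cfsg.Agent.Characters.Core
open Cfsg.Agent.H672
open Cfsg.Agent.H191.Cross
open scoped commutatorElement

universe u

/-- The theorem of helper191 on characters fixed by the torus. -/
def TorFix : Prop :=
  ∀ (X : Type u) [Group X] [Finite X] (W : Subgroup X) [W.Normal], (∀ x ∈ W, ∀ y ∈ W, x * y = y * x) →
    ∀ (F : Type) [Field F] [Fintype F] (p : ℕ) [Fact p.Prime] [CharP F p], 4 ≤ Fintype.card F →
    ∀ (π : X →* ProjectiveSpecialLinearGroup (Fin 2) F), Function.Surjective π → π.ker = W → ¬ p ∣ Nat.card W →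
    ¬ W ≤ center X → ∀ D : H525.L2.Fr (ProjectiveSpecialLinearGroup (Fin 2) F) F,
    ∃ l : W →* ℂˣ, (inertia W (lf l)).map π ≠ ⊤ ∧ ∀ a : Fˣ, D.T a ∈ (inertia W (lf l)).map π

section gen

variable {X : Type u} [Group X] [Finite X]

/-- two cosets -/
theorem coset_two {V W : Subgroup X} (hVW : V ≤ W) (hc : Nat.card W ≤ 2 * Nat.card V) {x y : X} (hx : x ∈ W) (hy : y ∈ W)
    (hxV : x ∉ V) (hyV : y ∉ V) : x⁻¹ * y ∈ V := by
  classical
  by_contra h
  have hV0 : 0 < Nat.card V := Nat.card_pos
  -- three cosets
  let f : V ⊕ V ⊕ V → W := fun z => match z with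
    | Sum.inl v => ⟨v, hVW v.2⟩
    | Sum.inr (Sum.inl v) => ⟨x * v, W.mul_mem hx (hVW v.2)⟩
    | Sum.inr (Sum.inr v) => ⟨y * v, W.mul_mem hy (hVW v.2)⟩
  have hf : Function.Injective f := by
    rintro (a | a | a) (b | b | b) hab <;>
      have h1 := congrArg (fun z : W => (z : X)) hab
    · have h2 : (a : X) = b := h1
      rw [Subtype.ext h2]
    · exfalso
      have h2 : (a : X) = x * b := h1
      apply hxV
      rw [show x = (a : X) * (b : X)⁻¹ by rw [h2, mul_inv_cancel_right]]
      exact V.mul_mem a.2 (V.inv_mem b.2)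
    · exfalso
      have h2 : (a : X) = y * b := h1
      apply hyV
      rw [show y = (a : X) * (b : X)⁻¹ by rw [h2, mul_inv_cancel_right]]
      exact V.mul_mem a.2 (V.inv_mem b.2)
    · exfalso
      have h2 : x * (a : X) = b := h1
      apply hxV
      rw [show x = (b : X) * (a : X)⁻¹ by rw [← h2, mul_inv_cancel_right]]
      exact V.mul_mem b.2 (V.inv_mem a.2)
    · have h2 : x * (a : X) = x * b := h1
      rw [Subtype.ext (mul_left_cancel h2)]
    · exfalso
      have h2 : x * (a : X) = y * b := h1
      apply h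
      rw [show x⁻¹ * y = (a : X) * (b : X)⁻¹ by
        rw [eq_mul_inv_iff_mul_eq, mul_assoc, ← h2, inv_mul_cancel_left]]
      exact V.mul_mem a.2 (V.inv_mem b.2)
    · exfalso
      have h2 : y * (a : X) = b := h1
      apply hyV
      rw [show y = (b : X) * (a : X)⁻¹ by rw [← h2, mul_inv_cancel_right]]
      exact V.mul_mem b.2 (V.inv_mem a.2)
    · exfalso
      have h2 : y * (a : X) = x * b := h1
      apply h
      rw [show x⁻¹ * y = (b : X) * (a : X)⁻¹ by
        rw [eq_mul_inv_iff_mul_eq, mul_assoc, h2, inv_mul_cancel_left]]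
      exact V.mul_mem b.2 (V.inv_mem a.2)
    · have h2 : y * (a : X) = y * b := h1
      rw [Subtype.ext (mul_left_cancel h2)]
  have h1 := Nat.card_le_card_of_injective f hf
  rw [Nat.card_sum, Nat.card_sum] at h1
  omega

/-- A homomorphism-like map with central values is trivial on a perfect group. -/
theorem central_of_perfect (hX : commutator X = ⊤) {V W : Subgroup X} [hV : V.Normal] [hW : W.Normal] (hVW : V ≤ W)
    (hVz : V ≤ center X) (hc : Nat.card W ≤ 2 * Nat.card V) : W ≤ center X := by
  intro w hw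
  -- `[x, w] ∈ V` for all `x`
  have h1 : ∀ x : X, x * w * x⁻¹ * w⁻¹ ∈ V := by
    intro x
    by_cases hwV : w ∈ V
    · exact V.mul_mem (hV.conj_mem w hwV x) (V.inv_mem hwV)
    · have h2 : x * w * x⁻¹ ∉ V := by
        intro h
        apply hwV
        have := hV.conj_mem _ h x⁻¹
        have e1 : x⁻¹ * (x * w * x⁻¹) * x⁻¹⁻¹ = w := by group
        rwa [e1] at this
      have h3 := coset_two hVW hc hw (hW.conj_mem w hw x) hwV h2
      have h4 := hV.conj_mem _ h3 w
      have e1 : w * (w⁻¹ * (x * w * x⁻¹)) * w⁻¹ = x * w * x⁻¹ * w⁻¹ := by group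
      rwa [e1] at h4
  have h2 : ∀ x y : X, x * y * w * (x * y)⁻¹ * w⁻¹ = (x * w * x⁻¹ * w⁻¹) * (y * w * y⁻¹ * w⁻¹) := by
    intro x y
    have h2 := (mem_center_iff.1 (hVz (h1 y)) x)
    have h3 := (mem_center_iff.1 (hVz (h1 y)) (x * w * x⁻¹ * w⁻¹))
    calc x * y * w * (x * y)⁻¹ * w⁻¹ = (x * (y * w * y⁻¹ * w⁻¹)) * (w * x⁻¹ * w⁻¹) := by group
      _ = ((y * w * y⁻¹ * w⁻¹) * x) * (w * x⁻¹ * w⁻¹) := by rw [h2]
      _ = (y * w * y⁻¹ * w⁻¹) * (x * w * x⁻¹ * w⁻¹) := by group
      _ = _ := h3.symm
  have h3 : commutator X ≤ centralizer {w} := by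
    rw [_root_.commutator_def, Subgroup.commutator_le]
    intro a _ b _
    rw [mem_centralizer_singleton_iff]
    have h4 := h2 a⁻¹ b⁻¹
    have h5 := h2 b⁻¹ a⁻¹
    have h6 := mem_center_iff.1 (hVz (h1 a⁻¹)) (b⁻¹ * w * b⁻¹⁻¹ * w⁻¹)
    have h7 : a⁻¹ * b⁻¹ * w * (a⁻¹ * b⁻¹)⁻¹ * w⁻¹ = b⁻¹ * a⁻¹ * w * (b⁻¹ * a⁻¹)⁻¹ * w⁻¹ := by
      rw [h4, h5, h6]
    have h8 : a⁻¹ * b⁻¹ * w * (a⁻¹ * b⁻¹)⁻¹ = b⁻¹ * a⁻¹ * w * (b⁻¹ * a⁻¹)⁻¹ := mul_right_cancel h7
    rw [commutatorElement_def]
    symm
    calc w * (a * b * a⁻¹ * b⁻¹) = a * b * (b⁻¹ * a⁻¹ * w * (b⁻¹ * a⁻¹)⁻¹) * (a⁻¹ * b⁻¹) := by group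
      _ = a * b * (a⁻¹ * b⁻¹ * w * (a⁻¹ * b⁻¹)⁻¹) * (a⁻¹ * b⁻¹) := by rw [h8]
      _ = a * b * a⁻¹ * b⁻¹ * w := by group
  rw [mem_center_iff]
  intro x
  have h4 : x ∈ centralizer {w} := h3 (by rw [hX]; trivial)
  exact mem_centralizer_singleton_iff.1 h4

/-- The order of the kernel of a perfect central extension of `PSL(2,F)`. -/
theorem card_ker_dvd (hX : commutator X = ⊤) {F : Type} [Field F] [Fintype F] (h4 : 4 ≤ Fintype.card F)
    (hn4 : Fintype.card F ≠ 4) (hn9 : Fintype.card F ≠ 9) (π : X →* ProjectiveSpecialLinearGroup (Fin 2) F)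
    (hπ : Function.Surjective π) (hc : π.ker ≤ center X) : Nat.card π.ker ∣ Nat.gcd 2 (Fintype.card F - 1) := by
  have h1 := S2086.result (F := F) rfl 2 le_rfl (fun _ => h4) (by
    simp only [Set.mem_insert_iff, Set.mem_singleton_iff, Prod.mk.injEq, not_or]
    refine ⟨fun h => hn4 h.2, fun h => hn9 h.2, fun h => ?_, fun h => ?_, fun h => ?_⟩ <;> omega)
  have h2 := H264.CoverOver.card_ker_dvd h1 hX π hπ hc
  rwa [Nat.card_congr (Multiplicative.toAdd (α := ZMod _)), Nat.card_zmod] at h2

/-- A minimal normal subgroup contained in a solvable subgroup is abelian. -/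
theorem abelian_of_minNormal {V : Subgroup X} [V.Normal] (hsol : Group.IsSolvable V) (hVb : V ≠ ⊥)
    (hmin : ∀ L : Subgroup X, L.Normal → L ≤ V → L = ⊥ ∨ L = V) : ∀ x ∈ V, ∀ y ∈ V, x * y = y * x := by
  have h1 : ⁅V, V⁆ = ⊥ := by
    rcases hmin ⁅V, V⁆ inferInstance (commutator_le_right V V) with h | h
    · exact h
    · exfalso
      have hnt : Nontrivial V := (Subgroup.nontrivial_iff_ne_bot V).2 hVb
      have h2 : (⊤ : Subgroup V) ≠ ⊥ := top_ne_bot
      have h3 := Group.IsSolvable.commutator_lt_of_ne_bot h2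
      have h4 : (⁅(⊤ : Subgroup V), (⊤ : Subgroup V)⁆ : Subgroup V).map V.subtype = V := by
        rw [Subgroup.map_commutator, ← MonoidHom.range_eq_map, Subgroup.range_subtype, h]
      have h5 : (⊤ : Subgroup V).map V.subtype = V := by
        rw [← MonoidHom.range_eq_map, Subgroup.range_subtype]
      have h6 : (⁅(⊤ : Subgroup V), (⊤ : Subgroup V)⁆ : Subgroup V) = ⊤ := Subgroup.map_injective V.subtype_injective (h4.trans h5.symm)
      exact h3.ne h6
  intro x hx y hy
  have h2 := Subgroup.commutator_mem_commutator hx hy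
  rw [h1, mem_bot, commutatorElement_eq_one_iff_mul_comm] at h2
  exact h2

/-- A subgroup of index two of a perfect group does not exist. -/
theorem index_ne_two (hX : commutator X = ⊤) (I : Subgroup X) : I.index ≠ 2 := by
  intro h
  have hn : I.Normal := Subgroup.normal_of_index_eq_two h
  have hcard : Nat.card (X ⧸ I) = 2 := by rw [← Subgroup.index_eq_card, h]
  have hcyc : IsCyclic (X ⧸ I) := isCyclic_of_prime_card (hp := ⟨Nat.prime_two⟩) hcard
  have hcomm : ∀ a b : X ⧸ I, a * b = b * a := fun a b =>
    (IsCyclic.isMulCommutative (α := X ⧸ I)).is_comm.comm a b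
  have h1 : commutator X ≤ I := by
    rw [_root_.commutator_def, Subgroup.commutator_le]
    intro a _ b _
    rw [← QuotientGroup.eq_one_iff]
    show ((⁅a, b⁆ : X) : X ⧸ I) = 1
    rw [commutatorElement_def, QuotientGroup.mk_mul, QuotientGroup.mk_mul, QuotientGroup.mk_mul, QuotientGroup.mk_inv,
      QuotientGroup.mk_inv, hcomm a b, mul_inv_cancel_right, mul_inv_cancel]
  rw [hX, top_le_iff] at h1
  rw [h1, Subgroup.index_top] at h
  omega

end gen

section min

variable {X : Type u} [Group X] [Finite X]

/-- A nontrivial linear character of a noncentral minimal normal subgroup is not invariant. -/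
theorem not_inv {V : Subgroup X} [hVn : V.Normal] (hmin : ∀ L : Subgroup X, L.Normal → L ≤ V → L = ⊥ ∨ L = V)
    (hVz : ¬ V ≤ center X) {l : V →* ℂˣ} (hl : l ≠ 1) : inertia V (lf l) ≠ ⊤ := by
  intro h
  have hall : ∀ x : X, x ∈ inertia V (lf l) := fun x => by rw [h]; trivial
  let K : Subgroup X := l.ker.map V.subtype
  have hK : K.Normal := by
    constructor
    rintro _ ⟨v, hv, rfl⟩ g
    refine ⟨MulAut.conjNormal g v, ?_, rfl⟩
    show l _ = 1
    rw [(mem_inertia_lf V).1 (hall g) v]
    exact hv
  rcases hmin K hK (Subgroup.map_subtype_le _) with h1 | h1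
  · apply hVz
    intro v hv
    rw [Subgroup.mem_center_iff]
    intro g
    have h2 : (⟨v, hv⟩ : V)⁻¹ * MulAut.conjNormal g ⟨v, hv⟩ ∈ l.ker := by
      rw [MonoidHom.mem_ker, map_mul, map_inv, (mem_inertia_lf V).1 (hall g), inv_mul_cancel]
    have h3 : V.subtype ((⟨v, hv⟩ : V)⁻¹ * MulAut.conjNormal g ⟨v, hv⟩) ∈ K := ⟨_, h2, rfl⟩
    rw [h1, Subgroup.mem_bot] at h3
    have h4 : v⁻¹ * (g * v * g⁻¹) = 1 := h3
    rw [inv_mul_eq_one] at h4
    exact (mul_inv_eq_iff_eq_mul.1 h4.symm)
  · apply hl
    ext v
    have h2 : (v : X) ∈ K := by rw [h1]; exact v.2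
    obtain ⟨w, hw, hwv⟩ := h2
    have h3 : w = v := Subtype.ext hwv
    rw [← h3]
    exact congrArg _ hw

/-- **The minimal configuration.** -/
theorem odd_min (hTF : TorFix.{u}) (hX : commutator X = ⊤) {F : Type} [Field F] [Fintype F] (p : ℕ) [hp : Fact p.Prime]
    [CharP F p] {r s : ℕ} (hodd : Odd (Fintype.card F)) (hr : r.Prime) (hs : s.Prime) (hr2 : r ≠ 2) (hs2 : s ≠ 2)
    (hrd : r ∣ Fintype.card F - 1) (hsd : s ∣ Fintype.card F + 1)
    (hall : ∀ t : ℕ, t.Prime → t ∣ Fintype.card F - 1 → t = 2 ∨ t = r)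
    (π : X →* ProjectiveSpecialLinearGroup (Fin 2) F) (hπ : Function.Surjective π) (hsol : Group.IsSolvable π.ker)
    (hno1 : ¬ H33.IM (2 * p) X) (hno2 : ¬ H33.IM (r * s) X) (hW3 : 2 < Nat.card π.ker)
    (hWmin : ∀ N : Subgroup X, N.Normal → N ≤ π.ker → N ≠ ⊥ → Nat.card π.ker ≤ 2 * Nat.card N) : False := by
  classical
  obtain ⟨n, -, hqn⟩ := FiniteField.card F p
  have hn0 : (n : ℕ) ≠ 0 := n.ne_zero
  have hpq : p ∣ Fintype.card F := by rw [hqn]; exact dvd_pow_self p hn0
  have hp2 : p ≠ 2 := by
    rintro rfl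
    exact (Nat.not_even_iff_odd.2 hodd) (even_iff_two_dvd.2 hpq)
  have hp3 : 3 ≤ p := by
    have := hp.out.two_le
    omega
  have hF1 : 1 < Fintype.card F := Fintype.one_lt_card
  -- the order of the field
  have h11 : 11 ≤ Fintype.card F := by
    have h1 := Nat.le_of_dvd (by omega) hrd
    have hr3 : 3 ≤ r := by
      have := hr.two_le
      omega
    by_contra hlt
    obtain ⟨m, hm⟩ := hodd
    have h2 : Fintype.card F = 5 ∨ Fintype.card F = 7 ∨ Fintype.card F = 9 := by omega
    rcases h2 with h2 | h2 | h2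
    · have : r ∣ 2 ^ 2 := by rw [h2] at hrd; exact hrd
      exact hr2 ((Nat.prime_dvd_prime_iff_eq hr Nat.prime_two).1 (hr.dvd_of_dvd_pow this))
    · have : s ∣ 2 ^ 3 := by rw [h2] at hsd; exact hsd
      exact hs2 ((Nat.prime_dvd_prime_iff_eq hs Nat.prime_two).1 (hs.dvd_of_dvd_pow this))
    · have : r ∣ 2 ^ 3 := by rw [h2] at hrd; exact hrd
      exact hr2 ((Nat.prime_dvd_prime_iff_eq hr Nat.prime_two).1 (hr.dvd_of_dvd_pow this))
  have hWb : π.ker ≠ ⊥ := by
    intro h
    rw [h, Subgroup.card_bot] at hW3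
    omega
  obtain ⟨V, hVn, hVW, hVb, hmin⟩ := H671.Frame.exists_minNormal (N := π.ker) inferInstance hWb
  have hcV := hWmin V hVn hVW hVb
  have hVsol : Group.IsSolvable V := Group.isSolvable_of_isSolvable_injective (f := Subgroup.inclusion hVW)
    (Subgroup.inclusion_injective hVW)
  have hVc := abelian_of_minNormal hVsol hVb hmin
  have hVcom : ∀ v w : V, v * w = w * v := fun v w => Subtype.ext (hVc v v.2 w w.2)
  -- `V` is not central
  have hVz : ¬ V ≤ center X := by
    intro h
    have h1 := central_of_perfect hX hVW h hcV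
    have h2 := card_ker_dvd hX (by omega) (by omega) (by omega) π hπ h1
    have h3 := Nat.le_of_dvd (Nat.gcd_pos_of_pos_left _ (by norm_num)) h2
    have h4 : Nat.gcd 2 (Fintype.card F - 1) ≤ 2 := Nat.gcd_le_left _ (by norm_num)
    omega
  obtain ⟨e, he, heV⟩ := exists_exponent V hmin hVc hVb
  have hef : Fact e.Prime := ⟨he⟩
  have hVp : IsPGroup e V := by
    intro v
    refine ⟨1, ?_⟩
    apply Subtype.ext
    show (v : X) ^ (e ^ 1) = 1
    rw [pow_one]
    exact heV v v.2
  obtain ⟨k, hk⟩ := IsPGroup.iff_card.1 hVp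
  have hVcard1 : Nat.card V ≠ 1 := fun h => hVb (Subgroup.card_eq_one.1 h)
  have hcardl := card_lin hVcom
  have hfinl : Finite (V →* ℂˣ) := by
    apply Nat.finite_of_card_ne_zero
    rw [hcardl]
    exact Nat.card_pos.ne'
  let D := H525.L2.frame (MulEquiv.refl (ProjectiveSpecialLinearGroup (Fin 2) F))
  by_cases hcen : ∀ w ∈ π.ker, ∀ v ∈ V, w * v = v * w
  · -- `W` centralizes `V`, so it is abelian
    have hWc : ∀ x ∈ π.ker, ∀ y ∈ π.ker, x * y = y * x := by
      intro x hx y hy
      by_cases hyV : y ∈ V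
      · exact hcen x hx y hyV
      by_cases hxV : x ∈ V
      · exact (hcen y hy x hxV).symm
      · have h1 := coset_two hVW hcV hx hy hxV hyV
        have h2 := hcen x hx _ h1
        calc x * y = x * (x * (x⁻¹ * y)) := by group
          _ = x * (x⁻¹ * y * x) := by rw [h2]
          _ = y * x := by group
    by_cases hep : e = p
    · -- `V` is a `p`-group
      subst hep
      have hVWe : V = π.ker := by
        by_contra hne
        -- elements of order two
        have hlt : Nat.card V < Nat.card π.ker := by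
          refine lt_of_le_of_ne (Subgroup.card_le_of_le hVW) fun h => hne ?_
          exact Subgroup.eq_of_le_of_card_ge hVW h.ge
        have hdvd := Subgroup.card_dvd_of_le hVW
        obtain ⟨c, hc⟩ := hdvd
        have hVpos : 0 < Nat.card V := Nat.card_pos
        have hc2 : c = 2 := by
          have h1 : c ≤ 2 := by
            rw [hc] at hcV
            have h2 : Nat.card V * c ≤ Nat.card V * 2 := by rw [mul_comm _ 2]; exact hcV
            exact Nat.le_of_mul_le_mul_left h2 hVpos
          have h3 : c ≠ 0 := by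
            rintro rfl
            omega
          have h4 : c ≠ 1 := by
            rintro rfl
            omega
          omega
        subst hc2
        have h2W : 2 ∣ Nat.card π.ker := ⟨_, by rw [hc, mul_comm]⟩
        obtain ⟨x, hx⟩ := exists_prime_orderOf_dvd_card' 2 h2W
        let K : Subgroup X :=
          { carrier := {w | w ∈ π.ker ∧ w ^ 2 = 1}
            one_mem' := ⟨one_mem _, one_pow 2⟩
            mul_mem' := by
              rintro a b ⟨ha, ha'⟩ ⟨hb, hb'⟩
              refine ⟨mul_mem ha hb, ?_⟩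
              have h : Commute a b := hWc a ha b hb
              rw [h.mul_pow, ha', hb', one_mul]
            inv_mem' := by
              rintro a ⟨ha, ha'⟩
              refine ⟨inv_mem ha, ?_⟩
              rw [inv_pow, ha', inv_one] }
        have hK : K.Normal := by
          constructor
          rintro w ⟨hw, hw'⟩ g
          refine ⟨(inferInstance : π.ker.Normal).conj_mem w hw g, ?_⟩
          rw [conj_pow, hw', mul_one, mul_inv_cancel]
        have hxK : (x : X) ∈ K := by
          refine ⟨x.2, ?_⟩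
          have h3 := pow_orderOf_eq_one x
          rw [hx] at h3
          exact congrArg Subtype.val h3
        have hKb : K ≠ ⊥ := by
          intro h
          rw [h, mem_bot] at hxK
          have h3 : x = 1 := Subtype.ext hxK
          rw [h3, orderOf_one] at hx
          omega
        have hcK := hWmin K hK (fun w hw => hw.1) hKb
        -- `|K| ≤ 2`
        have hKV : ∀ w ∈ K, w ∈ V → w = 1 := by
          rintro w ⟨-, hw⟩ hwV
          have h1 := heV w hwV
          have h2 := orderOf_dvd_of_pow_eq_one hw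
          have h3 := orderOf_dvd_of_pow_eq_one h1
          have h4 := Nat.eq_one_of_dvd_coprimes ((Nat.coprime_primes Nat.prime_two hp.out).2 hp2.symm) h2 h3
          exact orderOf_eq_one_iff.1 h4
        have hK2 : Nat.card K ≤ 2 := by
          by_contra hgt
          have hgt' : 2 < Nat.card K := by omega
          -- two elements of `K` outside `V` in different cosets
          let g : K → Bool := fun w => decide ((w : X) = 1)
          have hinj : Function.Injective g := by
            intro a b hab
            have h1 : decide ((a : X) = 1) = decide ((b : X) = 1) := hab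
            rw [decide_eq_decide] at h1
            by_cases ha1 : (a : X) = 1
            · exact Subtype.ext (ha1.trans (h1.1 ha1).symm)
            · have hb1 : (b : X) ≠ 1 := fun h => ha1 (h1.2 h)
              have haV : (a : X) ∉ V := fun h => ha1 (hKV a a.2 h)
              have hbV : (b : X) ∉ V := fun h => hb1 (hKV b b.2 h)
              have h2 := coset_two hVW hcV a.2.1 b.2.1 haV hbV
              have h3 := hKV _ (K.mul_mem (K.inv_mem a.2) b.2) h2
              exact Subtype.ext (inv_mul_eq_one.1 h3)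
          have h1 := Nat.card_le_card_of_injective g hinj
          rw [Nat.card_eq_fintype_card (α := Bool), Fintype.card_bool] at h1
          omega
        have hV3 : 3 ≤ Nat.card V := by
          rw [hk]
          have hk0 : k ≠ 0 := by
            rintro rfl
            rw [pow_zero] at hk
            exact hVcard1 hk
          calc 3 ≤ e := hp3
            _ = e ^ 1 := (pow_one e).symm
            _ ≤ e ^ k := Nat.pow_le_pow_right (by omega) (by omega)
        omega
      -- a character fixed by a Sylow subgroup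
      let _ := act V
      obtain ⟨P⟩ : Nonempty (Sylow e X) := inferInstance
      have hP : IsPGroup e (P : Subgroup X) := P.2
      have hdvd : e ∣ Nat.card (V →* ℂˣ) := by
        rw [hcardl, hk]
        apply dvd_pow_self
        rintro rfl
        rw [pow_zero] at hk
        exact hVcard1 hk
      obtain ⟨l, hl, hl1⟩ := hP.exists_fixed_point_of_prime_dvd_card_of_fixed_point (V →* ℂˣ) hdvd
        (a := 1) (fun d => by
          show (d : X) • (1 : V →* ℂˣ) = 1
          exact (act V).smul_one (d : X))
      have hIP : (P : Subgroup X) ≤ inertia V (lf l) := by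
        intro x hx
        exact (act_eq_iff V x l).1 (hl ⟨x, hx⟩)
      have hVI : V ≤ inertia V (lf l) := le_inertia' V hVc l
      have hnot := not_inv hmin hVz (Ne.symm hl1)
      refine odd_false e hodd hr hs hr2 hs2 hrd hsd hall D π V l hπ ?_ ?_ hno1 hno2 (Or.inl ?_)
      · rw [← hVWe]
        exact inf_eq_right.2 hVI
      · intro h
        apply hnot
        rw [eq_top_iff]
        intro x _
        have h1 : π x ∈ (inertia V (lf l)).map π := by rw [h]; trivial
        exact (mem_map_iff V π hVc hVWe.symm l x).1 h1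
      · intro h
        exact P.not_dvd_index (h.trans (Subgroup.index_dvd_of_le hIP))
    · -- the order of `W` is prime to `p`
      have hpV : ¬ p ∣ Nat.card V := by
        rw [hk]
        intro h
        exact hep ((Nat.prime_dvd_prime_iff_eq hp.out he).1 (hp.out.dvd_of_dvd_pow h)).symm
      have hpW : ¬ p ∣ Nat.card π.ker := by
        obtain ⟨c, hc⟩ := Subgroup.card_dvd_of_le hVW
        have hVpos : 0 < Nat.card V := Nat.card_pos
        have hc2 : c ≤ 2 := by
          rw [hc] at hcV
          have h2 : Nat.card V * c ≤ Nat.card V * 2 := by rw [mul_comm _ 2]; exact hcV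
          exact Nat.le_of_mul_le_mul_left h2 hVpos
        have hc0 : c ≠ 0 := by
          rintro rfl
          omega
        rw [hc, hp.out.dvd_mul]
        rintro (h | h)
        · exact hpV h
        · have := Nat.le_of_dvd (by omega) h
          omega
      have hWz : ¬ π.ker ≤ center X := fun h => hVz (hVW.trans h)
      obtain ⟨l, hl, hT⟩ := hTF X π.ker hWc F p (by omega) π hπ rfl hpW hWz D
      refine odd_false p hodd hr hs hr2 hs2 hrd hsd hall D π π.ker l hπ ?_ hl hno1 hno2 (Or.inr hT)
      exact inf_eq_right.2 (le_inertia' π.ker hWc l)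
  · -- `W` does not centralize `V`
    push Not at hcen
    obtain ⟨w0, hw0, v0, hv0, hwv0⟩ := hcen
    -- elements of `V` centralized by an element outside `V`
    let C : Subgroup X := V ⊓ centralizer (π.ker : Set X)
    have hCn : C.Normal := inferInstance
    have hCb : C = ⊥ := by
      rcases hmin C hCn inf_le_left with h | h
      · exact h
      · exfalso
        have h1 : v0 ∈ C := by rw [h]; exact hv0
        exact hwv0 (mem_centralizer_iff.1 h1.2 w0 hw0)
    have hcentr : ∀ w ∈ π.ker, w ∉ V → ∀ v ∈ V, w * v = v * w → v = 1 := by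
      intro w hw hwV v hv hwv
      have h1 : v ∈ C := by
        refine ⟨hv, mem_centralizer_iff.2 fun y hy => ?_⟩
        by_cases hyV : y ∈ V
        · exact hVc y hyV v hv
        · have h2 := coset_two hVW hcV hw hy hwV hyV
          have h3 := hVc _ h2 v hv
          calc y * v = w * ((w⁻¹ * y) * v) := by group
            _ = w * (v * (w⁻¹ * y)) := by rw [h3]
            _ = (w * v) * (w⁻¹ * y) := by group
            _ = (v * w) * (w⁻¹ * y) := by rw [hwv]
            _ = v * y := by group
      rwa [hCb, mem_bot] at h1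
    have hinv : ∀ w ∈ π.ker, w ∉ V → ∀ v ∈ V, w * v * w⁻¹ = v⁻¹ := by
      intro w hw hwV v hv
      have hw2 : w * w ∈ V := by
        by_cases h : w⁻¹ ∈ V
        · exact absurd (by simpa using V.inv_mem h) hwV
        · have := coset_two hVW hcV (π.ker.inv_mem hw) hw h hwV
          rwa [inv_inv] at this
      have hwv : w * v * w⁻¹ ∈ V := hVn.conj_mem v hv w
      have h1 : w * (v * (w * v * w⁻¹)) = (v * (w * v * w⁻¹)) * w := by
        have h2 := hVc _ hw2 v hv
        have h3 := hVc v hv _ hwv
        calc w * (v * (w * v * w⁻¹)) = (w * v * w⁻¹) * ((w * w) * v) * w⁻¹ := by group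
          _ = (w * v * w⁻¹) * (v * (w * w)) * w⁻¹ := by rw [h2]
          _ = ((w * v * w⁻¹) * v) * w := by group
          _ = (v * (w * v * w⁻¹)) * w := by rw [h3]
      have h2 := hcentr w hw hwV _ (V.mul_mem hv hwv) h1
      exact (eq_inv_of_mul_eq_one_right h2)
    have hw0V : w0 ∉ V := fun h => hwv0 (hVc w0 h v0 hv0)
    have he2 : e ≠ 2 := by
      rintro rfl
      apply hwv0
      have h1 := hinv w0 hw0 hw0V v0 hv0
      have h2 : v0⁻¹ = v0 := by
        have := heV v0 hv0
        rw [pow_two] at this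
        exact inv_eq_of_mul_eq_one_left this
      rw [h2] at h1
      exact mul_inv_eq_iff_eq_mul.1 h1
    obtain ⟨v1, hv1, hv11⟩ := (Subgroup.bot_or_exists_ne_one V).resolve_left hVb
    obtain ⟨l, hl⟩ := exists_lin hVcom (a := ⟨v1, hv1⟩) (fun h => hv11 (congrArg Subtype.val h))
    have hVI : V ≤ inertia V (lf l) := le_inertia' V hVc l
    -- elements of `W` fixing `l` are in `V`
    have hfix : ∀ w ∈ π.ker, w ∈ inertia V (lf l) → w ∈ V := by
      intro w hw hwI
      by_contra hwV
      have hval : ∀ v : V, l v = 1 := by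
        intro v
        have h1 := (mem_inertia_lf V).1 hwI v
        have h2 : (MulAut.conjNormal w v : V) = v⁻¹ := Subtype.ext (hinv w hw hwV v v.2)
        rw [h2, map_inv] at h1
        have h3 : l v ^ 2 = 1 := by
          rw [pow_two]
          nth_rewrite 1 [← h1]
          exact inv_mul_cancel _
        have h4 : l v ^ e = 1 := by
          rw [← map_pow]
          have h5 : v ^ e = 1 := Subtype.ext (heV v v.2)
          rw [h5, map_one]
        have h5 := orderOf_dvd_of_pow_eq_one h3
        have h6 := orderOf_dvd_of_pow_eq_one h4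
        have h7 := Nat.eq_one_of_dvd_coprimes ((Nat.coprime_primes Nat.prime_two he).2 he2.symm) h5 h6
        exact orderOf_eq_one_iff.1 h7
      exact hl (hval _)
    have hint : inertia V (lf l) ⊓ π.ker = V := by
      apply le_antisymm
      · intro x hx
        exact hfix x hx.2 hx.1
      · exact le_inf hVI hVW
    -- the index of `I` is even
    have hrel : (inertia V (lf l)).relIndex (inertia V (lf l) ⊔ π.ker) = 2 := by
      have hne : V ≠ π.ker := fun h => hw0V (h ▸ hw0)
      have hlt : Nat.card V < Nat.card π.ker := by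
        refine lt_of_le_of_ne (Subgroup.card_le_of_le hVW) fun h => hne ?_
        exact Subgroup.eq_of_le_of_card_ge hVW h.ge
      have h1 : V.relIndex π.ker = 2 := by
        have h2 := Subgroup.card_mul_index (V.subgroupOf π.ker)
        rw [Nat.card_congr (Subgroup.subgroupOfEquivOfLe hVW).toEquiv] at h2
        have h3 : V.relIndex π.ker = (V.subgroupOf π.ker).index := rfl
        rw [← h3] at h2
        have hVpos : 0 < Nat.card V := Nat.card_pos
        have h4 : V.relIndex π.ker ≤ 2 := by
          rw [← h2] at hcV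
          have h5 : Nat.card V * V.relIndex π.ker ≤ Nat.card V * 2 := by rw [mul_comm _ 2]; exact hcV
          exact Nat.le_of_mul_le_mul_left h5 hVpos
        have h5 : V.relIndex π.ker ≠ 0 := by
          intro h
          rw [h, mul_zero] at h2
          omega
        have h6 : V.relIndex π.ker ≠ 1 := by
          intro h
          rw [h, mul_one] at h2
          omega
        omega
      -- orders
      have hrc : ∀ A B : Subgroup X, A ≤ B → Nat.card A * A.relIndex B = Nat.card B := by
        intro A B hAB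
        have h2 := Subgroup.card_mul_index (A.subgroupOf B)
        rwa [Nat.card_congr (Subgroup.subgroupOfEquivOfLe hAB).toEquiv] at h2
      have e1 := hrc V π.ker hVW
      rw [h1] at e1
      have e2 := hrc π.ker (inertia V (lf l) ⊔ π.ker) le_sup_right
      rw [Subgroup.relIndex_sup_right] at e2
      have e3 := hrc (π.ker ⊓ inertia V (lf l)) (inertia V (lf l)) inf_le_right
      rw [Subgroup.inf_relIndex_right, inf_comm, hint] at e3
      have e4 := hrc (inertia V (lf l)) (inertia V (lf l) ⊔ π.ker) le_sup_left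
      have hIpos : 0 < Nat.card (inertia V (lf l)) := Nat.card_pos
      apply Nat.eq_of_mul_eq_mul_left hIpos
      rw [e4, ← e2, ← e1, ← e3]
      ring
    have h2I : 2 ∣ (inertia V (lf l)).index := by
      rw [← Subgroup.relIndex_mul_index (le_sup_left : inertia V (lf l) ≤ inertia V (lf l) ⊔ π.ker), hrel]
      exact Dvd.intro _ rfl
    obtain ⟨d, ⟨χ, rfl⟩, hχ⟩ := exists_degree_one V l
    refine odd_false p hodd hr hs hr2 hs2 hrd hsd hall D π V l hπ hint ?_ hno1 hno2 (Or.inl ?_)
    · intro h
      have h1 : inertia V (lf l) ⊔ π.ker = ⊤ := by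
        rw [eq_top_iff]
        intro x _
        have h2 : π x ∈ (inertia V (lf l)).map π := by rw [h]; trivial
        obtain ⟨y, hy, hyx⟩ := h2
        have h3 : y⁻¹ * x ∈ π.ker := by
          rw [MonoidHom.mem_ker, map_mul, map_inv, hyx, inv_mul_cancel]
        have h4 := mul_mem (mem_sup_left (T := π.ker) hy) (mem_sup_right (S := inertia V (lf l)) h3)
        rwa [mul_inv_cancel_left] at h4
      rw [h1, Subgroup.relIndex_top_right] at hrel
      exact index_ne_two hX _ hrel
    · intro h
      apply hno1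
      exact ⟨χ, (Nat.Coprime.mul_dvd_of_dvd_of_dvd ((Nat.coprime_primes Nat.prime_two hp.out).2 hp2.symm) h2I h).trans hχ⟩

end min

end Cfsg.Agent.H658.Reg
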