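import Mathlib.LinearAlgebra.Matrix.GeneralLinearGroup.Projective
import Mathlib

/-!
# Orders of elements of `PGL(2,K)` (helper658)

`orderOf_pgl_le` : `o(x) (|K| - 1) ≤ |K|² - 1`.
-/

set_option autoImplicit false

namespace Cfsg.Agent.H658.Reg

open Matrix

theorem sq_eq {K : Type*} [Field K] (M : Matrix (Fin 2) (Fin 2) K) :
    M * M = (M 0 0 + M 1 1) • M + (M 0 1 * M 1 0 - M 0 0 * M 1 1) • (1 : Matrix (Fin 2) (Fin 2) K) := by
  ext i j
  fin_cases i <;> fin_cases j <;> simp [Matrix.mul_apply, Fin.sum_univ_two] <;> ring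

theorem pow_eq {K : Type*} [Field K] (M : Matrix (Fin 2) (Fin 2) K) (i : ℕ) :
    ∃ a b : K, M ^ i = a • (1 : Matrix (Fin 2) (Fin 2) K) + b • M := by
  induction i with
  | zero => exact ⟨1, 0, by simp⟩
  | succ n ih =>
    obtain ⟨a, b, h⟩ := ih
    refine ⟨b * (M 0 1 * M 1 0 - M 0 0 * M 1 1), a + b * (M 0 0 + M 1 1), ?_⟩
    rw [pow_succ, h, add_mul, smul_mul_assoc, one_mul, smul_mul_assoc, sq_eq, smul_add, smul_smul, smul_smul, add_smul]
    abel

theorem orderOf_pgl_le {K : Type*} [Field K] [Fintype K] (x : Matrix.ProjGenLinGroup (Fin 2) K) :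
    orderOf x * (Fintype.card K - 1) ≤ Fintype.card K ^ 2 - 1 := by
  classical
  obtain ⟨A, rfl⟩ := ProjGenLinGroup.mk_surjective x
  set M : Matrix (Fin 2) (Fin 2) K := (A : Matrix (Fin 2) (Fin 2) K) with hM
  choose a b hab using fun i : ℕ => pow_eq M i
  have hA : ∀ i : ℕ, ((A ^ i : GL (Fin 2) K) : Matrix (Fin 2) (Fin 2) K) = M ^ i := fun i => by
    rw [Units.val_pow_eq_pow_val]
  have hne : ∀ i : ℕ, M ^ i ≠ 0 := by
    intro i h
    rw [← hA] at h
    have h1 := (A ^ i : GL (Fin 2) K).mul_inv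
    rw [h, zero_mul] at h1
    exact zero_ne_one h1
  let f : Fin (orderOf (ProjGenLinGroup.mk A)) × Kˣ → {v : K × K // v ≠ 0} := fun z =>
    ⟨((z.2 : K) * a z.1, (z.2 : K) * b z.1), by
      intro h
      have h1 : (z.2 : K) * a z.1 = 0 := congrArg Prod.fst h
      have h2 : (z.2 : K) * b z.1 = 0 := congrArg Prod.snd h
      have h3 := (mul_eq_zero.1 h1).resolve_left z.2.ne_zero
      have h4 := (mul_eq_zero.1 h2).resolve_left z.2.ne_zero
      apply hne z.1
      rw [hab, h3, h4, zero_smul, zero_smul, add_zero]⟩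
  have hf : Function.Injective f := by
    rintro ⟨i, c⟩ ⟨j, d⟩ h
    have h1 : (c : K) * a i = (d : K) * a j := congrArg (fun v : {v : K × K // v ≠ 0} => v.1.1) h
    have h2 : (c : K) * b i = (d : K) * b j := congrArg (fun v : {v : K × K // v ≠ 0} => v.1.2) h
    have h3 : (c : K) • M ^ (i : ℕ) = (d : K) • M ^ (j : ℕ) := by
      rw [hab, hab, smul_add, smul_add, smul_smul, smul_smul, smul_smul, smul_smul, h1, h2]
    have h4 : (ProjGenLinGroup.mk A) ^ (i : ℕ) = (ProjGenLinGroup.mk A) ^ (j : ℕ) := by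
      rw [← map_pow, ← map_pow, ProjGenLinGroup.mk_eq_mk_iff]
      refine ⟨c * d⁻¹, ?_⟩
      apply Units.ext
      rw [Units.val_mul, hA, hA, GeneralLinearGroup.coe_scalar]
      have h5 : M ^ (j : ℕ) = ((d⁻¹ : Kˣ) : K) • ((c : K) • M ^ (i : ℕ)) := by
        rw [h3, smul_smul, ← Units.val_mul, inv_mul_cancel, Units.val_one, one_smul]
      rw [h5, smul_smul]
      rw [show ((scalar (Fin 2)) ((c * d⁻¹ : Kˣ) : K) : Matrix (Fin 2) (Fin 2) K) =
        ((c * d⁻¹ : Kˣ) : K) • (1 : Matrix (Fin 2) (Fin 2) K) by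
          rw [Matrix.smul_one_eq_diagonal]; rfl]
      rw [mul_smul_comm, mul_one, mul_comm c]
      rfl
    have hij : i = j := by
      apply Fin.ext
      have h5 := pow_inj_mod.1 h4
      rwa [Nat.mod_eq_of_lt i.2, Nat.mod_eq_of_lt j.2] at h5
    subst hij
    have hcd : c = d := by
      apply Units.ext
      by_contra hcd
      apply hne i
      have h5 : ((c : K) - d) • M ^ (i : ℕ) = 0 := by rw [sub_smul, h3, sub_self]
      exact (smul_eq_zero.1 h5).resolve_left (sub_ne_zero.2 hcd)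
    rw [hcd]
  have h := Nat.card_le_card_of_injective f hf
  rw [Nat.card_prod, Nat.card_eq_fintype_card (α := Fin _), Fintype.card_fin, Nat.card_eq_fintype_card (α := Kˣ),
    Fintype.card_units] at h
  refine h.trans (le_of_eq ?_)
  rw [Nat.card_eq_fintype_card, Fintype.card_subtype_compl, Fintype.card_subtype_eq, Fintype.card_prod, pow_two]

/-- Orders of elements of groups embedded in `PGL(2,K)`. -/
theorem orderOf_le_of_pgl {K : Type*} [Field K] [Fintype K] {H : Type*} [Group H]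
    (h : Nonempty (H ≃* Matrix.ProjectiveSpecialLinearGroup (Fin 2) K) ∨
      Nonempty (H ≃* Matrix.ProjGenLinGroup (Fin 2) K)) (x : H) :
    orderOf x ≤ Fintype.card K + 1 := by
  have h1 : orderOf x * (Fintype.card K - 1) ≤ Fintype.card K ^ 2 - 1 := by
    rcases h with ⟨⟨e⟩⟩ | ⟨⟨e⟩⟩
    · rw [← MulEquiv.orderOf_eq e x, ← orderOf_injective _ ProjectiveSpecialLinearGroup.toPGL_injective]
      exact orderOf_pgl_le _
    · rw [← MulEquiv.orderOf_eq e x]
      exact orderOf_pgl_le _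
  have h2 : 1 < Fintype.card K := Fintype.one_lt_card
  have h3 : Fintype.card K ^ 2 - 1 = (Fintype.card K + 1) * (Fintype.card K - 1) := by
    have := Nat.sq_sub_sq (Fintype.card K) 1
    simpa using this
  rw [h3] at h1
  exact Nat.le_of_mul_le_mul_right h1 (by omega)

end Cfsg.Agent.H658.Reg
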