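import Cfsg.Agent.H658.Reg.SubA
import Cfsg.Agent.H658.Reg.PglOrd
import Cfsg.Agent.S0799
import Cfsg.Agent.H436.TTPsl2
import Cfsg.Agent.ClassicalGeometry.PSL2Basic

/-!
# Subgroups of odd index of `PSL(2,q)` containing an element of order `(q-1)/2` (helper658, S4920)

`lemB` : `q` odd, `r ∣ q - 1`, `s ∣ q + 1` odd primes, `J` proper of odd index containing an element of order `(q-1)/2`: either
`s ∣ |S : J|`, `|J| ∣ q - 1` and `J` is not abelian, or `q = 11` and `J ≅ A₅`.
-/

set_option autoImplicit false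
set_option linter.unusedSectionVars false

namespace Cfsg.Agent.H658.Reg

open Matrix

theorem perm4_ord : ∀ σ : Equiv.Perm (Fin 4), σ ^ 2 = 1 ∨ σ ^ 3 = 1 ∨ σ ^ 4 = 1 := by
  decide +kernel

theorem perm5_ord : ∀ σ : Equiv.Perm (Fin 5), Equiv.Perm.sign σ = 1 → σ ^ 2 = 1 ∨ σ ^ 3 = 1 ∨ σ ^ 5 = 1 := by
  decide +kernel

theorem ord4 (σ : Equiv.Perm (Fin 4)) : orderOf σ ≤ 4 := by
  rcases perm4_ord σ with h | h | h
  · exact (orderOf_le_of_pow_eq_one (by norm_num) h).trans (by norm_num)
  · exact (orderOf_le_of_pow_eq_one (by norm_num) h).trans (by norm_num)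
  · exact orderOf_le_of_pow_eq_one (by norm_num) h

theorem ord5 (σ : alternatingGroup (Fin 5)) : orderOf σ ≤ 5 := by
  rw [← Subgroup.orderOf_coe]
  rcases perm5_ord σ (Equiv.Perm.mem_alternatingGroup.1 σ.2) with h | h | h
  · exact (orderOf_le_of_pow_eq_one (by norm_num) h).trans (by norm_num)
  · exact (orderOf_le_of_pow_eq_one (by norm_num) h).trans (by norm_num)
  · exact orderOf_le_of_pow_eq_one (by norm_num) h

/-- A dihedral group of degree at least three is not commutative. -/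
theorem dihedral_ne {k : ℕ} (hk : 3 ≤ k) : ∃ a b : DihedralGroup k, a * b ≠ b * a := by
  refine ⟨DihedralGroup.r 1, DihedralGroup.sr 0, ?_⟩
  rw [DihedralGroup.r_mul_sr, DihedralGroup.sr_mul_r]
  intro h
  have h1 : (0 : ZMod k) - 1 = 0 + 1 := by
    injection h
  have h2 : ((2 : ℕ) : ZMod k) = 0 := by
    push_cast
    linear_combination -h1
  have h3 := (ZMod.natCast_eq_zero_iff 2 k).1 h2
  have := Nat.le_of_dvd (by norm_num) h3
  omega

theorem lemB {F : Type} [Field F] [Fintype F] (p : ℕ) [hp : Fact p.Prime] [CharP F p] {r s : ℕ} (hodd : Odd (Fintype.card F))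
    (hr : r.Prime) (hs : s.Prime) (hr2 : r ≠ 2) (hs2 : s ≠ 2) (hrd : r ∣ Fintype.card F - 1) (hsd : s ∣ Fintype.card F + 1)
    (J : Subgroup (ProjectiveSpecialLinearGroup (Fin 2) F)) (hJ : J ≠ ⊤) (hidx : Odd J.index) (z : J)
    (hz : orderOf z = (Fintype.card F - 1) / 2) :
    (s ∣ J.index ∧ Nat.card J ∣ Fintype.card F - 1 ∧ ∃ a b : J, a * b ≠ b * a) ∨
    (Fintype.card F = 11 ∧ Nonempty (J ≃* alternatingGroup (Fin 5))) := by
  classical
  have hcard := (H525.L2.frame (MulEquiv.refl (ProjectiveSpecialLinearGroup (Fin 2) F))).card_odd hodd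
  have hmul := J.card_mul_index
  have hF1 : 1 < Fintype.card F := Fintype.one_lt_card
  have hr3 : 3 ≤ r := by
    have := hr.two_le
    omega
  have hs3 : 3 ≤ s := by
    have := hs.two_le
    omega
  have hidx0 : J.index ≠ 0 := Subgroup.index_ne_zero_of_finite
  have hcJ0 : Nat.card J ≠ 0 := Nat.card_pos.ne'
  set q := Fintype.card F with hq
  have hcop : ∀ t : ℕ, t.Prime → t ∣ q + 1 → t ∣ q - 1 → t = 2 := by
    intro t ht h1 h2
    have h3 : q + 1 = (q - 1) + 2 := by omega
    rw [h3] at h1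
    exact (Nat.prime_dvd_prime_iff_eq ht Nat.prime_two).1 ((Nat.dvd_add_right h2).1 h1)
  obtain ⟨m, hm⟩ := hodd
  -- `q ≥ 11`
  have h11 : 11 ≤ q := by
    have h1 := Nat.le_of_dvd (by omega) hrd
    by_contra hlt
    have h2 : q = 5 ∨ q = 7 ∨ q = 9 ∨ q = 3 := by omega
    rcases h2 with h2 | h2 | h2 | h2
    · have : r ∣ 2 ^ 2 := by rw [h2] at hrd; exact hrd
      exact hr2 ((Nat.prime_dvd_prime_iff_eq hr Nat.prime_two).1 (hr.dvd_of_dvd_pow this))
    · have : s ∣ 2 ^ 3 := by rw [h2] at hsd; exact hsd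
      exact hs2 ((Nat.prime_dvd_prime_iff_eq hs Nat.prime_two).1 (hs.dvd_of_dvd_pow this))
    · have : r ∣ 2 ^ 3 := by rw [h2] at hrd; exact hrd
      exact hr2 ((Nat.prime_dvd_prime_iff_eq hr Nat.prime_two).1 (hr.dvd_of_dvd_pow this))
    · omega
  have hgcd : Nat.gcd 2 (q - 1) = 2 := Nat.gcd_eq_left (by omega)
  have hhalf1 : (q - 1) / 2 = m := by omega
  have hhalf2 : (q + 1) / 2 = m + 1 := by omega
  have hq1 : q - 1 = 2 * m := by omega
  have hq2 : q + 1 = 2 * (m + 1) := by omega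
  have hcS : Nat.card (ProjectiveSpecialLinearGroup (Fin 2) F) = (m + 1) * (q * (2 * m)) := by
    have h1 : 2 * Nat.card (ProjectiveSpecialLinearGroup (Fin 2) F) = 2 * ((m + 1) * (q * (2 * m))) := by
      rw [hcard, hq1, hq2]; ring
    exact Nat.eq_of_mul_eq_mul_left (by norm_num) h1
  rw [hcS] at hmul
  rw [hhalf1] at hz
  have hmJ : m ∣ Nat.card J := hz ▸ orderOf_dvd_natCard z
  have hrm : r ∣ m := by
    rw [hq1] at hrd
    exact (Nat.Coprime.dvd_of_dvd_mul_left ((Nat.coprime_primes hr Nat.prime_two).2 hr2) hrd)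
  have hodd' : ¬ 2 ∣ J.index := hidx.not_two_dvd_nat
  have hD := S0799.result hq.symm p J
  rw [hgcd, hhalf1, hhalf2] at hD
  rcases hD with ⟨k, hk, hkJ⟩ | ⟨P, K, hK, ⟨e⟩⟩ | ⟨⟨e⟩⟩ | ⟨⟨e⟩⟩ | ⟨⟨e⟩⟩ | ⟨K, iK, iK', n, hKn, hKe⟩
  · -- cyclic or dihedral
    rcases hkJ with ⟨-, hkJ⟩ | ⟨⟨e⟩⟩
    · exfalso
      apply hodd'
      rcases hk with ⟨l, hl⟩ | ⟨l, hl⟩
      · have h1 : Nat.card J * J.index = Nat.card J * (2 * (l * (q * m))) := by
          rw [hmul, hkJ, hl]; ring
        exact ⟨_, Nat.eq_of_mul_eq_mul_left (Nat.pos_of_ne_zero hcJ0) h1⟩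
      · have h1 : Nat.card J * J.index = Nat.card J * (2 * (l * (q * (m + 1)))) := by
          rw [hmul, hkJ]
          calc (m + 1) * (q * (2 * m)) = 2 * (m * (q * (m + 1))) := by ring
            _ = 2 * ((k * l) * (q * (m + 1))) := by rw [← hl]
            _ = _ := by ring
        exact ⟨_, Nat.eq_of_mul_eq_mul_left (Nat.pos_of_ne_zero hcJ0) h1⟩
    · left
      have hk0 : k ≠ 0 := by
        rintro rfl
        rcases hk with hk | hk
        · have := Nat.eq_zero_of_zero_dvd hk; omega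
        · have := Nat.eq_zero_of_zero_dvd hk; omega
      have : NeZero k := ⟨hk0⟩
      have hcJ : Nat.card J = 2 * k := by
        rw [Nat.card_congr e.toEquiv, DihedralGroup.nat_card]
      have hrk : r ∣ k := by
        have h1 : r ∣ 2 * k := hrm.trans (hcJ ▸ hmJ)
        exact (Nat.Coprime.dvd_of_dvd_mul_left ((Nat.coprime_primes hr Nat.prime_two).2 hr2) h1)
      have hkm : k ∣ m := by
        rcases hk with hk | hk
        · exfalso
          apply hr2
          refine hcop r hr ?_ hrd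
          rw [hq2]
          exact Dvd.dvd.mul_left (hrk.trans hk) 2
        · exact hk
      have hcq : Nat.card J ∣ q - 1 := by
        rw [hcJ, hq1]
        exact Nat.mul_dvd_mul_left 2 hkm
      refine ⟨?_, hcq, ?_⟩
      · have h1 : s ∣ Nat.card J * J.index := by
          rw [hmul]
          have h2 : s ∣ m + 1 := by
            rw [hq2] at hsd
            exact (Nat.Coprime.dvd_of_dvd_mul_left ((Nat.coprime_primes hs Nat.prime_two).2 hs2) hsd)
          exact Dvd.dvd.mul_right h2 _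
        rcases (Nat.Prime.dvd_mul hs).1 h1 with h2 | h2
        · exact absurd (hcop s hs hsd (h2.trans hcq)) hs2
        · exact h2
      · obtain ⟨a, b, hab⟩ := dihedral_ne (k := k) (hr3.trans (Nat.le_of_dvd (Nat.pos_of_ne_zero hk0) hrk))
        refine ⟨e.symm a, e.symm b, fun h => hab ?_⟩
        rw [← map_mul, ← map_mul] at h
        exact e.symm.injective h
  · -- in the normalizer of a Sylow subgroup
    exfalso
    apply hodd'
    have h1 := (Subgroup.normalizer ((P : Subgroup (ProjectiveSpecialLinearGroup (Fin 2) F)) :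
      Set (ProjectiveSpecialLinearGroup (Fin 2) F))).card_mul_index
    rw [H436.TT.index_normalizer p P, hcS, ← hq, hq2] at h1
    obtain ⟨l, hl⟩ := Subgroup.card_dvd_of_le hK
    rw [← Nat.card_congr e.toEquiv] at hl
    rw [hl, ← hmul] at h1
    have h2 : Nat.card J * (l * (2 * (m + 1))) = Nat.card J * J.index := by rw [← h1]; ring
    have h3 := Nat.eq_of_mul_eq_mul_left (Nat.pos_of_ne_zero hcJ0) h2
    exact ⟨l * (m + 1), by rw [← h3]; ring⟩
  · exfalso
    have h1 := ord4 ((e z : alternatingGroup (Fin 4)) : Equiv.Perm (Fin 4))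
    rw [Subgroup.orderOf_coe, MulEquiv.orderOf_eq, hz] at h1
    omega
  · exfalso
    have h1 := ord4 (e z)
    rw [MulEquiv.orderOf_eq, hz] at h1
    omega
  · right
    have h1 := ord5 (e z)
    rw [MulEquiv.orderOf_eq, hz] at h1
    exact ⟨by omega, ⟨e⟩⟩
  · exfalso
    have h1 := orderOf_le_of_pgl hKe z
    rw [hz] at h1
    have hK1 : 1 < Fintype.card K := Fintype.one_lt_card
    have hn0 : n ≠ 0 := by
      rintro rfl
      rw [pow_zero] at hKn
      omega
    by_cases hn1 : n = 1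
    · rw [hn1, pow_one] at hKn
      -- the order is too large
      have hcK : 2 * Nat.card (ProjectiveSpecialLinearGroup (Fin 2) K) = 2 * ((m + 1) * (q * (2 * m))) := by
        have := (H525.L2.frame (MulEquiv.refl (ProjectiveSpecialLinearGroup (Fin 2) K))).card_odd
          (by rw [hKn]; exact ⟨m, hm⟩)
        rw [this, hKn, hq1, hq2]
        ring
      have hcK' := Nat.eq_of_mul_eq_mul_left (by norm_num) hcK
      have hle : Nat.card (ProjectiveSpecialLinearGroup (Fin 2) F) ≤ Nat.card J := by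
        rcases hKe with ⟨⟨e⟩⟩ | ⟨⟨e⟩⟩
        · rw [Nat.card_congr e.toEquiv, hcK', hcS]
        · have : Finite (ProjGenLinGroup (Fin 2) K) := Finite.of_surjective _ ProjGenLinGroup.mk_surjective
          rw [Nat.card_congr e.toEquiv, hcS, ← hcK']
          exact Nat.card_le_card_of_injective _ ProjectiveSpecialLinearGroup.toPGL_injective
      exact hJ (Subgroup.eq_top_of_le_card J hle)
    · have h2 : Fintype.card K ^ 2 ≤ q := by
        rw [← hKn]
        exact Nat.pow_le_pow_right (by omega) (by omega)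
      have h3 : Fintype.card K ≤ 3 := by nlinarith
      have h4 : Fintype.card K = 2 ∨ Fintype.card K = 3 := by omega
      rcases h4 with h4 | h4
      · rw [h4] at hKn
        have : 2 ∣ q := hKn ▸ dvd_pow_self 2 hn0
        omega
      · rw [h4] at h1
        omega

end Cfsg.Agent.H658.Reg
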