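import Cfsg.Agent.H658.Reg.EndChar
import Cfsg.Agent.H658.Reg.Comb
import Cfsg.Agent.H988.DG.NonSolvC

/-!
# The perfect normal subgroup over `PSL(2,F)` (helper658, S4920)

For `T : Fr G` and `T0 : Top0 G` with the same image modulo the radical `R`: `pi : N → PSL(2,F)` surjective with
solvable kernel `N ∩ R`; if `|N ∩ R| ≤ 2` then `N` and `R` commute and `K = N R`.
-/

set_option autoImplicit false
set_option linter.unusedSectionVars false

namespace Cfsg.Agent.H658.Reg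

open Cfsg Subgroup Cfsg.Agent.H33 Cfsg.Agent.H988.DG
open scoped commutatorElement

universe u

section

variable {G : Type u} [Group G] [Finite G] (T : Fr G) (T0 : Top0 G)
  (hN : T0.N.map (QuotientGroup.mk' T.R) = T.K.map (QuotientGroup.mk' T.R))

include hN

theorem le_K : T0.N ≤ T.K := by
  intro x hx
  have h1 : (QuotientGroup.mk' T.R) x ∈ T.K.map (QuotientGroup.mk' T.R) := by
    rw [← hN]
    exact ⟨x, hx, rfl⟩
  obtain ⟨k, hk, hkx⟩ := h1
  have h2 : k⁻¹ * x ∈ T.R := QuotientGroup.eq.1 hkx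
  have h3 := T.K.mul_mem hk (T.le h2)
  rwa [mul_inv_cancel_left] at h3

theorem exists_mul {k : G} (hk : k ∈ T.K) : ∃ n ∈ T0.N, ∃ r ∈ T.R, n * r = k := by
  have h1 : (QuotientGroup.mk' T.R) k ∈ T0.N.map (QuotientGroup.mk' T.R) := by
    rw [hN]
    exact ⟨k, hk, rfl⟩
  obtain ⟨n, hn, hnk⟩ := h1
  exact ⟨n, hn, n⁻¹ * k, QuotientGroup.eq.1 hnk, by group⟩

/-- the map to `PSL(2,F)` -/
noncomputable def pi : T0.N →* T.L := T.f.comp (Subgroup.inclusion (le_K T T0 hN))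

theorem mem_pi {x : T0.N} : x ∈ (pi T T0 hN).ker ↔ (x : G) ∈ T.R := by
  rw [MonoidHom.mem_ker]
  show T.f (Subgroup.inclusion (le_K T T0 hN) x) = 1 ↔ _
  rw [← MonoidHom.mem_ker, T.mem_ker]
  rfl

theorem pi_surj : Function.Surjective (pi T T0 hN) := by
  intro y
  obtain ⟨k, rfl⟩ := T.f_surj y
  obtain ⟨n, hn, r, hr, hnr⟩ := exists_mul T T0 hN k.2
  refine ⟨⟨n, hn⟩, ?_⟩
  show T.f (Subgroup.inclusion (le_K T T0 hN) ⟨n, hn⟩) = T.f k
  rw [← mul_inv_eq_one, ← map_inv, ← map_mul, ← MonoidHom.mem_ker, T.mem_ker]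
  show n * (k : G)⁻¹ ∈ T.R
  rw [← hnr]
  have h1 := T.hR.conj_mem _ (T.R.inv_mem hr) n
  have h2 : n * (n * r)⁻¹ = n * r⁻¹ * n⁻¹ := by group
  rw [h2]
  exact h1

theorem pi_solv : Group.IsSolvable (pi T T0 hN).ker := by
  have hs : Group.IsSolvable T.R := T.sol
  let g : (pi T T0 hN).ker →* T.R :=
    { toFun := fun x => ⟨((x : T0.N) : G), (mem_pi T T0 hN).1 x.2⟩
      map_one' := rfl
      map_mul' := fun _ _ => rfl }
  have hg : Function.Injective g := by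
    intro x y h
    apply Subtype.ext
    apply Subtype.ext
    exact congrArg (fun z : T.R => (z : G)) h
  exact Group.isSolvable_of_isSolvable_injective (f := g) hg

omit hN in
theorem N_perfect : commutator T0.N = ⊤ := perfect_of T0.perf

theorem card_inf : Nat.card (T0.N ⊓ T.R : Subgroup G) = Nat.card (pi T T0 hN).ker := by
  refine Nat.card_congr ⟨fun x => ⟨⟨x.1, x.2.1⟩, (mem_pi T T0 hN).2 x.2.2⟩,
    fun x => ⟨((x : T0.N) : G), x.1.2, (mem_pi T T0 hN).1 x.2⟩, fun _ => rfl, fun _ => rfl⟩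

omit [Finite G] in
omit hN in
/-- A normal subgroup of order at most two is central. -/
theorem central_of_card_two {Z : Subgroup G} [hZ : Z.Normal] [Finite Z] (h : Nat.card Z ≤ 2) {z : G} (hz : z ∈ Z) (g : G) :
    g * z = z * g := by
  by_cases h1 : z = 1
  · rw [h1, mul_one, one_mul]
  have h2 := hZ.conj_mem z hz g
  have h3 : g * z * g⁻¹ ≠ 1 := by
    intro h3
    apply h1
    rw [mul_inv_eq_one] at h3
    exact mul_eq_left.1 h3
  by_contra hcon
  have h4 : g * z * g⁻¹ ≠ z := fun h4 => hcon (mul_inv_eq_iff_eq_mul.1 h4)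
  classical
  let t : Finset Z := {1, ⟨z, hz⟩, ⟨g * z * g⁻¹, h2⟩}
  have ht : t.card = 3 := by
    refine Finset.card_eq_three.2 ⟨1, ⟨z, hz⟩, ⟨g * z * g⁻¹, h2⟩, ?_, ?_, ?_, rfl⟩
    · exact fun h => h1 (congrArg Subtype.val h).symm
    · exact fun h => h3 (congrArg Subtype.val h).symm
    · exact fun h => h4 (congrArg Subtype.val h).symm
  have h5 : t.card ≤ Nat.card Z := by
    have := Fintype.ofFinite Z
    rw [Nat.card_eq_fintype_card]
    exact Finset.card_le_univ t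
  omega

theorem comm_of_card (hc : Nat.card (pi T T0 hN).ker ≤ 2) : ∀ n ∈ T0.N, ∀ r ∈ T.R, n * r = r * n := by
  have hZc : Nat.card (T0.N ⊓ T.R : Subgroup G) ≤ 2 := by rwa [card_inf T T0 hN]
  have hcen : ∀ z ∈ T0.N ⊓ T.R, ∀ g : G, g * z = z * g := fun z hz g => central_of_card_two hZc hz g
  have h1 : ⁅T0.N, T.R⁆ ≤ T0.N ⊓ T.R := Subgroup.commutator_le_inf T0.N T.R
  have h2 : ⁅⁅T0.N, T.R⁆, T0.N⁆ = ⊥ := by
    rw [eq_bot_iff]
    refine (Subgroup.commutator_mono h1 le_rfl).trans ?_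
    rw [Subgroup.commutator_le]
    intro a ha b _
    rw [Subgroup.mem_bot, commutatorElement_eq_one_iff_mul_comm]
    exact (hcen a ha b).symm
  have h3 : ⁅⁅T.R, T0.N⁆, T0.N⁆ = ⊥ := by
    rw [Subgroup.commutator_comm T.R T0.N]
    exact h2
  have h4 : ⁅⁅T0.N, T0.N⁆, T.R⁆ = ⊥ := Subgroup.commutator_commutator_eq_bot_of_rotate h2 h3
  rw [T0.perf] at h4
  intro n hn r hr
  have h5 : ⁅n, r⁆ ∈ ⁅T0.N, T.R⁆ := Subgroup.commutator_mem_commutator hn hr
  rw [h4, Subgroup.mem_bot, commutatorElement_eq_one_iff_mul_comm] at h5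
  exact h5

/-- the map `N × R → K` -/
noncomputable def mulHom (hcomm : ∀ n ∈ T0.N, ∀ r ∈ T.R, n * r = r * n) : T0.N × T.R →* T.K where
  toFun x := ⟨(x.1 : G) * x.2, T.K.mul_mem (le_K T T0 hN x.1.2) (T.le x.2.2)⟩
  map_one' := by
    apply Subtype.ext
    show ((1 : T0.N) : G) * ((1 : T.R) : G) = 1
    simp
  map_mul' x y := by
    apply Subtype.ext
    change (x.1 : G) * y.1 * (x.2 * y.2) = x.1 * x.2 * (y.1 * y.2)
    have := hcomm y.1 y.1.2 x.2 x.2.2
    calc (x.1 : G) * y.1 * (x.2 * y.2) = x.1 * (y.1 * x.2) * y.2 := by group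
      _ = x.1 * (x.2 * y.1) * y.2 := by rw [this]
      _ = x.1 * x.2 * (y.1 * y.2) := by group

theorem mulHom_surj (hcomm : ∀ n ∈ T0.N, ∀ r ∈ T.R, n * r = r * n) :
    Function.Surjective (mulHom T T0 hN hcomm) := by
  rintro ⟨k, hk⟩
  obtain ⟨n, hn, r, hr, rfl⟩ := exists_mul T T0 hN hk
  exact ⟨(⟨n, hn⟩, ⟨r, hr⟩), rfl⟩

omit hN in
theorem index_Kb : T.K.index = T.Kb.index := by
  have h1 := Subgroup.index_map T.K (QuotientGroup.mk' T.R)
  rw [QuotientGroup.ker_mk', sup_eq_left.2 T.le, MonoidHom.range_eq_top.2 (QuotientGroup.mk'_surjective T.R),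
    Subgroup.index_top, mul_one] at h1
  exact h1.symm

end


end Cfsg.Agent.H658.Reg
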