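import Cfsg.Agent.H658.Reg.DegSpor
import Cfsg.Agent.H677.DG.TriBM
import Cfsg.Agent.H671.GraphRest
import Cfsg.Agent.H477.HC.SpSix
import Cfsg.Agent.H678.DG.Tits

/-!
# The graph facts for S4920 from the classification (helper658)

* `tri_spor` : the degree graph of a sporadic simple group has a triangle;
* `factTri_of`, `factDeg_of` : `FactTri` and `FactDeg` from `KnownAll` and `Herzog`.
-/

set_option autoImplicit false
set_option maxRecDepth 100000

namespace Cfsg.Agent.H658.Reg.Spor

open Cfsg Cfsg.Agent.H671 Cfsg.Agent.H671.H5 Cfsg.Agent.H671.GraphAsm Cfsg.Agent.H658.Reg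

universe u

theorem tri_spor (S : Type u) [Group S] [Finite S] [IsSimpleGroup S] (h : IsSporadicGroup S) :
    ∃ p q r : ℕ, H5.Adj p q S ∧ H5.Adj q r S ∧ H5.Adj p r S := by
  rcases h with h | h | h | h | h | h | h | h | h | h | h | h | h | h | h | h | h | h | h | h | h | h | h | h | h | h
  · exact (H678.DG.Mathieu.facts_m11 h).tri
  · exact (H678.DG.Mathieu.facts_m12 h).tri
  · exact (H653.Spor.Mathieu.facts_m22 h).tri
  · exact (H653.Spor.Mathieu.facts_m23 h).tri
  · exact (H653.Spor.Mathieu.facts_m24 h).tri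
  · exact (H653.Spor.J1.facts S h).tri
  · exact (H678.DG.Rows.facts_j2 h).tri
  · exact (H653.Spor.J3.facts S h).tri
  · exact (H492.IMJ4.facts_j4 h).tri
  · exact (H843.IMC.Rows.facts_co1 h).tri
  · exact H677.TriSpor.co2 h
  · exact (H843.IMC.Rows.facts_co3 h).tri
  · exact (H678.DG.McL.facts_mcl h).tri
  · exact (H678.DG.HS.facts_hs h).tri
  · exact (H678.DG.Rows.facts_suz h).tri
  · exact (H678.DG.He.facts_he h).tri
  · exact H677.TriSpor.ru h
  · exact (H492.FactsON.facts_on h).tri
  · obtain ⟨e⟩ := h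
    refine H677.TriSpor.Tri.of_equiv e ?_
    obtain ⟨χ, -, h2⟩ := H314.LyOrb.exists_deg_ly
    exact H677.TriSpor.tri_of_degree (d := 1534500) ⟨χ 2, h2 2⟩ (p := 2) (q := 3) (r := 5) (by norm_num) (by norm_num)
      (by norm_num) (by norm_num) (by norm_num) (by norm_num) (by norm_num)
  · exact H677.TriSpor.fi22 h
  · exact H677.TriSpor.fi23 h
  · exact H30.GraphFi24.tri_fi24 h
  · exact (H492.FactsHN.facts_hn h).tri
  · exact (H492.FactsTh.facts_th h).tri
  · exact H677.TriBM.tri_b h
  · exact H677.TriBM.tri_m h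

theorem tits (S : Type u) [Group S] [Finite S] [IsSimpleGroup S] (h : Lie.IsoTits S) : GFacts S := by
  have h1 := H678.DG.Tits.facts_tits h
  exact ⟨h1.conn, h1.ind, h1.tri⟩

theorem restAll : Rest.{u} := rest H477.HC.tsp62 tits

theorem factTri_of (hK : KnownAll.{u}) (hH : Herzog.{u}) : FactTri.{u} :=
  factTri hK hH restAll tri_spor

theorem factDeg_of (hK : KnownAll.{u}) (hH : Herzog.{u}) : FactDeg.{u} :=
  factDeg' hK (graph_split hK hH restAll)

end Cfsg.Agent.H658.Reg.Spor
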